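/-
Three-space with the dot product: the sign homomorphisms and the half turns.
-/
import Cfsg.Agent.Lib.Classical.SpinorCriterion
import Cfsg.Agent.Lib.Classical22.OrthMaxBasic
import Mathlib.LinearAlgebra.Dimension.Constructions
import Mathlib.LinearAlgebra.CrossProduct

set_option autoImplicit false
set_option linter.all false

namespace CfsgLib.Classical22.WrThree

open CfsgLib.Classical

universe u

variable {F : Type u} [Field F]

/-- Three-space. -/
abbrev U (F : Type u) := Fin 3 → F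

/-- The sum of squares. -/
def Qd (F : Type u) [Field F] : QuadraticForm F (U F) :=
  LinearMap.BilinMap.toQuadraticMap (LinearMap.mk₂ F (fun a b : U F => a ⬝ᵥ b) add_dotProduct
    (fun c a b => smul_dotProduct c a b) dotProduct_add fun c a b => dotProduct_smul c a b)

lemma Qd_apply (a : U F) : Qd F a = a ⬝ᵥ a := rfl

lemma polar_Qd (a b : U F) : QuadraticMap.polar (Qd F) a b = 2 * (a ⬝ᵥ b) := by
  simp only [QuadraticMap.polar, Qd_apply, add_dotProduct, dotProduct_add]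
  rw [dotProduct_comm b a]
  ring

/-- The standard basis vectors. -/
def bv (i : Fin 3) : U F := Pi.single i 1

lemma bv_dot (i j : Fin 3) : (bv i : U F) ⬝ᵥ bv j = if i = j then 1 else 0 := by
  rw [bv, single_dotProduct, one_mul, bv, Pi.single_apply]

lemma bv_self (i : Fin 3) : (bv i : U F) ⬝ᵥ bv i = 1 := by rw [bv_dot, if_pos rfl]

lemma dot_bv (a : U F) (i : Fin 3) : a ⬝ᵥ bv i = a i := by rw [bv, dotProduct_single, mul_one]

lemma bv_apply (i j : Fin 3) : (bv i : U F) j = if j = i then 1 else 0 := by rw [bv, Pi.single_apply]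

lemma bv_ne (i : Fin 3) : (bv i : U F) ≠ 0 := fun h => by simpa [bv] using congrFun h i

lemma Qd_bv (i : Fin 3) : Qd F (bv i) ≠ 0 := by rw [Qd_apply, bv_self]; exact one_ne_zero

lemma U_eq (a : U F) : a = a 0 • bv 0 + a 1 • bv 1 + a 2 • bv 2 := by
  funext i
  fin_cases i <;> simp [bv]

variable (h2 : (2 : F) ≠ 0)
include h2

lemma Qd_nd : PolarNondeg (Qd F) := fun a ha => funext fun i => by
  have h := ha (bv i)
  rw [polar_Qd, dot_bv] at h
  exact (mul_eq_zero.1 h).resolve_left h2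

lemma qRefl_dot {c : U F} (hc : Qd F c ≠ 0) (x : U F) :
    (qRefl (Qd F) hc).1 x = x - (2 * (x ⬝ᵥ c) / (c ⬝ᵥ c)) • c := by
  rw [qRefl_apply, polar_Qd, Qd_apply, mul_comm (c ⬝ᵥ c)⁻¹, div_eq_mul_inv]

omit h2

/-- Orthogonal maps preserve the dot product. -/
lemma dot_map (h2 : (2 : F) ≠ 0) (A : qAut (Qd F)) (a b : U F) : A.1 a ⬝ᵥ A.1 b = a ⬝ᵥ b := by
  have h := qAut_polar A a b
  rw [polar_Qd, polar_Qd] at h
  exact mul_left_cancel₀ h2 h

/-- Minus the identity. -/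
def negU (F : Type u) [Field F] : qAut (Qd F) :=
  ⟨LinearEquiv.neg F, fun a => by
    show Qd F (-a) = Qd F a
    exact QuadraticMap.map_neg _ a⟩

lemma negU_apply (a : U F) : (negU F).1 a = -a := rfl

lemma negU_comm (A : qAut (Qd F)) : negU F * A = A * negU F := qAut_ext fun x => by
  rw [qAut_mul_apply, qAut_mul_apply, negU_apply, negU_apply, map_neg]

lemma negU_mul_self : negU F * negU F = 1 := qAut_ext fun x => by
  rw [qAut_mul_apply, negU_apply, negU_apply, neg_neg]; rfl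

/-- The half turn around an anisotropic vector. -/
noncomputable def rho {c : U F} (hc : Qd F c ≠ 0) : qAut (Qd F) := negU F * qRefl (Qd F) hc

lemma rho_axis {c : U F} (hc : Qd F c ≠ 0) : (rho hc).1 c = c := by
  rw [rho, qAut_mul_apply, qRefl_self, negU_apply, neg_neg]

lemma rho_perp {c : U F} (hc : Qd F c ≠ 0) {x : U F} (hx : x ⬝ᵥ c = 0) : (rho hc).1 x = -x := by
  rw [rho, qAut_mul_apply, qRefl_fix _ hc (by rw [polar_Qd, hx, mul_zero]), negU_apply]

lemma rho_mul_self {c : U F} (hc : Qd F c ≠ 0) : rho hc * rho hc = 1 := by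
  rw [rho, mul_assoc, ← mul_assoc (qRefl _ hc), ← negU_comm, mul_assoc (negU F), qRefl_mul_self, mul_one,
    negU_mul_self]

lemma rho_conj (A : qAut (Qd F)) {c : U F} (hc : Qd F c ≠ 0) (hc' : Qd F (A.1 c) ≠ 0) :
    A * rho hc * A⁻¹ = rho hc' := by
  rw [rho, rho, ← qRefl_conj (Qd F) A hc hc', ← mul_assoc A, ← negU_comm, mul_assoc (negU F), mul_assoc (negU F),
    mul_assoc]

variable [Fintype F]

lemma hexU (h2 : (2 : F) ≠ 0) : Fintype.card F ≠ 2 ∨ Module.finrank F (U F) ≠ 4 := Or.inr (by simp)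

/-- The parity. -/
noncomputable def par (h2 : (2 : F) ≠ 0) : qAut (Qd F) →* Multiplicative (ZMod 2) :=
  (exists_parity_hom (Qd F) (Qd_nd h2) (reflGroup_eq_top (Qd F) (Qd_nd h2) (hexU h2))).choose

lemma par_refl (h2 : (2 : F) ≠ 0) {c : U F} (hc : Qd F c ≠ 0) :
    par h2 (qRefl (Qd F) hc) = Multiplicative.ofAdd 1 :=
  (exists_parity_hom (Qd F) (Qd_nd h2) (reflGroup_eq_top (Qd F) (Qd_nd h2) (hexU h2))).choose_spec.2 c hc

/-- The spinor sign. -/
noncomputable def spin (h2 : (2 : F) ≠ 0) : qAut (Qd F) →* ℤˣ :=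
  (Spin.exists_spin (Qd F) (Qd_nd h2) (hexU h2)).choose

lemma spin_refl (h2 : (2 : F) ≠ 0) {c : U F} (hc : Qd F c ≠ 0) :
    spin h2 (qRefl (Qd F) hc) = Spin.sqSign (c ⬝ᵥ c) :=
  (Spin.exists_spin (Qd F) (Qd_nd h2) (hexU h2)).choose_spec.1 c hc

lemma negU_eq (h2 : (2 : F) ≠ 0) :
    negU F = qRefl (Qd F) (Qd_bv 0) * qRefl (Qd F) (Qd_bv 1) * qRefl (Qd F) (Qd_bv 2) := qAut_ext fun x => by
  rw [qAut_mul_apply, qAut_mul_apply, qRefl_dot h2, qRefl_dot h2, qRefl_dot h2, bv_self, bv_self, bv_self, negU_apply]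
  simp only [sub_dotProduct, smul_dotProduct, bv_dot, dot_bv, smul_eq_mul]
  funext i
  fin_cases i <;> simp [bv] <;> ring

lemma par_negU (h2 : (2 : F) ≠ 0) : par h2 (negU F) = Multiplicative.ofAdd 1 := by
  rw [negU_eq h2, map_mul, map_mul, par_refl, par_refl, par_refl]
  rfl

lemma spin_negU (h2 : (2 : F) ≠ 0) : spin h2 (negU F) = 1 := by
  rw [negU_eq h2, map_mul, map_mul, spin_refl, spin_refl, spin_refl, bv_self, bv_self, bv_self, Spin.sqSign_one,
    one_mul, one_mul]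

lemma par_rho (h2 : (2 : F) ≠ 0) {c : U F} (hc : Qd F c ≠ 0) : par h2 (rho hc) = 1 := by
  rw [rho, map_mul, par_negU, par_refl]
  rfl

lemma spin_rho (h2 : (2 : F) ≠ 0) {c : U F} (hc : Qd F c ≠ 0) : spin h2 (rho hc) = Spin.sqSign (c ⬝ᵥ c) := by
  rw [rho, map_mul, spin_negU, spin_refl, one_mul]

lemma spin_eq_one_iff (h2 : (2 : F) ≠ 0) {c : U F} (hc : Qd F c ≠ 0) :
    spin h2 (rho hc) = 1 ↔ IsSquare (c ⬝ᵥ c) := by rw [spin_rho h2, Spin.sqSign_eq_one]

end CfsgLib.Classical22.WrThree
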