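/-
A nine-dimensional quadratic space as the tensor square of three-space; the tensor wreath group in Omega.
-/
import Cfsg.Agent.Lib.Classical22.OrthWreathThree.Dot

set_option autoImplicit false
set_option linter.all false

namespace CfsgLib.Classical22.WrThree

open CfsgLib.Classical

universe u

variable {F : Type u} [Field F] {V : Type u} [AddCommGroup V] [Module F V]

/-- A tensor square structure. -/
structure Tens (Q : QuadraticForm F V) (T : U F →ₗ[F] U F →ₗ[F] V) (k : F) : Prop where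
  k0 : k ≠ 0
  two : (2 : F) ≠ 0
  polar : ∀ a b c d, QuadraticMap.polar Q (T a b) (T c d) = k * ((a ⬝ᵥ c) * (b ⬝ᵥ d))
  dim : Module.finrank F V = 9

variable {Q : QuadraticForm F V} {T : U F →ₗ[F] U F →ₗ[F] V} {k : F} (E : Tens Q T k)
include E

lemma Tens.quad (a b : U F) : Q (T a b) = k / 2 * ((a ⬝ᵥ a) * (b ⬝ᵥ b)) := by
  have h := E.polar a b a b
  rw [quad_polar_self] at h
  rw [div_mul_eq_mul_div, eq_div_iff E.two, mul_comm, h]

lemma Tens.T_zero {a b : U F} (h : T a b = 0) : a = 0 ∨ b = 0 := by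
  by_contra hc
  rw [not_or] at hc
  obtain ⟨i, hi⟩ := Function.ne_iff.1 hc.1
  obtain ⟨j, hj⟩ := Function.ne_iff.1 hc.2
  have h1 := E.polar a b (bv i) (bv j)
  rw [h, QuadraticMap.polar_zero_left, dot_bv, dot_bv] at h1
  exact mul_ne_zero E.k0 (mul_ne_zero hi hj) h1.symm

lemma Tens.li : LinearIndependent F fun p : Fin 3 × Fin 3 => T (bv p.1) (bv p.2) :=
  Fintype.linearIndependent_iff.2 fun g hg p => by
    have h := congrArg (fun x => (QuadraticMap.polarBilin Q) x (T (bv p.1) (bv p.2))) hg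
    simp only [map_sum, map_smul, LinearMap.sum_apply, LinearMap.smul_apply, smul_eq_mul,
      QuadraticMap.polarBilin_apply_apply, E.polar, bv_dot, map_zero, LinearMap.zero_apply] at h
    rw [Finset.sum_eq_single p (fun q _ hqp => ?_) (fun h => absurd (Finset.mem_univ _) h)] at h
    · simpa [E.k0] using h
    · by_cases h1 : q.1 = p.1
      · rw [if_neg fun h2 => hqp (Prod.ext h1 h2)]; simp
      · rw [if_neg h1]; simp

/-- The product basis. -/
noncomputable def Tens.basis : Module.Basis (Fin 3 × Fin 3) F V :=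
  basisOfLinearIndependentOfCardEqFinrank E.li (by simp [E.dim])

lemma Tens.basis_apply (p : Fin 3 × Fin 3) : E.basis p = T (bv p.1) (bv p.2) := by
  rw [Tens.basis, coe_basisOfLinearIndependentOfCardEqFinrank]

/-- Linear maps agree when they agree on pure vectors. -/
lemma Tens.ext {W : Type*} [AddCommGroup W] [Module F W] {L L' : V →ₗ[F] W}
    (h : ∀ a b, L (T a b) = L' (T a b)) : L = L' :=
  E.basis.ext fun p => by rw [E.basis_apply]; exact h _ _

lemma Tens.ext_aut {g g' : qAut Q} (h : ∀ a b, g.1 (T a b) = g'.1 (T a b)) : g = g' :=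
  qAut_ext fun x => LinearMap.congr_fun (E.ext (L := g.1.toLinearMap) (L' := g'.1.toLinearMap) h) x

lemma Tens.nd : PolarNondeg Q := fun x hx => by
  have : FiniteDimensional F V := Module.Basis.finiteDimensional_of_finite E.basis
  rw [← E.basis.sum_repr x]
  refine Finset.sum_eq_zero fun p _ => ?_
  have h := hx (T (bv p.1) (bv p.2))
  have e : (QuadraticMap.polarBilin Q) x (T (bv p.1) (bv p.2)) = E.basis.repr x p * k := by
    conv_lhs => rw [← E.basis.sum_repr x]
    simp only [map_sum, map_smul, LinearMap.sum_apply, LinearMap.smul_apply, smul_eq_mul,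
      QuadraticMap.polarBilin_apply_apply, E.basis_apply, E.polar, bv_dot]
    rw [Finset.sum_eq_single p (fun q _ hqp => ?_) (fun h => absurd (Finset.mem_univ _) h)]
    · simp
    · by_cases h1 : q.1 = p.1
      · rw [if_neg fun h2 => hqp (Prod.ext h1 h2)]; simp
      · rw [if_neg h1]; simp
  rw [QuadraticMap.polarBilin_apply_apply, h, eq_comm, mul_eq_zero] at e
  rw [e.resolve_right E.k0, zero_smul]

lemma Tens.exists_kr (A B : qAut (Qd F)) : ∃ g : qAut Q, ∀ a b, g.1 (T a b) = T (A.1 a) (B.1 b) := by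
  obtain ⟨mk, hmk⟩ : ∃ mk : qAut (Qd F) → qAut (Qd F) → V →ₗ[F] V, ∀ A B a b, mk A B (T a b) = T (A.1 a) (B.1 b) := by
    refine ⟨fun A B => E.basis.constr F fun p => T (A.1 (bv p.1)) (B.1 (bv p.2)), fun A B a b => ?_⟩
    have e : ∀ i j, (E.basis.constr F fun p => T (A.1 (bv p.1)) (B.1 (bv p.2))) (T (bv i) (bv j)) =
        T (A.1 (bv i)) (B.1 (bv j)) := fun i j => by
      rw [← E.basis_apply (i, j), Module.Basis.constr_basis]
    rw [U_eq a, U_eq b]
    simp only [map_add, map_smul, LinearMap.add_apply, LinearMap.smul_apply, e]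
  have hinv : ∀ A B : qAut (Qd F), mk A B ∘ₗ mk A⁻¹ B⁻¹ = LinearMap.id := fun A B => E.ext fun a b => by
    rw [LinearMap.comp_apply, hmk, hmk, qApply_inv_self, qApply_inv_self, LinearMap.id_apply]
  refine ⟨⟨LinearEquiv.ofLinear (mk A B) (mk A⁻¹ B⁻¹) (hinv A B) (by simpa using hinv A⁻¹ B⁻¹), fun x => ?_⟩,
    fun a b => hmk A B a b⟩
  show Q (mk A B x) = Q x
  have hpol : ∀ x y, QuadraticMap.polar Q (mk A B x) (mk A B y) = QuadraticMap.polar Q x y := by
    intro x y
    have h1 : (QuadraticMap.polarBilin Q).compl₁₂ (mk A B) (mk A B) = QuadraticMap.polarBilin Q := by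
      refine E.ext fun a b => E.ext fun c d => ?_
      simp only [LinearMap.compl₁₂_apply, QuadraticMap.polarBilin_apply_apply, hmk, E.polar, dot_map E.two]
    exact LinearMap.congr_fun (LinearMap.congr_fun h1 x) y
  have h := hpol x x
  rw [quad_polar_self, quad_polar_self] at h
  exact mul_left_cancel₀ E.two h

/-- The tensor product of two orthogonal maps. -/
noncomputable def Tens.kr : qAut (Qd F) × qAut (Qd F) →* qAut Q where
  toFun p := (E.exists_kr p.1 p.2).choose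
  map_one' := E.ext_aut fun a b => by
    rw [(E.exists_kr _ _).choose_spec]
    rfl
  map_mul' p q := E.ext_aut fun a b => by
    rw [(E.exists_kr _ _).choose_spec, qAut_mul_apply, (E.exists_kr _ _).choose_spec, (E.exists_kr _ _).choose_spec,
      Prod.fst_mul, Prod.snd_mul, qAut_mul_apply, qAut_mul_apply]

lemma Tens.kr_T (A B : qAut (Qd F)) (a b : U F) : (E.kr (A, B)).1 (T a b) = T (A.1 a) (B.1 b) :=
  (E.exists_kr A B).choose_spec a b

lemma Tens.kr_negU (A B : qAut (Qd F)) : E.kr (negU F * A, negU F * B) = E.kr (A, B) := E.ext_aut fun a b => by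
  rw [E.kr_T, E.kr_T, qAut_mul_apply, qAut_mul_apply, negU_apply, negU_apply, map_neg, map_neg, LinearMap.neg_apply,
    neg_neg]

lemma Tens.kr_eq_one {A B : qAut (Qd F)} (h : E.kr (A, B) = 1) :
    (A = 1 ∧ B = 1) ∨ (A = negU F ∧ B = negU F) := by
  have h' : ∀ a b c d, (A.1 a ⬝ᵥ c) * (B.1 b ⬝ᵥ d) = (a ⬝ᵥ c) * (b ⬝ᵥ d) := fun a b c d => by
    have e := E.polar (A.1 a) (B.1 b) c d
    rw [← E.kr_T, h, show (1 : qAut Q).1 (T a b) = T a b from rfl, E.polar] at e
    exact (mul_left_cancel₀ E.k0 e).symm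
  obtain ⟨l, hl⟩ : ∃ l, l = B.1 (bv 0) ⬝ᵥ bv 0 := ⟨_, rfl⟩
  have hA : ∀ a, l • A.1 a = a := fun a => funext fun i => by
    have := h' a (bv 0) (bv i) (bv 0)
    rw [← hl, bv_self, mul_one, dot_bv, dot_bv, mul_comm] at this
    exact this
  have hl1 : l * l = 1 := by
    have h1 : (l • A.1 (bv 0)) ⬝ᵥ (l • A.1 (bv 0)) = 1 := by rw [hA, bv_self]
    rw [smul_dotProduct, dotProduct_smul, dot_map E.two, bv_self, smul_eq_mul, smul_eq_mul, mul_one] at h1
    exact h1
  have hA' : ∀ a, A.1 a = l • a := fun a => by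
    conv_rhs => rw [← hA a, smul_smul, hl1, one_smul]
  have hB : ∀ b, B.1 b = l • b := fun b => funext fun i => by
    have := h' (bv 0) b (bv 0) (bv i)
    rw [hA', smul_dotProduct, bv_self, dot_bv, dot_bv, one_mul, smul_eq_mul, mul_one] at this
    show B.1 b i = l * b i
    rw [← this, ← mul_assoc, hl1, one_mul]
  rcases mul_self_eq_one_iff.1 hl1 with h1 | h1 <;> subst h1
  · exact Or.inl ⟨qAut_ext fun x => by rw [hA', one_smul]; rfl, qAut_ext fun x => by rw [hB, one_smul]; rfl⟩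
  · exact Or.inr ⟨qAut_ext fun x => by rw [hA', neg_one_smul]; rfl, qAut_ext fun x => by rw [hB, neg_one_smul]; rfl⟩

variable [Fintype F]

lemma Tens.fd : FiniteDimensional F V := Module.Basis.finiteDimensional_of_finite E.basis

/-- Even parity makes the two factors unique. -/
lemma Tens.kr_inj {A B A' B' : qAut (Qd F)} (hA : par E.two A = 1) (hA' : par E.two A' = 1)
    (h : E.kr (A, B) = E.kr (A', B')) : A = A' ∧ B = B' := by
  have h1 : E.kr (A'⁻¹ * A, B'⁻¹ * B) = 1 := by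
    rw [show (A'⁻¹ * A, B'⁻¹ * B) = (A', B')⁻¹ * (A, B) from rfl, map_mul, map_inv, h, inv_mul_cancel]
  rcases E.kr_eq_one h1 with ⟨e1, e2⟩ | ⟨e1, -⟩
  · exact ⟨(inv_mul_eq_one.1 e1).symm, (inv_mul_eq_one.1 e2).symm⟩
  · have := congrArg (par E.two) e1
    rw [map_mul, map_inv, hA, hA', inv_one, one_mul, par_negU] at this
    exact absurd this (by decide)

lemma Tens.exists_swp : ∃ g : qAut Q, (∀ a b, g.1 (T a b) = T b a) ∧
    ∃ vs : List {v : V // Q v ≠ 0}, g = (vs.map fun v => qRefl Q v.2).prod ∧ vs.length = 3 ∧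
      (vs.map fun v => Q v.1).prod = k * k * k := by
  obtain ⟨c, hc⟩ : ∃ c : Fin 3 → Fin 3 → V, ∀ i j, c i j = T (bv i) (bv j) - T (bv j) (bv i) := ⟨_, fun i j => rfl⟩
  have hQ : ∀ i j, i ≠ j → Q (c i j) = k := fun i j hij => by
    rw [hc, quad_sub, E.quad, E.quad, E.polar, bv_self, bv_self, bv_dot, if_neg hij]
    have := E.two
    field_simp
    ring
  have h01 : Q (c 0 1) ≠ 0 := by rw [hQ _ _ (by decide)]; exact E.k0
  have h02 : Q (c 0 2) ≠ 0 := by rw [hQ _ _ (by decide)]; exact E.k0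
  have h12 : Q (c 1 2) ≠ 0 := by rw [hQ _ _ (by decide)]; exact E.k0
  refine ⟨_, fun a b => ?_, [⟨c 0 1, h01⟩, ⟨c 0 2, h02⟩, ⟨c 1 2, h12⟩], rfl, rfl, ?_⟩
  · have hr : ∀ (i j : Fin 3) (h : Q (c i j) ≠ 0), i ≠ j → ∀ x y : U F,
        (qRefl Q h).1 (T x y) = T x y - (x i * y j - x j * y i) • (T (bv i) (bv j) - T (bv j) (bv i)) :=
      fun i j h hij x y => by
      rw [← hc, qRefl_apply, hQ i j hij, hc, QuadraticMap.polar_sub_right, E.polar, E.polar, dot_bv, dot_bv, dot_bv,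
        dot_bv, ← mul_sub, inv_mul_cancel_left₀ E.k0]
    simp only [List.map_cons, List.map_nil, List.prod_cons, List.prod_nil, mul_one, qAut_mul_apply]
    obtain ⟨P, hP⟩ : ∃ P : V →ₗ[F] V, ∀ x, P x = (qRefl Q h01).1 ((qRefl Q h02).1 ((qRefl Q h12).1 x)) :=
      ⟨(qRefl Q h01).1.toLinearMap ∘ₗ (qRefl Q h02).1.toLinearMap ∘ₗ (qRefl Q h12).1.toLinearMap, fun x => rfl⟩
    rw [← hP]
    have h9 : ∀ i j, P (T (bv i) (bv j)) = T (bv j) (bv i) := fun i j => by
      rw [hP]
      fin_cases i <;> fin_cases j <;>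
        simp [map_sub, map_smul, bv_apply, hr _ _ _ (show (0 : Fin 3) ≠ 1 by decide),
          hr _ _ _ (show (0 : Fin 3) ≠ 2 by decide), hr _ _ _ (show (1 : Fin 3) ≠ 2 by decide)]
    rw [U_eq a, U_eq b]
    simp only [map_add, map_smul, LinearMap.add_apply, LinearMap.smul_apply, h9]
    module
  · simp [hQ]
    ring

/-- The swap. -/
noncomputable def Tens.swp : qAut Q := E.exists_swp.choose

lemma Tens.swp_T (a b : U F) : E.swp.1 (T a b) = T b a := E.exists_swp.choose_spec.1 a b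

lemma Tens.swp_mul_self : E.swp * E.swp = 1 := E.ext_aut fun a b => by
  rw [qAut_mul_apply, E.swp_T, E.swp_T]; rfl

lemma Tens.swp_kr (A B : qAut (Qd F)) : E.swp * E.kr (A, B) = E.kr (B, A) * E.swp := E.ext_aut fun a b => by
  rw [qAut_mul_apply, qAut_mul_apply, E.kr_T, E.swp_T, E.swp_T, E.kr_T]

/-- The tensor wreath group. -/
def Tens.tw : Subgroup (qAut Q) where
  carrier := {g | ∃ A B, g = E.kr (A, B) ∨ g = E.swp * E.kr (A, B)}
  mul_mem' := by
    rintro g h ⟨A, B, hg⟩ ⟨C, D, hh⟩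
    rcases hg with rfl | rfl <;> rcases hh with rfl | rfl
    · exact ⟨A * C, B * D, Or.inl (by rw [← map_mul]; rfl)⟩
    · exact ⟨B * C, A * D, Or.inr (by
        rw [← mul_assoc, ← E.swp_kr, mul_assoc, ← map_mul]; rfl)⟩
    · exact ⟨A * C, B * D, Or.inr (by rw [mul_assoc, ← map_mul]; rfl)⟩
    · exact ⟨B * C, A * D, Or.inl (by
        rw [mul_assoc, ← mul_assoc (E.kr (A, B)), ← E.swp_kr, mul_assoc E.swp, ← mul_assoc E.swp, E.swp_mul_self,
          one_mul, ← map_mul]; rfl)⟩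
  one_mem' := ⟨1, 1, Or.inl (map_one E.kr).symm⟩
  inv_mem' := by
    rintro g ⟨A, B, rfl | rfl⟩
    · exact ⟨A⁻¹, B⁻¹, Or.inl (by rw [← map_inv]; rfl)⟩
    · refine ⟨B⁻¹, A⁻¹, Or.inr ?_⟩
      rw [mul_inv_rev, inv_eq_of_mul_eq_one_right E.swp_mul_self, ← map_inv, E.swp_kr]
      rfl

lemma Tens.kr_tw (A B : qAut (Qd F)) : E.kr (A, B) ∈ E.tw := ⟨A, B, Or.inl rfl⟩

lemma Tens.swp_tw : E.swp ∈ E.tw := ⟨1, 1, Or.inr (by rw [show ((1 : qAut (Qd F)), (1 : qAut (Qd F))) = 1 from rfl, map_one, mul_one])⟩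

end CfsgLib.Classical22.WrThree
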