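/-
Finite group lemmas for the tensor wreath maximality: dihedral conjugation, inverted groups, small two-groups,
and coprime automorphisms of prime order.
-/
import Cfsg.Agent.Lib.Solvable.CoprimeAction
import Cfsg.Agent.Lib.PGroup.Basic
import Mathlib.GroupTheory.FixedPointFree

set_option autoImplicit false
set_option linter.all false

namespace CfsgLib.Classical22.WrThree

open scoped commutatorElement

variable {G : Type*} [Group G]

/-- Two involutions not conjugate in the group they generate have a common commuting involution. -/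
theorem dihedral [Finite G] {x y : G} (hx : x * x = 1) (hy : y * y = 1)
    (hne : ∀ g ∈ Subgroup.zpowers (x * y), g * x * g⁻¹ ≠ y) :
    ∃ k : ℕ, ∃ z, z = (x * y) ^ k ∧ z ≠ 1 ∧ z * z = 1 ∧ z * x = x * z ∧ z * y = y * z ∧
      ((Even k ∧ (∃ g ∈ Subgroup.zpowers (x * y), g * x * g⁻¹ = x * z) ∧
          ∃ g ∈ Subgroup.zpowers (x * y), g * y * g⁻¹ = y * z) ∨
        (Odd k ∧ (∃ g ∈ Subgroup.zpowers (x * y), g * y * g⁻¹ = x * z) ∧
          ∃ g ∈ Subgroup.zpowers (x * y), g * x * g⁻¹ = y * z)) := by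
  obtain ⟨r, hr⟩ : ∃ r, r = x * y := ⟨_, rfl⟩
  rw [← hr] at hne ⊢
  have hxi : x⁻¹ = x := inv_eq_of_mul_eq_one_right hx
  have hyi : y⁻¹ = y := inv_eq_of_mul_eq_one_right hy
  have hxr : x * r * x = r⁻¹ := by rw [hr, mul_inv_rev, hxi, hyi, ← mul_assoc, hx, one_mul]
  have hy' : y = x * r := by rw [hr, ← mul_assoc, hx, one_mul]
  have hflip : ∀ j : ℤ, x * r ^ j = r ^ (-j) * x := fun j => by
    have h : (x * r * x⁻¹) ^ j = x * r ^ j * x⁻¹ := conj_zpow
    rw [hxi, hxr, inv_zpow, ← zpow_neg] at h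
    rw [h, mul_assoc (x * r ^ j), hx, mul_one]
  have cx : ∀ j : ℤ, r ^ j * x * (r ^ j)⁻¹ = r ^ (2 * j) * x := fun j => by
    rw [← zpow_neg, mul_assoc, hflip, neg_neg, ← mul_assoc, ← zpow_add, two_mul]
  have cy : ∀ j : ℤ, r ^ j * y * (r ^ j)⁻¹ = r ^ (2 * j - 1) * x := fun j => by
    rw [hy', ← zpow_neg, mul_assoc, mul_assoc x, ← zpow_one_add, hflip, ← mul_assoc, ← zpow_add]
    congr 2
    ring
  have hy'' : y = r ^ (-1 : ℤ) * x := by simpa using cy 0
  obtain ⟨n, hn⟩ : ∃ n, n = orderOf r := ⟨_, rfl⟩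
  have hrn : r ^ (n : ℤ) = 1 := by rw [zpow_natCast, hn, pow_orderOf_eq_one]
  have heven : Even n := by
    by_contra ho
    obtain ⟨m, hm⟩ := Nat.not_even_iff_odd.1 ho
    refine hne _ (Subgroup.zpow_mem_zpowers r (m : ℤ)) ?_
    rw [cx, hy'']
    congr 1
    rw [show (2 * (m : ℤ)) = (n : ℤ) + -1 by omega, zpow_add, hrn, one_mul]
  obtain ⟨k, hk⟩ := heven
  have hk0 : 0 < k := by
    have := orderOf_pos r
    omega
  have hzx : r ^ k * x = x * r ^ k := by
    rw [← zpow_natCast, hflip]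
    congr 1
    rw [zpow_neg, eq_inv_iff_mul_eq_one, ← zpow_add, show (k : ℤ) + k = n by omega, hrn]
  refine ⟨k, r ^ k, rfl, ?_, ?_, hzx, ?_, ?_⟩
  · rw [hn] at hk
    exact pow_ne_one_of_lt_orderOf (by omega) (by omega)
  · rw [← pow_add, ← hk, hn, pow_orderOf_eq_one]
  · rw [hy', ← mul_assoc, hzx, mul_assoc, mul_assoc, ← pow_succ, ← pow_succ']
  · have hxz : x * r ^ k = r ^ (k : ℤ) * x := by
      rw [← zpow_natCast, hflip]
      congr 1
      rw [zpow_neg, inv_eq_iff_mul_eq_one, ← zpow_add, show (k : ℤ) + k = n by omega, hrn]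
    have hyz : y * r ^ k = r ^ ((k : ℤ) - 1) * x := by
      rw [hy'', mul_assoc, hxz, ← mul_assoc, ← zpow_add]
      congr 2
    rcases Nat.even_or_odd k with ⟨i, hi⟩ | ⟨i, hi⟩
    · refine Or.inl ⟨⟨i, hi⟩, ⟨_, Subgroup.zpow_mem_zpowers r (i : ℤ), ?_⟩,
        ⟨_, Subgroup.zpow_mem_zpowers r (i : ℤ), ?_⟩⟩
      · rw [cx, hxz]; congr 2; omega
      · rw [cy, hyz]; congr 2; omega
    · refine Or.inr ⟨⟨i, hi⟩, ⟨_, Subgroup.zpow_mem_zpowers r ((i : ℤ) + 1), ?_⟩,
        ⟨_, Subgroup.zpow_mem_zpowers r (i : ℤ), ?_⟩⟩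
      · rw [cy, hxz]; congr 2; omega
      · rw [cx, hyz]; congr 2; omega

/-- A finite group normalised by an involution without fixed points is inverted by it. -/
theorem inverted [Finite G] {R : Subgroup G} {y : G} (hy : y * y = 1) (hR : y ∈ Subgroup.normalizer (R : Set G))
    (hfix : ∀ x ∈ R, y * x = x * y → x = 1) :
    (∀ x ∈ R, y * x * y⁻¹ = x⁻¹) ∧ ∀ a ∈ R, ∀ b ∈ R, a * b = b * a := by
  let φ : R →* R := MonoidHom.mk' (fun x => ⟨y * x.1 * y⁻¹, (Subgroup.mem_normalizer_iff.1 hR _).1 x.2⟩)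
    fun a b => Subtype.ext (by simp only [Subgroup.coe_mul]; group)
  have hf : MonoidHom.FixedPointFree φ := fun x hx => Subtype.ext (hfix _ x.2 (by
    have h : y * x.1 * y⁻¹ = x.1 := congrArg Subtype.val hx
    rwa [mul_inv_eq_iff_eq_mul] at h))
  have hi : Function.Involutive φ := fun x => Subtype.ext (by
    show y * (y * x.1 * y⁻¹) * y⁻¹ = x.1
    rw [show y * (y * x.1 * y⁻¹) * y⁻¹ = (y * y) * x.1 * (y * y)⁻¹ by group, hy, inv_one, one_mul, mul_one])
  refine ⟨fun x hx => ?_, fun a ha b hb => ?_⟩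
  · exact congrArg Subtype.val (congrFun (hf.coe_eq_inv_of_involutive hi) ⟨x, hx⟩)
  · exact congrArg Subtype.val (hf.commute_all_of_involutive hi ⟨a, ha⟩ ⟨b, hb⟩).eq

/-- An element of prime order centralising the elements of order dividing `r` of an abelian `r`-group centralises it. -/
theorem commute_of_bottom {R : Subgroup G} {r p : ℕ} [Fact r.Prime] (hp : p.Prime) (hne : p ≠ r) (hR : IsPGroup r R)
    (hcomm : ∀ a ∈ R, ∀ b ∈ R, a * b = b * a) {u : G} (hu : u ^ p = 1) (hn : u ∈ Subgroup.normalizer (R : Set G))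
    (hbot : ∀ x ∈ R, x ^ r = 1 → u * x = x * u) : ∀ x ∈ R, u * x = x * u := by
  suffices h : ∀ (n : ℕ) (x : G), x ∈ R → x ^ r ^ n = 1 → u * x = x * u by
    intro x hx
    obtain ⟨n, hn'⟩ := hR ⟨x, hx⟩
    exact h n x hx (congrArg Subtype.val hn')
  intro n
  induction n with
  | zero => intro x _ h; rw [pow_zero, pow_one] at h; rw [h, mul_one, one_mul]
  | succ n ih =>
    intro x hx h
    have hxr : u * x ^ r * u⁻¹ = x ^ r := by
      rw [ih (x ^ r) (R.pow_mem hx r) (by rwa [← pow_mul, ← pow_succ']), mul_inv_cancel_right]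
    have hux : u * x * u⁻¹ ∈ R := (Subgroup.mem_normalizer_iff.1 hn x).1 hx
    obtain ⟨z, hz⟩ : ∃ z, z = u * x * u⁻¹ * x⁻¹ := ⟨_, rfl⟩
    have hzR : z ∈ R := hz ▸ R.mul_mem hux (R.inv_mem hx)
    have hzr : z ^ r = 1 := by
      rw [hz, Commute.mul_pow (hcomm _ hux _ (R.inv_mem hx)), conj_pow, hxr, inv_pow, mul_inv_cancel]
    have hzu : ∀ i : ℕ, u ^ i * x * (u ^ i)⁻¹ = z ^ i * x := fun i => by
      induction i with
      | zero => simp
      | succ i ihi =>
        have huz : u * z ^ i * u⁻¹ = z ^ i := by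
          rw [hbot _ (R.pow_mem hzR i) (by rw [← pow_mul, mul_comm, pow_mul, hzr, one_pow]), mul_inv_cancel_right]
        calc u ^ (i + 1) * x * (u ^ (i + 1))⁻¹ = u * (u ^ i * x * (u ^ i)⁻¹) * u⁻¹ := by rw [pow_succ']; group
          _ = (u * z ^ i * u⁻¹) * (u * x * u⁻¹) := by rw [ihi]; group
          _ = z ^ (i + 1) * x := by
            rw [huz, show u * x * u⁻¹ = z * x by rw [hz, inv_mul_cancel_right], pow_succ, mul_assoc]
    have hzp : z ^ p = 1 := by
      have h := hzu p
      rw [hu, inv_one, mul_one, one_mul, eq_comm, mul_eq_right] at h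
      exact h
    have hz1 : z = 1 := by
      have h1 := pow_gcd_eq_one.2 ⟨hzr, hzp⟩
      rwa [(Nat.coprime_primes Fact.out hp).2 hne.symm, pow_one] at h1
    rwa [hz, mul_inv_eq_one, mul_inv_eq_iff_eq_mul] at hz1

/-- An element of prime order at least five centralises a two-group with a small involution centraliser. -/
theorem two_group [Finite G] {X : Subgroup G} (hX : IsPGroup 2 X) {y : G} (hy : y ∈ X)
    (hC : Nat.card ↥(X ⊓ Subgroup.centralizer {y}) ≤ 4) {u : G} {p : ℕ} (hp : p.Prime) (h5 : 5 ≤ p)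
    (hu : u ^ p = 1) (hn : u ∈ Subgroup.normalizer (X : Set G)) : ∀ x ∈ X, u * x = x * u := by
  classical
  obtain ⟨y', hy'⟩ : ∃ y' : X, y' = ⟨y, hy⟩ := ⟨_, rfl⟩
  -- small abelianization
  have hidx : (_root_.commutator X).index ≤ 4 := by
    obtain ⟨C, hCd⟩ : ∃ C : Subgroup X, C = Subgroup.centralizer {y'} := ⟨_, rfl⟩
    have hCc : Nat.card C ≤ 4 := by
      refine le_trans (le_of_eq ?_) hC
      rw [← Subgroup.card_map_of_injective X.subtype_injective]
      refine congrArg (fun H : Subgroup G => Nat.card H) ?_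
      ext g
      simp only [hCd, Subgroup.mem_map, Subgroup.mem_inf, Subgroup.mem_centralizer_iff, Set.mem_singleton_iff,
        forall_eq, hy']
      constructor
      · rintro ⟨g, hg, rfl⟩
        exact ⟨g.2, congrArg Subtype.val hg⟩
      · exact fun ⟨hg, h⟩ => ⟨⟨g, hg⟩, Subtype.ext h, rfl⟩
    have hle : C.index ≤ Nat.card (_root_.commutator X) := by
      refine Nat.card_le_card_of_injective (fun q : X ⧸ C => (⟨⁅q.out, y'⁆,
        Subgroup.commutator_mem_commutator (Subgroup.mem_top _) (Subgroup.mem_top _)⟩ : _root_.commutator X))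
        fun q q' h => ?_
      rw [← q.out_eq, ← q'.out_eq]
      refine QuotientGroup.eq.2 ((SetLike.ext_iff.1 hCd _).2 ?_)
      have h' : ⁅q.out, y'⁆ = ⁅q'.out, y'⁆ := congrArg Subtype.val h
      rw [commutatorElement_def, commutatorElement_def, mul_left_inj] at h'
      rw [Subgroup.mem_centralizer_iff]
      intro w hw
      rw [Set.mem_singleton_iff] at hw
      rw [hw]
      calc y' * (q.out⁻¹ * q'.out) = q.out⁻¹ * (q.out * y' * q.out⁻¹) * q'.out := by group
        _ = q.out⁻¹ * q'.out * y' := by rw [h']; group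
    have h1 := Subgroup.index_mul_card (_root_.commutator X)
    have h2 := Subgroup.index_mul_card C
    have : (_root_.commutator X).index * Nat.card (_root_.commutator X) ≤ 4 * Nat.card (_root_.commutator X) := by
      rw [h1, ← h2, mul_comm 4]
      exact Nat.mul_le_mul hle hCc
    exact Nat.le_of_mul_le_mul_right this Nat.card_pos
  -- the action on it is trivial
  let φ : X →* X := MonoidHom.mk' (fun x => ⟨u * x.1 * u⁻¹, (Subgroup.mem_normalizer_iff.1 hn _).1 x.2⟩)
    fun a b => Subtype.ext (by simp only [Subgroup.coe_mul]; group)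
  let ψ : Abelianization X → Abelianization X := Abelianization.map φ
  have hψit : ∀ (n : ℕ) (x : X), ψ^[n] (Abelianization.of x) = Abelianization.of (φ^[n] x) := fun n x => by
    induction n with
    | zero => rfl
    | succ n ih => rw [Function.iterate_succ_apply', ih, Function.iterate_succ_apply']; rfl
  have hφp : ∀ (n : ℕ) (x : X), ((φ^[n] x : X) : G) = u ^ n * x.1 * (u ^ n)⁻¹ := fun n x => by
    induction n with
    | zero => simp
    | succ n ih =>
      rw [Function.iterate_succ_apply']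
      show u * ((φ^[n] x : X) : G) * u⁻¹ = _
      rw [ih, pow_succ']
      group
  have hψp : ψ^[p] = id := by
    funext a
    induction a using QuotientGroup.induction_on with
    | _ x =>
      show ψ^[p] (Abelianization.of x) = Abelianization.of x
      rw [hψit, show φ^[p] x = x from Subtype.ext (by rw [hφp, hu]; simp)]
  have hψ : ∀ a, ψ a = a := by
    haveI : Fintype (Abelianization X) := Fintype.ofFinite _
    have hcard : Fintype.card (Abelianization X) ≤ 4 := by rwa [← Nat.card_eq_fintype_card]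
    obtain ⟨σ, hσ⟩ : ∃ σ : Equiv.Perm (Abelianization X), ⇑σ = ψ := by
      have hb : Function.Bijective ψ := by
        refine Finite.injective_iff_bijective.1 fun a b h => ?_
        have h' := congrArg ψ^[p - 1] h
        rwa [← Function.iterate_succ_apply, ← Function.iterate_succ_apply, Nat.succ_eq_add_one, Nat.sub_add_cancel hp.pos, hψp] at h'
      exact ⟨Equiv.ofBijective ψ hb, rfl⟩
    have hσp : σ ^ p = 1 := Equiv.ext fun a => by rw [Equiv.Perm.coe_pow, hσ, hψp]; rfl
    have h1 : orderOf σ ∣ 24 := by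
      refine orderOf_dvd_natCard σ |>.trans ?_
      rw [Nat.card_perm, Nat.card_eq_fintype_card]
      exact Nat.factorial_dvd_factorial (show Fintype.card (Abelianization X) ≤ 4 from hcard)
    have h2 : orderOf σ = 1 := ((Nat.dvd_prime hp).1 (orderOf_dvd_of_pow_eq_one hσp)).resolve_right fun h => by
      rw [h] at h1
      have hp24 : p ≤ 24 := Nat.le_of_dvd (by norm_num) h1
      revert h1 hp
      interval_cases p <;> decide
    intro a
    rw [← hσ, orderOf_eq_one_iff.1 h2]
    rfl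
  -- fixed points supplement the commutator
  haveI : Fact (Nat.Prime 2) := ⟨Nat.prime_two⟩
  have hN : Subgroup.zpowers u ≤ Subgroup.normalizer ((⁅X, X⁆ : Subgroup G) : Set G) := by
    rw [Subgroup.zpowers_le, Subgroup.mem_normalizer_iff_map_conj_eq, Subgroup.map_commutator,
      Subgroup.mem_normalizer_iff_map_conj_eq.1 hn]
  have hcop : (Nat.card (Subgroup.zpowers u)).Coprime (Nat.card ↥⁅X, X⁆) := by
    rw [Nat.card_zpowers]
    obtain ⟨m, hm⟩ := (IsPGroup.iff_card (p := 2)).1 hX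
    refine Nat.Coprime.coprime_dvd_left (orderOf_dvd_of_pow_eq_one hu) (Nat.Coprime.coprime_dvd_right
      (Subgroup.card_dvd_of_le (Subgroup.commutator_le_self X)) ?_)
    rw [hm]
    exact ((Nat.coprime_primes hp Nat.prime_two).2 (by omega)).pow_right m
  obtain ⟨K, hK⟩ : ∃ K : Subgroup X, K = (Subgroup.centralizer {u}).subgroupOf X := ⟨_, rfl⟩
  have hKtop : K ⊔ frattini X = ⊤ := by
    refine eq_top_iff.2 fun x _ => ?_
    have hmap : ∀ w : G, w ∈ ⁅X, X⁆ → ∃ d ∈ _root_.commutator X, (d : G) = w := fun w hw => by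
      rw [← Subgroup.map_subtype_commutator] at hw
      exact hw
    have hxu : ∀ a ∈ Subgroup.zpowers u, ⁅a, x.1⁆ ∈ ⁅X, X⁆ := by
      intro a ha
      obtain ⟨n, rfl⟩ := (mem_powers_iff_mem_zpowers).2 ha
      have h1 : Abelianization.of (φ^[n] x) = Abelianization.of x := by
        rw [← hψit, Function.iterate_fixed (hψ _)]
      have h2 : φ^[n] x * x⁻¹ ∈ _root_.commutator X := by
        rw [← Abelianization.ker_of, MonoidHom.mem_ker, map_mul, map_inv, h1, mul_inv_cancel]
      rw [← Subgroup.map_subtype_commutator]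
      refine ⟨_, h2, ?_⟩
      show ((φ^[n] x * x⁻¹ : X) : G) = _
      rw [Subgroup.coe_mul, hφp, commutatorElement_def]
      rfl
    obtain ⟨n, hn', hc⟩ := CfsgLib.Solvable.exists_mul_mem_centralizer _ _ hN hcop (Or.inl inferInstance) x.1 hxu
    obtain ⟨d, hd, rfl⟩ := hmap n hn'
    rw [show x = d⁻¹ * (d * x) by group]
    refine Subgroup.mul_mem _ (Subgroup.mem_sup_right (CfsgLib.PGroup.commutator_le_frattini hX
      (inv_mem hd))) (Subgroup.mem_sup_left ?_)
    rw [hK, Subgroup.mem_subgroupOf, Subgroup.mem_centralizer_iff]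
    intro w hw
    rw [Set.mem_singleton_iff] at hw
    rw [hw]
    exact Subgroup.mem_centralizer_iff.1 hc u (Subgroup.mem_zpowers u)
  have h := frattini_nongenerating hKtop
  intro x hx
  have h1 : (⟨x, hx⟩ : X) ∈ K := h ▸ Subgroup.mem_top _
  rw [hK, Subgroup.mem_subgroupOf, Subgroup.mem_centralizer_iff] at h1
  exact h1 u rfl

/-- A subgroup containing enough of every primary part of a group contains it. -/
theorem le_of_parts [Finite G] {K C : Subgroup G}
    (h : ∀ r : ℕ, r.Prime → r ∣ Nat.card K → ∀ k : ℕ, r ^ k ∣ Nat.card K → r ^ k ∣ Nat.card ↥(K ⊓ C)) : K ≤ C := by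
  intro x hx
  have hdvd : Nat.card K ∣ Nat.card ↥(K ⊓ C) := (Nat.dvd_iff_prime_pow_dvd_dvd _ _).2 fun r k hr hk => by
    rcases Nat.eq_zero_or_pos k with rfl | hk0
    · simp
    exact h r hr ((dvd_pow_self r (by omega)).trans hk) k hk
  have he : K ⊓ C = K := Subgroup.eq_of_le_of_card_ge inf_le_left (Nat.le_of_dvd Nat.card_pos hdvd)
  exact (he.ge hx).2

/-- A Sylow subgroup inside a centraliser accounts for the whole primary part. -/
theorem parts_of_sylow [Finite G] {K C : Subgroup G} {r : ℕ} [Fact r.Prime] (R : Sylow r K)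
    (hR : (R : Subgroup K).map K.subtype ≤ C) {L : Subgroup G} (hKL : K ≤ L) {k : ℕ} (hk : r ^ k ∣ Nat.card K) :
    r ^ k ∣ Nat.card ↥(L ⊓ C) := by
  refine dvd_trans ?_ (Subgroup.card_dvd_of_le (le_inf ((Subgroup.map_subtype_le _).trans hKL) hR))
  rw [Subgroup.card_map_of_injective K.subtype_injective, R.card_eq_multiplicity]
  exact pow_dvd_pow r (((Fact.out : r.Prime).pow_dvd_iff_le_factorization Nat.card_pos.ne').1 hk)

/-- If `p` divides the order of a group normalised by an element of order `p`, the element fixes one of order `p`. -/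
theorem exists_fixed_order [Finite G] {K : Subgroup G} {p : ℕ} [Fact p.Prime] (hd : p ∣ Nat.card K) {u : G}
    (hu : u ^ p = 1) (hn : u ∈ Subgroup.normalizer (K : Set G)) :
    ∃ x ∈ K, x ≠ 1 ∧ x ^ p = 1 ∧ u * x = x * u := by
  classical
  have hA : IsPGroup p (Subgroup.zpowers u) := fun a => by
    obtain ⟨a, ha⟩ := a
    obtain ⟨m, rfl⟩ := Subgroup.mem_zpowers_iff.1 ha
    refine ⟨1, Subtype.ext ?_⟩
    show (u ^ m) ^ (p ^ 1) = 1
    rw [pow_one, ← zpow_natCast, ← zpow_mul, mul_comm, zpow_mul, zpow_natCast, hu, one_zpow]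
  letI : MulAction (Subgroup.zpowers u) K :=
    { smul := fun a x => ⟨a.1 * x.1 * a.1⁻¹, (Subgroup.mem_normalizer_iff.1
        ((Subgroup.zpowers_le.2 hn) a.2) _).1 x.2⟩
      one_smul := fun x => Subtype.ext (by show (1 : G) * x.1 * (1 : G)⁻¹ = x.1; group)
      mul_smul := fun a b x => Subtype.ext (by
        show (a.1 * b.1) * x.1 * (a.1 * b.1)⁻¹ = a.1 * (b.1 * x.1 * b.1⁻¹) * a.1⁻¹; group) }
  obtain ⟨C, hC⟩ : ∃ C : Subgroup K, C = (Subgroup.centralizer {u}).subgroupOf K := ⟨_, rfl⟩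
  have hfix : Nat.card (MulAction.fixedPoints (Subgroup.zpowers u) K) = Nat.card C := by
    refine Nat.card_congr (Equiv.setCongr (Set.ext fun x => ?_))
    rw [MulAction.mem_fixedPoints, hC, SetLike.mem_coe, Subgroup.mem_subgroupOf, Subgroup.mem_centralizer_iff]
    constructor
    · intro h w hw
      rw [Set.mem_singleton_iff] at hw
      rw [hw]
      have h' : u * x.1 * u⁻¹ = x.1 := congrArg Subtype.val (h ⟨u, Subgroup.mem_zpowers u⟩)
      rwa [mul_inv_eq_iff_eq_mul] at h'
    · intro h a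
      obtain ⟨a, ha⟩ := a
      refine Subtype.ext ?_
      show a * x.1 * a⁻¹ = x.1
      obtain ⟨m, rfl⟩ := Subgroup.mem_zpowers_iff.1 ha
      have hc : Commute u x.1 := h u rfl
      rw [(hc.zpow_left m).eq, mul_inv_cancel_right]
  have hd' : p ∣ Nat.card C := by
    have h := hA.card_modEq_card_fixedPoints K
    rw [hfix] at h
    exact Nat.modEq_zero_iff_dvd.1 (h.symm.trans (Nat.modEq_zero_iff_dvd.2 hd))
  obtain ⟨x, hx⟩ := exists_prime_orderOf_dvd_card' p hd'
  refine ⟨x.1.1, x.1.2, fun h => ?_, ?_, ?_⟩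
  · rw [show x = 1 from Subtype.ext (Subtype.ext h), orderOf_one] at hx
    exact (Fact.out : p.Prime).ne_one hx.symm
  · have h : x ^ p = 1 := hx ▸ pow_orderOf_eq_one x
    exact congrArg (fun z : C => z.1.1) h
  ·     exact Subgroup.mem_centralizer_iff.1 (Subgroup.mem_subgroupOf.1 ((SetLike.ext_iff.1 hC _).1 x.2)) u rfl

end CfsgLib.Classical22.WrThree
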