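/-
Frames of three-space at a singular vector; unipotents and tori.
-/
import Cfsg.Agent.Lib.Classical22.OrthWreathThree.Dot
import Mathlib.Algebra.CharP.Algebra

set_option autoImplicit false
set_option linter.all false

namespace CfsgLib.Classical22.WrThree

open CfsgLib.Classical

universe u

variable {F : Type u} [Field F]

/-- A hyperbolic pair and the vector orthogonal to it. -/
structure Fr (v e f : U F) : Prop where
  vv : v ⬝ᵥ v = 0
  ff : f ⬝ᵥ f = 0
  vf : v ⬝ᵥ f = 1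
  ve : v ⬝ᵥ e = 0
  fe : f ⬝ᵥ e = 0
  ee : e ⬝ᵥ e = -1
  span : ∀ x, ∃ a b c : F, x = a • v + b • e + c • f

namespace Fr

variable {v e f : U F} (S : Fr v e f)
include S

lemma fv : f ⬝ᵥ v = 1 := (dotProduct_comm f v).trans S.vf
lemma ev : e ⬝ᵥ v = 0 := (dotProduct_comm e v).trans S.ve
lemma ef : e ⬝ᵥ f = 0 := (dotProduct_comm e f).trans S.fe

lemma v0 : v ≠ 0 := fun h => zero_ne_one (α := F) (by rw [← S.vf, h, zero_dotProduct])
lemma f0 : f ≠ 0 := fun h => zero_ne_one (α := F) (by rw [← S.vf, h, dotProduct_zero])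
lemma e0 : e ≠ 0 := fun h => neg_ne_zero.2 (one_ne_zero (α := F)) (by rw [← S.ee, h, dotProduct_zero])

lemma dot_v (a b c : F) : (a • v + b • e + c • f) ⬝ᵥ v = c := by
  simp [add_dotProduct, smul_dotProduct, S.vv, S.ev, S.fv]

lemma dot_f (a b c : F) : (a • v + b • e + c • f) ⬝ᵥ f = a := by
  simp [add_dotProduct, smul_dotProduct, S.vf, S.ef, S.ff]

lemma dot_e (a b c : F) : (a • v + b • e + c • f) ⬝ᵥ e = -b := by
  simp [add_dotProduct, smul_dotProduct, S.ve, S.ee, S.fe]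

lemma coord (x : U F) : x = (x ⬝ᵥ f) • v + (-(x ⬝ᵥ e)) • e + (x ⬝ᵥ v) • f := by
  obtain ⟨a, b, c, rfl⟩ := S.span x
  rw [S.dot_v, S.dot_e, S.dot_f, neg_neg]

lemma coord_eq {a b c a' b' c' : F} (h : a • v + b • e + c • f = a' • v + b' • e + c' • f) :
    a = a' ∧ b = b' ∧ c = c' := by
  refine ⟨?_, ?_, ?_⟩
  · simpa only [S.dot_f] using congrArg (fun x => x ⬝ᵥ f) h
  · simpa only [S.dot_e, neg_inj] using congrArg (fun x => x ⬝ᵥ e) h
  · simpa only [S.dot_v] using congrArg (fun x => x ⬝ᵥ v) h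

lemma swap : Fr f e v :=
  ⟨S.ff, S.vv, S.fv, S.fe, S.ve, S.ee, fun x => by
    obtain ⟨a, b, c, rfl⟩ := S.span x
    exact ⟨c, b, a, by abel⟩⟩

end Fr

lemma exists_frame [Fintype F] (h2 : (2 : F) ≠ 0) : ∃ v e f : U F, Fr v e f := by
  obtain ⟨v, hv0, hv⟩ := exists_singular (Qd F) (Qd_nd h2) (by simp)
  rw [Qd_apply] at hv
  obtain ⟨i, hi⟩ := Function.ne_iff.1 hv0
  obtain ⟨x, hx⟩ : ∃ x : U F, v ⬝ᵥ x = 1 :=
    ⟨(v i)⁻¹ • bv i, by rw [dotProduct_smul, dot_bv, smul_eq_mul, inv_mul_cancel₀ hi]⟩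
  obtain ⟨f, hf⟩ : ∃ f, f = x + (-(x ⬝ᵥ x) / 2) • v := ⟨_, rfl⟩
  have hvf : v ⬝ᵥ f = 1 := by
    rw [hf, dotProduct_add, dotProduct_smul, hv, hx]
    simp
  have hff : f ⬝ᵥ f = 0 := by
    rw [hf]
    simp only [add_dotProduct, dotProduct_add, smul_dotProduct, dotProduct_smul, hv, dotProduct_comm x v, hx,
      smul_eq_mul]
    field_simp
    ring
  obtain ⟨e, he⟩ : ∃ e, e = crossProduct v f := ⟨_, rfl⟩
  have hve : v ⬝ᵥ e = 0 := he ▸ dot_self_cross v f
  have hfe : f ⬝ᵥ e = 0 := he ▸ dot_cross_self v f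
  have hee : e ⬝ᵥ e = -1 := by
    rw [he, cross_dot_cross, hv, hff, hvf, dotProduct_comm f v, hvf]
    ring
  have hev : e ⬝ᵥ v = 0 := (dotProduct_comm e v).trans hve
  have hef : e ⬝ᵥ f = 0 := (dotProduct_comm e f).trans hfe
  have hfv : f ⬝ᵥ v = 1 := (dotProduct_comm f v).trans hvf
  refine ⟨v, e, f, hv, hff, hvf, hve, hfe, hee, fun y => ?_⟩
  have hli : LinearIndependent F ![v, e, f] := Fintype.linearIndependent_iff.2 fun g hg j => by
    simp only [Fin.sum_univ_three, Matrix.cons_val_zero, Matrix.cons_val_one, Matrix.cons_val_two,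
      Matrix.tail_cons, Matrix.head_cons] at hg
    have e1 := congrArg (fun z => z ⬝ᵥ f) hg
    have e2 := congrArg (fun z => z ⬝ᵥ e) hg
    have e3 := congrArg (fun z => z ⬝ᵥ v) hg
    simp [add_dotProduct, smul_dotProduct, hv, hff, hvf, hve, hfe, hee, hev, hef, hfv] at e1 e2 e3
    fin_cases j
    · exact e1
    · exact e2
    · exact e3
  obtain ⟨g, hg⟩ := (Submodule.mem_span_range_iff_exists_fun F).1
    ((hli.span_eq_top_of_card_eq_finrank (by simp)) ▸ Submodule.mem_top (x := y))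
  exact ⟨g 0, g 1, g 2, by rw [← hg]; simp [Fin.sum_univ_three]⟩

/-- The root element at `v` in the direction `e`. -/
noncomputable def uD (v e : U F) (c : F) : qAut (Qd F) := eich (Qd F) v ((c / 2) • e)

section

variable {v e f : U F} (h2 : (2 : F) ≠ 0) (S : Fr v e f)
include h2 S

lemma uD_apply (c : F) (x : U F) :
    (uD v e c).1 x = x + (c * (x ⬝ᵥ v)) • e - (c * (x ⬝ᵥ e) - c * c / 2 * (x ⬝ᵥ v)) • v := by
  rw [uD, eich_apply (Qd F) (by rw [Qd_apply, S.vv]) (by rw [polar_Qd, dotProduct_smul, S.ve, smul_zero, mul_zero]),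
    polar_Qd, polar_Qd, Qd_apply, dotProduct_smul, smul_dotProduct, dotProduct_smul, S.ee, smul_smul, smul_eq_mul,
    smul_eq_mul, smul_eq_mul]
  congr 1
  · congr 2
    field_simp
  · congr 1
    field_simp
    ring

lemma uD_v (c : F) : (uD v e c).1 v = v := by rw [uD_apply h2 S, S.vv, S.ve]; module

lemma uD_e (c : F) : (uD v e c).1 e = e + c • v := by rw [uD_apply h2 S, S.ev, S.ee]; module

lemma uD_f (c : F) : (uD v e c).1 f = f + c • e + (c * c / 2) • v := by rw [uD_apply h2 S, S.fv, S.fe]; module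

lemma uD_mul (c d : F) : uD v e c * uD v e d = uD v e (c + d) := by
  rw [uD, uD, uD, eich_mul (Qd F) (by rw [Qd_apply, S.vv]) (by rw [polar_Qd, dotProduct_smul, S.ve, smul_zero, mul_zero])
    (by rw [polar_Qd, dotProduct_smul, S.ve, smul_zero, mul_zero]), ← add_smul, add_div]

lemma uD_zero : uD v e 0 = 1 := by rw [uD, zero_div, zero_smul, eich_zero (Qd F) (by rw [Qd_apply, S.vv])]

lemma uD_inv (c : F) : (uD v e c)⁻¹ = uD v e (-c) := by
  refine inv_eq_of_mul_eq_one_right ?_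
  rw [uD_mul h2 S, add_neg_cancel, uD_zero h2 S]

lemma uD_pow (c : F) (n : ℕ) : uD v e c ^ n = uD v e (n * c) := by
  induction n with
  | zero => rw [pow_zero, Nat.cast_zero, zero_mul, uD_zero h2 S]
  | succ n ih => rw [pow_succ, ih, uD_mul h2 S]; push_cast; rw [add_mul, one_mul]

lemma uD_injective : Function.Injective (uD v e) := fun c d h => by
  have h1 : (uD v e c).1 e ⬝ᵥ f = (uD v e d).1 e ⬝ᵥ f := by rw [h]
  simpa [uD_e h2 S, add_dotProduct, smul_dotProduct, S.ef, S.vf] using h1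

lemma uD_fix {c : F} (hc : c ≠ 0) {x : U F} (h : (uD v e c).1 x = x) : ∃ a : F, x = a • v := by
  obtain ⟨a, b, d, rfl⟩ := S.span x
  rw [uD_apply h2 S, S.dot_v, S.dot_e] at h
  have h' : (a + (c * b + c * c / 2 * d)) • v + (b + c * d) • e + d • f = a • v + b • e + d • f := by
    linear_combination (norm := module) h
  obtain ⟨e1, e2, -⟩ := S.coord_eq h'
  have hd : d = 0 := (mul_eq_zero.1 (add_eq_left.1 e2)).resolve_left hc
  subst hd
  have hb : b = 0 := (mul_eq_zero.1 (show c * b = 0 by linear_combination e1)).resolve_left hc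
  exact ⟨a, by rw [hb]; module⟩

lemma par_uD [Fintype F] (c : F) : par h2 (uD v e c) = 1 := by
  rw [show c = c / 2 + c / 2 by rw [← add_div, ← two_mul, mul_div_cancel_left₀ _ h2], ← uD_mul h2 S, map_mul]
  generalize par h2 (uD v e (c / 2)) = z
  revert z
  decide

lemma spin_uD [Fintype F] (c : F) : spin h2 (uD v e c) = 1 := by
  rw [show c = c / 2 + c / 2 by rw [← add_div, ← two_mul, mul_div_cancel_left₀ _ h2], ← uD_mul h2 S, map_mul,
    Int.units_mul_self]

/-- Tori. -/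
lemma exists_tor {s : F} (hs : s ≠ 0) :
    ∃ g : qAut (Qd F), g.1 v = s • v ∧ g.1 e = e ∧ g.1 f = s⁻¹ • f := by
  obtain ⟨L, hL⟩ : ∃ L : F → U F →ₗ[F] U F, ∀ r a b c,
      L r (a • v + b • e + c • f) = (r * a) • v + b • e + (r⁻¹ * c) • f := by
    refine ⟨fun r => { toFun := fun x => (r * (x ⬝ᵥ f)) • v + (-(x ⬝ᵥ e)) • e + (r⁻¹ * (x ⬝ᵥ v)) • f
                       map_add' := fun x y => by simp only [add_dotProduct]; module
                       map_smul' := fun a x => by simp only [smul_dotProduct, smul_eq_mul, RingHom.id_apply]; module },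
      fun (r a b c : F) => ?_⟩
    simp only [LinearMap.coe_mk, AddHom.coe_mk, S.dot_v, S.dot_e, S.dot_f, neg_neg]
  have hinv : ∀ r, r ≠ 0 → ∀ x, L r⁻¹ (L r x) = x := fun r hr x => by
    obtain ⟨a, b, c, rfl⟩ := S.span x
    rw [hL, hL, inv_inv, inv_mul_cancel_left₀ hr, mul_inv_cancel_left₀ hr]
  refine ⟨⟨LinearEquiv.ofLinear (L s) (L s⁻¹) (LinearMap.ext fun x => ?_) (LinearMap.ext fun x => hinv s hs x),
    fun x => ?_⟩, ?_, ?_, ?_⟩
  · simpa using hinv s⁻¹ (inv_ne_zero hs) x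
  · show Qd F (L s x) = Qd F x
    obtain ⟨a, b, c, rfl⟩ := S.span x
    rw [hL, Qd_apply, Qd_apply]
    simp only [add_dotProduct, dotProduct_add, smul_dotProduct, dotProduct_smul, S.vv, S.ve, S.vf, S.ev, S.ee, S.ef,
      S.fv, S.fe, S.ff, smul_eq_mul]
    field_simp
    ring
  · show L s v = _
    simpa using hL s 1 0 0
  · show L s e = _
    simpa using hL s 0 1 0
  · show L s f = _
    simpa using hL s 0 0 1

/-- Squares of tori. -/
lemma exists_tor_sq [Fintype F] {s : F} (hs : s ≠ 0) : ∃ g : qAut (Qd F), g.1 v = (s * s) • v ∧ g.1 e = e ∧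
    g.1 f = (s * s)⁻¹ • f ∧ par h2 g = 1 ∧ spin h2 g = 1 := by
  obtain ⟨g, h1, he, h3⟩ := exists_tor h2 S hs
  refine ⟨g * g, ?_, by rw [qAut_mul_apply, he, he], ?_, ?_, by rw [map_mul, Int.units_mul_self]⟩
  · rw [qAut_mul_apply, h1, map_smul, h1, smul_smul]
  · rw [qAut_mul_apply, h3, map_smul, h3, smul_smul, mul_inv]
  · rw [map_mul]
    generalize par h2 g = z
    revert z
    decide

/-- Singular vectors off the line of `f`. -/
lemma sing_form {w : U F} (hw : w ⬝ᵥ w = 0) (hw0 : w ≠ 0) :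
    (∃ a : F, a ≠ 0 ∧ w = a • f) ∨ ∃ a c : F, a ≠ 0 ∧ w = a • (uD f e c).1 v := by
  obtain ⟨a, b, d, rfl⟩ := S.span w
  have hq : 2 * (a * d) - b * b = 0 := by
    rw [← hw]
    simp only [add_dotProduct, dotProduct_add, smul_dotProduct, dotProduct_smul, S.vv, S.ve, S.vf, S.ev, S.ee, S.ef,
      S.fv, S.fe, S.ff, smul_eq_mul]
    ring
  by_cases ha : a = 0
  · subst ha
    have hb : b = 0 := mul_self_eq_zero.1 (by linear_combination -hq)
    subst hb
    left
    exact ⟨d, fun hd => hw0 (by rw [hd]; module), by module⟩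
  · right
    refine ⟨a, b / a, ha, ?_⟩
    rw [uD_f h2 S.swap]
    match_scalars <;> field_simp
    linear_combination hq

end

end CfsgLib.Classical22.WrThree
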