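/-
Membership of tensor elements in Omega.
-/
import Cfsg.Agent.Lib.Classical22.OrthWreathThree.Base

set_option autoImplicit false
set_option linter.all false

namespace CfsgLib.Classical22.WrThree

open CfsgLib.Classical

universe u

variable {F : Type u} [Field F] [Fintype F] {V : Type u} [AddCommGroup V] [Module F V]
variable {Q : QuadraticForm F V} {T : U F →ₗ[F] U F →ₗ[F] V} {k : F} (E : Tens Q T k)
include E

lemma Tens.exists_refl_prod {c : U F} (hc : Qd F c ≠ 0) :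
    ∃ vs ws : List {v : V // Q v ≠ 0}, (vs.length = 3 ∧ ws.length = 3) ∧
      (E.kr (qRefl (Qd F) hc, 1) = (vs.map fun v => qRefl Q v.2).prod ∧
        E.kr (1, qRefl (Qd F) hc) = (ws.map fun v => qRefl Q v.2).prod) ∧
      (vs.map fun v => Q v.1).prod = k / 2 * (c ⬝ᵥ c) * (k / 2 * (c ⬝ᵥ c)) * (k / 2 * (c ⬝ᵥ c)) ∧
      (ws.map fun v => Q v.1).prod = k / 2 * (c ⬝ᵥ c) * (k / 2 * (c ⬝ᵥ c)) * (k / 2 * (c ⬝ᵥ c)) := by
  have hcc : c ⬝ᵥ c ≠ 0 := hc
  have hk2 : k / 2 ≠ 0 := div_ne_zero E.k0 E.two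
  have hl : ∀ i, Q (T c (bv i)) = k / 2 * (c ⬝ᵥ c) := fun i => by rw [E.quad, bv_self, mul_one]
  have hr : ∀ i, Q (T (bv i) c) = k / 2 * (c ⬝ᵥ c) := fun i => by rw [E.quad, bv_self, one_mul]
  have hl0 : ∀ i, Q (T c (bv i)) ≠ 0 := fun i => by rw [hl]; exact mul_ne_zero hk2 hcc
  have hr0 : ∀ i, Q (T (bv i) c) ≠ 0 := fun i => by rw [hr]; exact mul_ne_zero hk2 hcc
  refine ⟨[⟨_, hl0 0⟩, ⟨_, hl0 1⟩, ⟨_, hl0 2⟩], [⟨_, hr0 0⟩, ⟨_, hr0 1⟩, ⟨_, hr0 2⟩], ⟨rfl, rfl⟩, ⟨?_, ?_⟩, ?_, ?_⟩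
  · refine E.ext_aut fun a b => ?_
    have key : ∀ i x y, (qRefl Q (hl0 i)).1 (T x y) = T x y - (2 * (x ⬝ᵥ c) / (c ⬝ᵥ c) * y i) • T c (bv i) :=
      fun i x y => by
        rw [qRefl_apply, hl, E.polar, dot_bv]
        congr 2
        have := E.k0
        have := E.two
        field_simp
    simp only [List.map_cons, List.map_nil, List.prod_cons, List.prod_nil, mul_one, qAut_mul_apply, E.kr_T,
      qRefl_dot E.two, key, map_sub, map_smul, LinearMap.sub_apply, LinearMap.smul_apply]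
    conv_lhs => rw [show (1 : qAut (Qd F)).1 b = b from rfl, U_eq b]
    conv_rhs => arg 1; arg 1; arg 1; rw [U_eq b]
    simp [map_add, map_smul, bv_apply]
    module
  · refine E.ext_aut fun a b => ?_
    have key : ∀ i x y, (qRefl Q (hr0 i)).1 (T x y) = T x y - (2 * (y ⬝ᵥ c) / (c ⬝ᵥ c) * x i) • T (bv i) c :=
      fun i x y => by
        rw [qRefl_apply, hr, E.polar, dot_bv]
        congr 2
        have := E.k0
        have := E.two
        field_simp
    simp only [List.map_cons, List.map_nil, List.prod_cons, List.prod_nil, mul_one, qAut_mul_apply, E.kr_T,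
      qRefl_dot E.two, key, map_sub, map_smul, LinearMap.sub_apply, LinearMap.smul_apply]
    conv_lhs => rw [show (1 : qAut (Qd F)).1 a = a from rfl, U_eq a]
    conv_rhs => arg 1; arg 1; arg 1; rw [U_eq a]
    simp [map_add, map_smul, LinearMap.add_apply, LinearMap.smul_apply, bv_apply]
    module
  · simp [hl]; ring
  · simp [hr]; ring

variable [FiniteDimensional F V]

lemma Tens.hexV : Fintype.card F ≠ 2 ∨ Module.finrank F V ≠ 4 := Or.inr (by rw [E.dim]; norm_num)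

lemma Tens.n5 : 5 ≤ Module.finrank F V := by rw [E.dim]; norm_num

/-- The membership criterion for pure tensors. -/
theorem Tens.kr_mem_iff (A B : qAut (Qd F)) :
    E.kr (A, B) ∈ eichGroup Q ↔ par E.two A = par E.two B ∧ spin E.two A = spin E.two B := by
  classical
  obtain ⟨D, hD, hD1⟩ := exists_parity_hom Q E.nd (reflGroup_eq_top Q E.nd E.hexV)
  obtain ⟨θ, hθ, hiff⟩ := Spin.exists_spin Q E.nd E.hexV
  obtain ⟨κ, hκ⟩ : ∃ κ, κ = Spin.sqSign (k / 2) := ⟨_, rfl⟩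
  obtain ⟨ψ, hψ⟩ : ∃ ψ : qAut Q →* Multiplicative (ZMod 2) × ℤˣ, ψ = D.prod θ := ⟨_, rfl⟩
  obtain ⟨χ, hχ⟩ : ∃ χ : qAut (Qd F) →* Multiplicative (ZMod 2) × ℤˣ,
      χ = (par E.two).prod (spin E.two * (Spin.liftSign κ).comp (par E.two)) := ⟨_, rfl⟩
  have hlist : ∀ vs : List {v : V // Q v ≠ 0}, vs.length = 3 → ∀ s : F, s ≠ 0 →
      (vs.map fun v => Q v.1).prod = s * s * s →
      ψ (vs.map fun v => qRefl Q v.2).prod = (Multiplicative.ofAdd 1, Spin.sqSign s) := by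
    intro vs hlen s hs hp
    match vs, hlen with
    | [a, b, c], _ =>
      simp only [List.map_cons, List.map_nil, List.prod_cons, List.prod_nil, mul_one] at hp ⊢
      rw [hψ, map_mul, map_mul, MonoidHom.prod_apply, MonoidHom.prod_apply, MonoidHom.prod_apply, hθ, hθ, hθ, hD1,
        hD1, hD1, Prod.mk_mul_mk, Prod.mk_mul_mk]
      refine Prod.ext rfl ?_
      show Spin.sqSign (Q a) * (Spin.sqSign (Q b) * Spin.sqSign (Q c)) = _
      rw [← Spin.sqSign_mul b.2 c.2, ← Spin.sqSign_mul a.2 (mul_ne_zero b.2 c.2), hp,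
        Spin.sqSign_mul (mul_ne_zero hs hs) hs, Spin.sqSign_mul hs hs, Int.units_mul_self, one_mul]
  have hk2 : k / 2 ≠ 0 := div_ne_zero E.k0 E.two
  have hl : ψ.comp (E.kr.comp (MonoidHom.inl _ _)) = χ ∧ ψ.comp (E.kr.comp (MonoidHom.inr _ _)) = χ := by
    refine ⟨?_, ?_⟩ <;>
    · refine MonoidHom.eq_of_eqOn_dense (reflGroup_eq_top (Qd F) (Qd_nd E.two) (hexU E.two)) ?_
      rintro _ ⟨c, hc, rfl⟩
      obtain ⟨vs, ws, ⟨hv3, hw3⟩, ⟨hve, hwe⟩, hvp, hwp⟩ := E.exists_refl_prod hc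
      simp only [MonoidHom.comp_apply, MonoidHom.inl_apply, MonoidHom.inr_apply, hve, hwe]
      first
        | rw [hlist vs hv3 _ (mul_ne_zero hk2 hc) hvp]
        | rw [hlist ws hw3 _ (mul_ne_zero hk2 hc) hwp]
      rw [hχ, MonoidHom.prod_apply, MonoidHom.mul_apply, MonoidHom.comp_apply, par_refl, spin_refl,
        Spin.liftSign_apply_one, hκ, Spin.sqSign_mul hk2 hc, mul_comm]
      rfl
  have hval : ψ (E.kr (A, B)) = χ A * χ B := by
    rw [show (A, B) = (A, 1) * ((1 : qAut (Qd F)), B) by simp, map_mul, map_mul,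
      ← DFunLike.congr_fun hl.1 A, ← DFunLike.congr_fun hl.2 B]
    rfl
  obtain ⟨_, hD', -⟩ := exists_parity_hom Q E.nd (reflGroup_eq_top Q E.nd E.hexV)
  have hev : ∀ g, Even (qRank Q g) ↔ D g = 1 := fun g => by
    rw [hD, ← ofAdd_zero, Multiplicative.ofAdd.apply_eq_iff_eq, ZMod.natCast_eq_zero_iff_even]
  rw [eichGroup_eq_commutator Q E.nd E.n5, hiff, hev]
  rw [hψ, hχ, MonoidHom.prod_apply, MonoidHom.prod_apply, MonoidHom.prod_apply, Prod.mk_mul_mk, Prod.mk.injEq] at hval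
  rw [hval.1, hval.2, MonoidHom.mul_apply, MonoidHom.mul_apply, MonoidHom.comp_apply, MonoidHom.comp_apply]
  have h2 : ∀ x y : Multiplicative (ZMod 2), x * y = 1 ↔ x = y := by decide
  have h3 : ∀ x y : ℤˣ, x * y = 1 ↔ x = y := by decide
  rw [h2]
  refine and_congr_right fun hp => ?_
  rw [hp, mul_mul_mul_comm, Int.units_mul_self, mul_one, h3]

/-- An element of Omega that exchanges the factors. -/
theorem Tens.exists_swap : ∃ (c : U F) (hc : Qd F c ≠ 0),
    E.swp * E.kr (qRefl (Qd F) hc, 1) ∈ eichGroup Q := by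
  classical
  have hc : Qd F (bv 0 + bv 1) ≠ 0 := by
    rw [Qd_apply]
    simp only [add_dotProduct, dotProduct_add, bv_dot]
    norm_num
    exact E.two
  refine ⟨_, hc, ?_⟩
  obtain ⟨vs, -, ⟨hv3, -⟩, ⟨hve, -⟩, hvp, -⟩ := E.exists_refl_prod hc
  obtain ⟨us, hue, hu3, hup⟩ := E.exists_swp.choose_spec.2
  rw [eichGroup_eq_commutator Q E.nd E.n5, show E.swp = _ from hue, hve, ← List.prod_append, ← List.map_append,
    Spin.mem_commutator_prod_iff Q E.nd E.hexV]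
  refine ⟨⟨3, by rw [List.length_append, hu3, hv3]⟩, ?_⟩
  rw [List.map_append, List.prod_append, hup, hvp]
  refine ⟨k * k * k, ?_⟩
  have : (bv 0 + bv 1 : U F) ⬝ᵥ (bv 0 + bv 1) = 2 := by
    simp only [add_dotProduct, dotProduct_add, bv_dot]; norm_num
  rw [this, div_mul_cancel₀ _ E.two]

end CfsgLib.Classical22.WrThree
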