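/-
A root element inside a pure singular three-space gives all of Omega.
-/
import Cfsg.Agent.Lib.Classical22.OrthWreathThree.Sign
import Cfsg.Agent.Lib.Classical22.OrthWreathThree.Frame
import Cfsg.Agent.Lib.Classical22.OrthMaxBasic

set_option autoImplicit false
set_option linter.all false

namespace CfsgLib.Classical22.WrThree

open CfsgLib.Classical

universe u

variable {F : Type u} [Field F] {V : Type u} [AddCommGroup V] [Module F V]
variable {Q : QuadraticForm F V} {T : U F →ₗ[F] U F →ₗ[F] V} {k : F}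

/-- The hypotheses on an intermediate group. -/
structure Hyp [Fintype F] (E : Tens Q T k) (M : Subgroup (qAut Q)) : Prop where
  le : E.tw ⊓ eichGroup Q ≤ M
  sub : M ≤ eichGroup Q
  proper : ¬ eichGroup Q ≤ M
  five : 5 ≤ Fintype.card F

/-- The action of a root element in the slice of a singular vector. -/
def IsR (T : U F →ₗ[F] U F →ₗ[F] V) (v : U F) (L : U F →ₗ[F] U F) (g : qAut Q) : Prop :=
  ∀ y z, g.1 (T y z) = T y z + (v ⬝ᵥ y) • T v (L z)

/-- The elementary skew map. -/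
def LS (a b : U F) : U F →ₗ[F] U F where
  toFun z := (z ⬝ᵥ a) • b - (z ⬝ᵥ b) • a
  map_add' x y := by simp only [add_dotProduct]; module
  map_smul' c x := by simp only [smul_dotProduct, smul_eq_mul, RingHom.id_apply]; module

lemma LS_apply (a b z : U F) : LS a b z = (z ⬝ᵥ a) • b - (z ⬝ᵥ b) • a := rfl

section

variable (E : Tens Q T k)
include E

lemma IsR.mul {v : U F} (hv : v ⬝ᵥ v = 0) {L L' : U F →ₗ[F] U F} {g g' : qAut Q} (h : IsR T v L g)
    (h' : IsR T v L' g') : IsR T v (L + L') (g * g') := fun y z => by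
  rw [qAut_mul_apply, h', map_add, map_smul, h, h, hv, zero_smul, add_zero, LinearMap.add_apply, map_add, smul_add,
    add_assoc]

lemma IsR.inv {v : U F} (hv : v ⬝ᵥ v = 0) {L : U F →ₗ[F] U F} {g : qAut Q} (h : IsR T v L g) :
    IsR T v (-L) g⁻¹ := fun y z => g.1.injective (by
  rw [qApply_inv_self, map_add, map_smul, h, h, hv, zero_smul, add_zero, LinearMap.neg_apply, map_neg, smul_neg,
    add_neg_cancel_right])

lemma IsR.conj {v : U F} {L : U F →ₗ[F] U F} {g : qAut Q} (h : IsR T v L g) (A B : qAut (Qd F)) :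
    IsR T (A.1 v) (B.1.toLinearMap ∘ₗ L ∘ₗ (B⁻¹).1.toLinearMap) (E.kr (A, B) * g * (E.kr (A, B))⁻¹) := fun y z => by
  have e : (E.kr (A, B))⁻¹.1 (T y z) = T ((A⁻¹).1 y) ((B⁻¹).1 z) := by
    rw [← map_inv, Prod.inv_mk, E.kr_T]
  have e2 : v ⬝ᵥ (A⁻¹).1 y = A.1 v ⬝ᵥ y := by
    conv_rhs => rw [← qApply_inv_self (Qd F) A y, dot_map E.two]
  rw [qAut_mul_apply, qAut_mul_apply, e, h, map_add, map_smul, E.kr_T, E.kr_T, qApply_inv_self, qApply_inv_self, e2]
  rfl

lemma LS_conj (B : qAut (Qd F)) (a b : U F) :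
    B.1.toLinearMap ∘ₗ LS a b ∘ₗ (B⁻¹).1.toLinearMap = LS (B.1 a) (B.1 b) := LinearMap.ext fun z => by
  simp only [LinearMap.comp_apply, LinearEquiv.coe_coe, LS_apply, map_sub, map_smul]
  conv_rhs => rw [← qApply_inv_self (Qd F) B z, dot_map E.two, dot_map E.two]

variable [Fintype F] [FiniteDimensional F V] {M : Subgroup (qAut Q)} (H : Hyp E M)
include H

lemma krM {A B : qAut (Qd F)} (hp : par E.two A = par E.two B) (hs : spin E.two A = spin E.two B) :
    E.kr (A, B) ∈ M := H.le ⟨E.kr_tw A B, (E.kr_mem_iff A B).2 ⟨hp, hs⟩⟩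

lemma sq_sub (x : F) : x = ((x + 1) / 2) * ((x + 1) / 2) - ((x - 1) / 2) * ((x - 1) / 2) := by
  have := E.two
  field_simp
  ring

/-- Skew maps realised at a singular vector. -/
def RS (E : Tens Q T k) (M : Subgroup (qAut Q)) {v : U F} (hv : v ⬝ᵥ v = 0) : AddSubgroup (U F →ₗ[F] U F) where
  carrier := {L | ∃ g ∈ M, IsR T v L g}
  add_mem' := fun ⟨g, hg, h⟩ ⟨g', hg', h'⟩ => ⟨g * g', M.mul_mem hg hg', h.mul E hv h'⟩
  zero_mem' := ⟨1, M.one_mem, fun y z => by simp⟩
  neg_mem' := fun ⟨g, hg, h⟩ => ⟨g⁻¹, M.inv_mem hg, h.inv E hv⟩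

omit H in
lemma skew_form {v e f : U F} (S : Fr v e f) {L : U F →ₗ[F] U F} (hL : ∀ a b, L a ⬝ᵥ b = -(a ⬝ᵥ L b)) :
    L = (L e ⬝ᵥ f) • LS v e + (-(L v ⬝ᵥ f)) • LS v f + (-(L e ⬝ᵥ v)) • LS e f := by
  have d : ∀ a, L a ⬝ᵥ a = 0 := fun a => by
    have h := hL a a
    rw [dotProduct_comm a (L a)] at h
    exact (mul_eq_zero.1 (show 2 * (L a ⬝ᵥ a) = 0 by linear_combination h)).resolve_left E.two
  have h1 : L v ⬝ᵥ e = -(L e ⬝ᵥ v) := by rw [hL, dotProduct_comm]
  have h2 : L f ⬝ᵥ e = -(L e ⬝ᵥ f) := by rw [hL, dotProduct_comm]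
  have h3 : L f ⬝ᵥ v = -(L v ⬝ᵥ f) := by rw [hL, dotProduct_comm]
  refine LinearMap.ext fun z => ?_
  obtain ⟨a, b, c, rfl⟩ := S.span z
  rw [map_add, map_add, map_smul, map_smul, map_smul]
  conv_lhs => rw [S.coord (L v), S.coord (L e), S.coord (L f)]
  simp only [LinearMap.add_apply, LinearMap.smul_apply, LS_apply, S.dot_v, S.dot_e, S.dot_f, h1, h2, h3, d]
  module

/-- A root element gives all skew maps in its slice. -/
theorem rs_full {v : U F} (hv : v ⬝ᵥ v = 0) {L : U F →ₗ[F] U F} (hL : ∀ a b, L a ⬝ᵥ b = -(a ⬝ᵥ L b)) (hL0 : L ≠ 0)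
    (hmem : L ∈ RS E M hv) (L' : U F →ₗ[F] U F) (hL' : ∀ a b, L' a ⬝ᵥ b = -(a ⬝ᵥ L' b)) : L' ∈ RS E M hv := by
  obtain ⟨w, e, f, S⟩ := exists_frame E.two
  obtain ⟨R, hR⟩ : ∃ R, R = RS E M hv := ⟨_, rfl⟩
  rw [← hR] at hmem ⊢
  have hconj : ∀ B : qAut (Qd F), par E.two B = 1 → spin E.two B = 1 → ∀ L, L ∈ R →
      B.1.toLinearMap ∘ₗ L ∘ₗ (B⁻¹).1.toLinearMap ∈ R := by
    intro B hp hs L hLm
    rw [hR] at hLm ⊢
    obtain ⟨g, hg, h⟩ := hLm
    have hk : E.kr (1, B) ∈ M := krM E H (by rw [map_one, hp]) (by rw [map_one, hs])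
    exact ⟨_, M.mul_mem (M.mul_mem hk hg) (M.inv_mem hk), h.conj E 1 B⟩
  have hu : ∀ c L, L ∈ R → (uD w e c).1.toLinearMap ∘ₗ L ∘ₗ ((uD w e c)⁻¹).1.toLinearMap - L ∈ R := fun c L h =>
    R.sub_mem (hconj _ (par_uD E.two S c) (spin_uD E.two S c) L h) h
  obtain ⟨α, hα, hmem'⟩ : ∃ α : F, α ≠ 0 ∧ α • LS w e ∈ R := by
    have hstep : ∀ a b g : F, a • LS w e + b • LS w f + g • LS e f ∈ R →
        (b + g / 2) • LS w e + g • LS w f ∈ R := fun a b g h => by
      have h1 := hu 1 _ h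
      convert h1 using 1
      simp only [LinearMap.add_comp, LinearMap.comp_add, LinearMap.smul_comp, LinearMap.comp_smul, LS_conj E,
        uD_v E.two S, uD_e E.two S, uD_f E.two S]
      refine LinearMap.ext fun z => ?_
      simp only [LinearMap.add_apply, LinearMap.sub_apply, LinearMap.smul_apply, LS_apply, dotProduct_add,
        dotProduct_smul, smul_eq_mul]
      match_scalars <;> field_simp [E.two] <;> ring
    rw [skew_form E S hL] at hmem
    by_cases hg : -(L e ⬝ᵥ w) = 0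
    · by_cases hb : -(L w ⬝ᵥ f) = 0
      · refine ⟨L e ⬝ᵥ f, fun ha => hL0 ?_, by simpa [hg, hb] using hmem⟩
        rw [skew_form E S hL, ha, hb, hg]
        simp
      · refine ⟨_, hb, ?_⟩
        simpa [hg] using hstep _ _ _ hmem
    · refine ⟨_, hg, ?_⟩
      have h1 := hstep _ _ _ hmem
      rw [show ((-(L w ⬝ᵥ f) + -(L e ⬝ᵥ w) / 2) • LS w e + (-(L e ⬝ᵥ w)) • LS w f : U F →ₗ[F] U F) =
        (-(L w ⬝ᵥ f) + -(L e ⬝ᵥ w) / 2) • LS w e + (-(L e ⬝ᵥ w)) • LS w f + (0 : F) • LS e f by simp] at h1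
      simpa using hstep _ _ _ h1
  have hall : ∀ c : F, c • LS w e ∈ R := fun c => by
    have hsq : ∀ s : F, (s * s * α) • LS w e ∈ R := fun s => by
      by_cases hs : s = 0
      · rw [hs, zero_mul, zero_mul, zero_smul]; exact R.zero_mem
      obtain ⟨d, h1, h3, -, hp, hsp⟩ := exists_tor_sq E.two S hs
      have := hconj d hp hsp _ hmem'
      rw [LinearMap.smul_comp, LinearMap.comp_smul, LS_conj E, h1, h3] at this
      convert this using 1
      refine LinearMap.ext fun z => ?_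
      simp only [LinearMap.smul_apply, LS_apply, dotProduct_smul, smul_eq_mul]
      module
    rw [show c = c / α * α from (div_mul_cancel₀ c hα).symm, sq_sub E H (c / α), sub_mul]
    convert R.sub_mem (hsq ((c / α + 1) / 2)) (hsq ((c / α - 1) / 2)) using 1
    refine LinearMap.ext fun z => ?_
    simp only [LinearMap.sub_apply, LinearMap.smul_apply]
    module
  have hT : ∀ c t : F, c • LS w e + (c * t) • LS w f + (c * (t * t / 2)) • LS e f ∈ R := fun c t => by
    have := hconj _ (par_uD E.two S.swap t) (spin_uD E.two S.swap t) _ (hall c)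
    rw [LinearMap.smul_comp, LinearMap.comp_smul, LS_conj E, uD_f E.two S.swap, uD_e E.two S.swap] at this
    convert this using 1
    refine LinearMap.ext fun z => ?_
    simp only [LinearMap.add_apply, LinearMap.smul_apply, LS_apply, dotProduct_add, dotProduct_smul, smul_eq_mul]
    match_scalars <;> field_simp [E.two] <;> ring
  have hf : ∀ c : F, c • LS w f ∈ R := fun c => by
    have h := R.sub_mem (hT (c / 2) 1) (hT (c / 2) (-1))
    convert h using 1
    refine LinearMap.ext fun z => ?_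
    simp only [LinearMap.add_apply, LinearMap.sub_apply, LinearMap.smul_apply]
    match_scalars <;> field_simp [E.two] <;> ring
  have he : ∀ c : F, c • LS e f ∈ R := fun c => by
    have h := R.sub_mem (R.sub_mem (hT (2 * c) 1) (hall (2 * c))) (hf (2 * c))
    convert h using 1
    refine LinearMap.ext fun z => ?_
    simp only [LinearMap.add_apply, LinearMap.sub_apply, LinearMap.smul_apply]
    match_scalars <;> field_simp [E.two] <;> ring
  rw [skew_form E S hL']
  exact R.add_mem (R.add_mem (hall _) (hf _)) (he _)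

omit H in
lemma LS_skew (c : F) (a b x y : U F) : (c • LS a b) x ⬝ᵥ y = -(x ⬝ᵥ (c • LS a b) y) := by
  simp only [LinearMap.smul_apply, LS_apply, smul_dotProduct, dotProduct_smul, sub_dotProduct, dotProduct_sub,
    smul_eq_mul]
  rw [dotProduct_comm a y, dotProduct_comm b y]
  ring

/-- No root element in a pure singular slice. -/
theorem no_root {v : U F} (hv : v ⬝ᵥ v = 0) (hv0 : v ≠ 0) {L : U F →ₗ[F] U F}
    (hL : ∀ a b, L a ⬝ᵥ b = -(a ⬝ᵥ L b)) {g : qAut Q} (hg : g ∈ M) (h : IsR T v L g) : L = 0 := by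
  by_contra hL0
  obtain ⟨v₀, e₀, f₀, S₀⟩ := exists_frame E.two
  -- every singular vector
  have hmove : ∀ w : U F, w ⬝ᵥ w = 0 → w ≠ 0 → ∀ L' : U F →ₗ[F] U F, (∀ a b, L' a ⬝ᵥ b = -(a ⬝ᵥ L' b)) →
      ∃ g ∈ M, IsR T w L' g := by
    intro w hw hw0 L' hL'
    obtain ⟨A, s, hs, hA⟩ : ∃ (A : qAut (Qd F)) (s : F), s ≠ 0 ∧ w = s • A.1 v := by
      have hto : ∀ x : U F, x ⬝ᵥ x = 0 → x ≠ 0 → ∃ (A : qAut (Qd F)) (s : F), s ≠ 0 ∧ x = s • A.1 f₀ := by
        intro x hx hx0
        rcases sing_form E.two S₀ hx hx0 with ⟨a, ha, rfl⟩ | ⟨a, c, ha, rfl⟩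
        · exact ⟨1, a, ha, rfl⟩
        · have hd : Qd F (f₀ - v₀) ≠ 0 := by
            rw [Qd_apply]
            simp only [sub_dotProduct, dotProduct_sub, S₀.vv, S₀.ff, S₀.vf, S₀.fv]
            intro h
            exact E.two (by linear_combination -h)
          refine ⟨uD f₀ e₀ c * qRefl (Qd F) hd, a, ha, ?_⟩
          rw [qAut_mul_apply, qRefl_exchange (Qd F) (by rw [Qd_apply, Qd_apply, S₀.vv, S₀.ff]) hd]
      obtain ⟨A, s, hs, rfl⟩ := hto w hw hw0
      obtain ⟨B, t, ht, hvB⟩ := hto v hv hv0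
      refine ⟨A * B⁻¹, s / t, div_ne_zero hs ht, ?_⟩
      rw [hvB, qAut_mul_apply, map_smul, map_smul, qInv_apply_self, smul_smul, div_mul_cancel₀ _ ht]
    obtain ⟨g', hg', h'⟩ := rs_full E H hv hL hL0 ⟨g, hg, h⟩
      ((s * s) • ((A⁻¹).1.toLinearMap ∘ₗ L' ∘ₗ A.1.toLinearMap)) (fun a b => by
        simp only [LinearMap.smul_apply, LinearMap.comp_apply, LinearEquiv.coe_coe, smul_dotProduct, dotProduct_smul]
        rw [← dot_map E.two A, qApply_inv_self, hL', ← dot_map E.two A a, qApply_inv_self, smul_neg])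
    have hk : E.kr (A, A) ∈ M := krM E H rfl rfl
    refine ⟨_, M.mul_mem (M.mul_mem hk hg') (M.inv_mem hk), fun y z => ?_⟩
    rw [h'.conj E A A y z, hA]
    simp only [LinearMap.comp_apply, LinearEquiv.coe_coe, LinearMap.smul_apply, map_smul, qApply_inv_self,
      smul_dotProduct, smul_eq_mul, smul_smul]
    congr 2
    ring
  -- the same on the other side
  obtain ⟨c, hc, hσ⟩ := E.exists_swap
  obtain ⟨σ, hσdef⟩ : ∃ σ, σ = E.swp * E.kr (qRefl (Qd F) hc, 1) := ⟨_, rfl⟩
  have hσM : σ ∈ M := hσdef ▸ H.le ⟨E.tw.mul_mem E.swp_tw (E.kr_tw _ _), hσ⟩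
  have hr2 : ∀ z, (qRefl (Qd F) hc).1 ((qRefl (Qd F) hc).1 z) = z := fun z => by
    rw [← qAut_mul_apply, qRefl_mul_self]; rfl
  have hσT : ∀ a b, σ.1 (T a b) = T b ((qRefl (Qd F) hc).1 a) := fun a b => by
    rw [hσdef, qAut_mul_apply, E.kr_T, E.swp_T]; rfl
  have hmove' : ∀ w : U F, w ⬝ᵥ w = 0 → w ≠ 0 → ∀ L' : U F →ₗ[F] U F, (∀ a b, L' a ⬝ᵥ b = -(a ⬝ᵥ L' b)) →
      ∃ g ∈ M, ∀ y z, g.1 (T y z) = T y z + (w ⬝ᵥ z) • T (L' y) w := by
    intro w hw hw0 L' hL'
    obtain ⟨g', hg', h'⟩ := hmove ((qRefl (Qd F) hc).1 w) (by rw [dot_map E.two, hw])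
      (by rw [ne_eq, LinearEquiv.map_eq_zero_iff]; exact hw0) L' hL'
    refine ⟨σ * g' * σ⁻¹, M.mul_mem (M.mul_mem hσM hg') (M.inv_mem hσM), fun y z => ?_⟩
    have e : (σ⁻¹).1 (T y z) = T ((qRefl (Qd F) hc).1 z) y := σ.1.injective (by
      rw [qApply_inv_self, hσT, hr2])
    rw [qAut_mul_apply, qAut_mul_apply, e, h', map_add, map_smul, hσT, hσT, hr2, hr2, dot_map E.two]
  -- the whole root group at a pure vector
  have hfull : ∀ {v e f : U F}, Fr v e f → EFull Q M (T v v) := by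
    intro v e f S
    obtain ⟨x, hx⟩ : ∃ x, x = T v v := ⟨_, rfl⟩
    rw [← hx]
    have hQx : Q x = 0 := by rw [hx, E.quad, S.vv]; ring
    let Y : Submodule F V :=
      { carrier := {y | QuadraticMap.polar Q x y = 0 ∧ ∀ t : F, eich Q x (t • y) ∈ M}
        add_mem' := fun {a b} ha hb => ⟨by rw [QuadraticMap.polar_add_right, ha.1, hb.1, add_zero], fun t => by
          rw [smul_add, ← eich_mul Q hQx (by rw [QuadraticMap.polar_smul_right, ha.1, smul_zero])
            (by rw [QuadraticMap.polar_smul_right, hb.1, smul_zero])]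
          exact M.mul_mem (ha.2 t) (hb.2 t)⟩
        zero_mem' := ⟨QuadraticMap.polar_zero_right _ _, fun t => by rw [smul_zero, eich_zero Q hQx]; exact M.one_mem⟩
        smul_mem' := fun c a ha => ⟨by rw [QuadraticMap.polar_smul_right, ha.1, smul_zero], fun t => by
          rw [smul_smul]; exact ha.2 _⟩ }
    have hpx : ∀ a b, QuadraticMap.polar Q x (T a b) = k * ((v ⬝ᵥ a) * (v ⬝ᵥ b)) := fun a b => by
      rw [hx, E.polar]
    have hvb : ∀ b, T v b ∈ Y := fun b => ⟨by rw [hpx, S.vv]; ring, fun t => by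
      obtain ⟨g, hg, hgR⟩ := hmove v S.vv S.v0 ((k * t) • LS v b) (LS_skew E _ _ _)
      convert hg using 1
      refine E.ext_aut fun y z => ?_
      have hq : Q (t • T v b) = 0 := by rw [quad_smul, E.quad, S.vv]; ring
      rw [hgR, eich_apply Q hQx (by rw [QuadraticMap.polar_smul_right, hpx, S.vv]; simp), hq, hx,
        QuadraticMap.polar_smul_right, E.polar, E.polar]
      simp only [LinearMap.smul_apply, LS_apply, map_sub, map_smul, smul_eq_mul, dotProduct_comm y v]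
      module⟩
    have hbv' : ∀ b, T b v ∈ Y := fun b => ⟨by rw [hpx, S.vv]; ring, fun t => by
      obtain ⟨g, hg, hgR⟩ := hmove' v S.vv S.v0 ((k * t) • LS v b) (LS_skew E _ _ _)
      convert hg using 1
      refine E.ext_aut fun y z => ?_
      have hq : Q (t • T b v) = 0 := by rw [quad_smul, E.quad, S.vv]; ring
      rw [hgR, eich_apply Q hQx (by rw [QuadraticMap.polar_smul_right, hpx, S.vv]; simp), hq, hx,
        QuadraticMap.polar_smul_right, E.polar, E.polar]
      simp only [LinearMap.smul_apply, LS_apply, map_sub, map_smul, LinearMap.sub_apply, smul_eq_mul,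
        dotProduct_comm z v]
      module⟩
    have hstep : ∀ g ∈ M, g.1 x = x → ∀ y ∈ Y, g.1 y ∈ Y := by
      intro g hg hgx y hy
      refine ⟨?_, fun t => ?_⟩
      · rw [← hy.1]
        conv_lhs => rw [← hgx, qAut_polar]
      · have h2 := eich_conj Q g hQx (w := t • y) (by rw [QuadraticMap.polar_smul_right, hy.1, smul_zero])
        rw [hgx, map_smul] at h2
        rw [← h2]
        exact M.mul_mem (M.mul_mem hg (hy.2 t)) (M.inv_mem hg)
    have hae : ∀ a : U F, a ⬝ᵥ a = 0 → a ⬝ᵥ v = 1 → T a e ∈ Y ∧ T e a ∈ Y := by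
      intro a ha hav
      have ha0 : a ≠ 0 := fun h => by simp [h] at hav
      constructor
      · obtain ⟨g, hg, hgR⟩ := hmove a ha ha0 ((1 : F) • LS v e) (LS_skew E _ _ _)
        have hgx : g.1 x = x := by
          rw [hx, hgR, one_smul, LS_apply, S.vv, S.ve]
          simp
        have := Y.sub_mem (hstep g hg hgx _ (hvb f)) (hvb f)
        rw [hgR, one_smul, LS_apply, hav, S.fv, S.fe, add_sub_cancel_left] at this
        simpa using this
      · obtain ⟨g, hg, hgR⟩ := hmove' a ha ha0 ((1 : F) • LS v e) (LS_skew E _ _ _)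
        have hgx : g.1 x = x := by
          rw [hx, hgR, one_smul, LS_apply, S.vv, S.ve]
          simp
        have := Y.sub_mem (hstep g hg hgx _ (hbv' f)) (hbv' f)
        rw [hgR, one_smul, LS_apply, hav, S.fv, S.fe, add_sub_cancel_left] at this
        simpa using this
    obtain ⟨hfe, hef⟩ := hae f S.ff S.fv
    have hee : T e e ∈ Y := by
      have h1 := (hae ((uD v e 1).1 f) (by rw [dot_map E.two, S.ff]) (by
        have h := dot_map E.two (uD v e 1) f v
        rw [uD_v E.two S, S.fv] at h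
        exact h)).1
      have := Y.sub_mem (Y.sub_mem h1 hfe) (Y.smul_mem ((1 : F) * 1 / 2) (hvb e))
      rw [uD_f E.two S, map_add, map_add, map_smul, map_smul, LinearMap.add_apply, LinearMap.add_apply,
        LinearMap.smul_apply, LinearMap.smul_apply, one_smul] at this
      convert this using 1
      abel
    intro w hw
    obtain ⟨P, hP⟩ : ∃ P : V →ₗ[F] V, ∀ w, P w = w - (k⁻¹ * QuadraticMap.polar Q x w) • T f f :=
      ⟨LinearMap.id - (k⁻¹ • (QuadraticMap.polarBilin Q x)).smulRight (T f f), fun w => by simp [mul_smul]⟩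
    have hPY : ∀ w, P w ∈ Y := by
      have hz : (Submodule.mkQ Y) ∘ₗ P = 0 := E.ext fun a b => by
        rw [LinearMap.comp_apply, Submodule.mkQ_apply, LinearMap.zero_apply, Submodule.Quotient.mk_eq_zero, hP, hpx,
          inv_mul_cancel_left₀ E.k0]
        obtain ⟨a₁, a₂, a₃, rfl⟩ := S.span a
        obtain ⟨b₁, b₂, b₃, rfl⟩ := S.span b
        rw [dotProduct_comm v, dotProduct_comm v, S.dot_v, S.dot_v]
        simp only [map_add, map_smul, LinearMap.add_apply, LinearMap.smul_apply]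
        have h : (a₁ * b₁) • T v v + (a₁ * b₂) • T v e + (a₁ * b₃) • T v f + (a₂ * b₁) • T e v + (a₃ * b₁) • T f v +
            (a₂ * b₂) • T e e + (a₃ * b₂) • T f e + (a₂ * b₃) • T e f ∈ Y :=
          Y.add_mem (Y.add_mem (Y.add_mem (Y.add_mem (Y.add_mem (Y.add_mem (Y.add_mem (Y.smul_mem _ (hvb v))
            (Y.smul_mem _ (hvb e))) (Y.smul_mem _ (hvb f))) (Y.smul_mem _ (hbv' e))) (Y.smul_mem _ (hbv' f)))
            (Y.smul_mem _ hee)) (Y.smul_mem _ hfe)) (Y.smul_mem _ hef)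
        convert h using 1
        module
      exact fun w => (Submodule.Quotient.mk_eq_zero Y).1 (LinearMap.congr_fun hz w)
    have hwY := hPY w
    rw [hP, hw, mul_zero, zero_smul, sub_zero] at hwY
    simpa using hwY.2 1
  refine H.proper (eichGroup_le_of_full Q E.nd (by rw [E.dim]; norm_num) (u := T v₀ v₀) (v := T f₀ f₀) ?_ ?_ ?_
    (hfull S₀) (hfull S₀.swap))
  · rw [E.quad, S₀.vv]; ring
  · rw [E.quad, S₀.ff]; ring
  · rw [E.polar, S₀.vf, mul_one, mul_one]; exact E.k0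

end

end CfsgLib.Classical22.WrThree
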