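/-
The stabiliser of a pure singular three-space lies in the tensor wreath group.
-/
import Cfsg.Agent.Lib.Classical22.OrthWreathThree.Root
import Cfsg.Agent.Lib.Classical22.OrthOrthTensor.Invariant

set_option autoImplicit false
set_option linter.all false

namespace CfsgLib.Classical22.WrThree

open CfsgLib.Classical

universe u

variable {F : Type u} [Field F] {V : Type u} [AddCommGroup V] [Module F V]
variable {Q : QuadraticForm F V} {T : U F →ₗ[F] U F →ₗ[F] V} {k : F} (E : Tens Q T k)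
include E

/-- Contraction of the first factor. -/
noncomputable def Tens.cl (w : U F) : V →ₗ[F] U F := E.basis.constr F fun p => (bv p.1 ⬝ᵥ w) • bv p.2

lemma Tens.cl_T (w y z : U F) : E.cl w (T y z) = (y ⬝ᵥ w) • z := by
  have e : ∀ i j, E.cl w (T (bv i) (bv j)) = (bv i ⬝ᵥ w) • bv j := fun i j => by
    rw [← E.basis_apply (i, j), Tens.cl, Module.Basis.constr_basis]
  conv_lhs => rw [U_eq y, U_eq z]
  conv_rhs => rw [U_eq y, U_eq z]
  simp only [map_add, map_smul, LinearMap.add_apply, LinearMap.smul_apply, e, add_dotProduct, smul_dotProduct,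
    smul_eq_mul]
  module

lemma Tens.polar_cl (x : V) (y z : U F) : QuadraticMap.polar Q x (T y z) = k * (E.cl y x ⬝ᵥ z) := by
  obtain ⟨L, hL⟩ : ∃ L : V →ₗ[F] F, ∀ x, L x = k * (E.cl y x ⬝ᵥ z) :=
    ⟨{ toFun := fun x => k * (E.cl y x ⬝ᵥ z)
       map_add' := fun a b => by rw [map_add, add_dotProduct, mul_add]
       map_smul' := fun c a => by rw [map_smul, smul_dotProduct, RingHom.id_apply, smul_eq_mul, smul_eq_mul]; ring },
      fun x => rfl⟩
  have h : (QuadraticMap.polarBilin Q).flip (T y z) = L := E.ext fun a b => by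
    rw [LinearMap.flip_apply, QuadraticMap.polarBilin_apply_apply, E.polar, hL, E.cl_T, smul_dotProduct, smul_eq_mul]
  rw [← hL, ← h]
  rfl

lemma Tens.decomp {v e f : U F} (S : Fr v e f) (x : V) :
    x = T v (E.cl f x) + T e (-E.cl e x) + T f (E.cl v x) := by
  obtain ⟨L, hL⟩ : ∃ L : V →ₗ[F] V, ∀ x, L x = T v (E.cl f x) + T e (-E.cl e x) + T f (E.cl v x) :=
    ⟨(T v).comp (E.cl f) + (T e).comp (-(E.cl e)) + (T f).comp (E.cl v), fun x => rfl⟩
  have h : L = LinearMap.id := E.ext fun a b => by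
    rw [hL, E.cl_T, E.cl_T, E.cl_T, LinearMap.id_apply]
    conv_rhs => rw [S.coord a]
    simp only [map_add, map_smul, map_neg, LinearMap.add_apply, LinearMap.smul_apply, LinearMap.neg_apply]
    module
  rw [← hL, h, LinearMap.id_apply]

lemma Tens.cl_coord {v e f : U F} (S : Fr v e f) (a b d : U F) :
    E.cl f (T v a + T e b + T f d) = a ∧ E.cl e (T v a + T e b + T f d) = -b ∧ E.cl v (T v a + T e b + T f d) = d := by
  simp only [map_add, E.cl_T, S.vf, S.ef, S.ff, S.ve, S.ee, S.fe, S.vv, S.ev, S.fv]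
  refine ⟨by module, by module, by module⟩

lemma Tens.kru_T {v e f : U F} (S : Fr v e f) (c : F) (a : U F) :
    (E.kr (uD v e c, 1)).1 (T v a) = T v a ∧ (E.kr (uD v e c, 1)).1 (T e a) = T e a + c • T v a ∧
      (E.kr (uD v e c, 1)).1 (T f a) = T f a + c • T e a + (c * c / 2) • T v a := by
  rw [E.kr_T, E.kr_T, E.kr_T, uD_v E.two S, uD_e E.two S, uD_f E.two S, map_add, map_add, map_add, map_smul, map_smul,
    map_smul]
  exact ⟨rfl, rfl, rfl⟩

/-- Radical elements of the slice. -/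
structure Rad (T : U F →ₗ[F] U F →ₗ[F] V) (v e : U F) (φ : U F →ₗ[F] U F) (ρ : qAut Q) : Prop where
  line : ∀ a, ρ.1 (T v a) = T v a
  mid : ∀ b, ρ.1 (T e b) = T e b + T v (φ b)

variable {v e f : U F} (S : Fr v e f)
include S

omit S in
lemma Rad.mul {φ φ' : U F →ₗ[F] U F} {ρ ρ' : qAut Q} (h : Rad T v e φ ρ) (h' : Rad T v e φ' ρ') :
    Rad T v e (φ + φ') (ρ * ρ') :=
  ⟨fun a => by rw [qAut_mul_apply, h'.line, h.line],
    fun b => by rw [qAut_mul_apply, h'.mid, map_add, h.mid, h.line, LinearMap.add_apply, map_add, add_assoc]⟩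

omit S in
lemma Rad.inv {φ : U F →ₗ[F] U F} {ρ : qAut Q} (h : Rad T v e φ ρ) : Rad T v e (-φ) ρ⁻¹ :=
  ⟨fun a => ρ.1.injective (by rw [qApply_inv_self, h.line]),
    fun b => ρ.1.injective (by
      rw [qApply_inv_self, map_add, h.mid, h.line, LinearMap.neg_apply, map_neg, add_neg_cancel_right])⟩

lemma Rad.uu (c : F) : Rad T v e (c • LinearMap.id) (E.kr (uD v e c, 1)) :=
  ⟨fun a => (E.kru_T S c a).1, fun b => by
    rw [(E.kru_T S c b).2.1, LinearMap.smul_apply, LinearMap.id_apply, map_smul]⟩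

/-- The action of a radical element on the last slice. -/
lemma Rad.last {φ : U F →ₗ[F] U F} {ρ : qAut Q} (h : Rad T v e φ ρ) :
    ∃ ψ χ : U F →ₗ[F] U F, (∀ a, ρ.1 (T f a) = T f a + T e (ψ a) + T v (χ a)) ∧
      ∀ a b, φ b ⬝ᵥ a = b ⬝ᵥ ψ a := by
  refine ⟨-(E.cl e ∘ₗ ρ.1.toLinearMap ∘ₗ T f), E.cl f ∘ₗ ρ.1.toLinearMap ∘ₗ T f, fun a => ?_, fun a b => ?_⟩
  · have hv : E.cl v (ρ.1 (T f a)) = a := funext fun i => by
      have h1 := qAut_polar ρ (T f a) (T v (bv i))
      rw [h.line, E.polar_cl, E.polar, S.fv, one_mul, dot_bv, dot_bv] at h1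
      exact mul_left_cancel₀ E.k0 h1
    conv_lhs => rw [E.decomp S (ρ.1 (T f a)), hv]
    simp only [LinearMap.neg_apply, LinearMap.comp_apply, LinearEquiv.coe_coe, map_neg]
    abel
  · have h1 := qAut_polar ρ (T f a) (T e b)
    have hv : E.cl v (ρ.1 (T f a)) = a := funext fun i => by
      have h1 := qAut_polar ρ (T f a) (T v (bv i))
      rw [h.line, E.polar_cl, E.polar, S.fv, one_mul, dot_bv, dot_bv] at h1
      exact mul_left_cancel₀ E.k0 h1
    rw [h.mid, QuadraticMap.polar_add_right, E.polar_cl, E.polar_cl, hv, E.polar, S.fe, zero_mul, mul_zero,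
      ← mul_add, mul_eq_zero] at h1
    have h2 := h1.resolve_left E.k0
    rw [dotProduct_comm (φ b) a]
    simp only [LinearMap.neg_apply, LinearMap.comp_apply, LinearEquiv.coe_coe, dotProduct_neg]
    rw [dotProduct_comm b]
    linear_combination h2

variable [Fintype F] [FiniteDimensional F V] {M : Subgroup (qAut Q)} (H : Hyp E M)
include H

omit H in
/-- An element fixing the slice and the middle is a root element. -/
lemma isR_of_zero {ρ : qAut Q} (hl : ∀ a, ρ.1 (T v a) = T v a) {χ : U F →ₗ[F] U F}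
    (hm : ∀ b, ρ.1 (T e b) = T e b) (hf : ∀ a, ρ.1 (T f a) = T f a + T v (χ a)) :
    IsR T v χ ρ ∧ ∀ a b, χ a ⬝ᵥ b = -(a ⬝ᵥ χ b) := by
  refine ⟨fun y z => ?_, fun a b => ?_⟩
  · obtain ⟨y₁, y₂, y₃, rfl⟩ := S.span y
    simp only [map_add, map_smul, LinearMap.add_apply, LinearMap.smul_apply, hl, hm, hf,
      dotProduct_comm v (y₁ • v + y₂ • e + y₃ • f), S.dot_v]
    module
  · have h1 := qAut_polar ρ (T f a) (T f b)
    rw [hf, hf] at h1
    simp only [QuadraticMap.polar_add_left, QuadraticMap.polar_add_right, E.polar, S.ff, S.vv, S.fv, S.vf] at h1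
    have h2 : k * (χ a ⬝ᵥ b + a ⬝ᵥ χ b) = 0 := by linear_combination h1
    exact eq_neg_of_add_eq_zero_left ((mul_eq_zero.1 h2).resolve_left E.k0)

/-- Two radical elements give a commutation rule. -/
lemma rad_rule {φ φ' : U F →ₗ[F] U F} {ρ ρ' : qAut Q} (hρ : ρ ∈ M) (hρ' : ρ' ∈ M) (h : Rad T v e φ ρ)
    (h' : Rad T v e φ' ρ') {ψ χ ψ' χ' : U F →ₗ[F] U F} (hf : ∀ a, ρ.1 (T f a) = T f a + T e (ψ a) + T v (χ a))
    (hf' : ∀ a, ρ'.1 (T f a) = T f a + T e (ψ' a) + T v (χ' a)) : φ ∘ₗ ψ' = φ' ∘ₗ ψ := by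
  obtain ⟨σ, hσ⟩ : ∃ σ, σ = (ρ * ρ') * (ρ' * ρ)⁻¹ := ⟨_, rfl⟩
  obtain ⟨hl, hm⟩ : (∀ a, σ.1 (T v a) = T v a) ∧ ∀ b, σ.1 (T e b) = T e b := by
    have h1 := (h.mul E h').mul E ((h'.mul E h).inv E)
    rw [← hσ] at h1
    refine ⟨h1.line, fun b => ?_⟩
    rw [h1.mid, show φ + φ' + -(φ' + φ) = (0 : U F →ₗ[F] U F) by abel, LinearMap.zero_apply, map_zero, add_zero]
  have hy : ∀ a, σ.1 ((ρ' * ρ).1 (T f a)) = (ρ * ρ').1 (T f a) := fun a => by
    rw [← qAut_mul_apply, hσ, inv_mul_cancel_right]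
  have hff : ∀ a, σ.1 (T f a) = T f a + T v ((φ ∘ₗ ψ' - φ' ∘ₗ ψ) a) := fun a => by
    have h1 := hy a
    simp only [qAut_mul_apply, hf, hf', map_add, h'.mid, h'.line, h.mid, h.line, hl, hm] at h1
    rw [LinearMap.sub_apply, LinearMap.comp_apply, LinearMap.comp_apply, map_sub]
    linear_combination (norm := abel) h1
  obtain ⟨hR, hskew⟩ := isR_of_zero E S hl hm hff
  exact sub_eq_zero.1 (no_root E H S.vv S.v0 hskew (hσ ▸ M.mul_mem (M.mul_mem hρ hρ')
    (M.inv_mem (M.mul_mem hρ' hρ))) hR)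

lemma rad_sym {φ : U F →ₗ[F] U F} {ρ : qAut Q} (hρ : ρ ∈ M) (h : Rad T v e φ ρ) :
    (∀ a b, φ a ⬝ᵥ b = a ⬝ᵥ φ b) ∧
      ∀ (φ' : U F →ₗ[F] U F) (ρ' : qAut Q), ρ' ∈ M → Rad T v e φ' ρ' → φ ∘ₗ φ' = φ' ∘ₗ φ := by
  have key : ∀ (φ : U F →ₗ[F] U F) (ρ : qAut Q), ρ ∈ M → Rad T v e φ ρ →
      ∃ χ : U F →ₗ[F] U F, (∀ a, ρ.1 (T f a) = T f a + T e (φ a) + T v (χ a)) ∧ ∀ a b, φ a ⬝ᵥ b = a ⬝ᵥ φ b := by
    intro φ ρ hρ h
    obtain ⟨ψ, χ, hf, hadj⟩ := h.last E S
    have h1 : Rad T v e ((1 : F) • LinearMap.id) (E.kr (uD v e 1, 1)) := Rad.uu E S 1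
    have hu : E.kr (uD v e 1, 1) ∈ M := krM E H (by rw [par_uD E.two S, map_one]) (by rw [spin_uD E.two S, map_one])
    have h2 := rad_rule E S H hρ hu h h1 hf (ψ' := LinearMap.id) (χ' := ((1 : F) * 1 / 2) • LinearMap.id) fun a => by
      rw [(E.kru_T S 1 a).2.2, one_smul, LinearMap.id_apply, LinearMap.smul_apply, LinearMap.id_apply, map_smul]
    rw [one_smul, LinearMap.comp_id, LinearMap.id_comp] at h2
    subst h2
    exact ⟨χ, hf, fun a b => hadj b a⟩
  obtain ⟨χ, hf, hs⟩ := key φ ρ hρ h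
  refine ⟨hs, fun φ' ρ' hρ' h' => ?_⟩
  obtain ⟨χ', hf', -⟩ := key φ' ρ' hρ' h'
  exact rad_rule E S H hρ hρ' h h' hf hf'

/-- Radical elements are scalar on the middle. -/
theorem rad_scalar {φ : U F →ₗ[F] U F} {ρ : qAut Q} (hρ : ρ ∈ M) (h : Rad T v e φ ρ) :
    ∃ c : F, φ = c • LinearMap.id := by
  classical
  obtain ⟨p, hp⟩ := CharP.exists F
  haveI : Fact p.Prime := ⟨CharP.char_is_prime F p⟩
  haveI : Finite (U F →ₗ[F] U F) := Module.finite_of_finite F
  by_contra hc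
  obtain ⟨w, d, g, S'⟩ := exists_frame E.two
  let Z : Submodule F (U F →ₗ[F] U F) := Submodule.span F {LinearMap.id}
  let C : F → (U F →ₗ[F] U F) →ₗ[F] (U F →ₗ[F] U F) := fun t =>
    { toFun := fun L => (uD w d t).1.toLinearMap ∘ₗ L ∘ₗ ((uD w d t)⁻¹).1.toLinearMap
      map_add' := fun L L' => by rw [LinearMap.add_comp, LinearMap.comp_add]
      map_smul' := fun s L => by rw [LinearMap.smul_comp, LinearMap.comp_smul, RingHom.id_apply] }
  have hCapp : ∀ t L x, C t L x = (uD w d t).1 (L (((uD w d t)⁻¹).1 x)) := fun t L x => rfl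
  have hC1 : ∀ t, C t LinearMap.id = LinearMap.id := fun t => LinearMap.ext fun x => by
    rw [hCapp, LinearMap.id_apply, LinearMap.id_apply, qApply_inv_self]
  have hCZ : ∀ t, Z ≤ Z.comap (C t) := fun t => Submodule.span_le.2 (by
    rintro _ rfl
    show C t LinearMap.id ∈ Z
    rw [hC1]
    exact Submodule.subset_span rfl)
  let op : F → ((U F →ₗ[F] U F) ⧸ Z) → ((U F →ₗ[F] U F) ⧸ Z) := fun t => Z.mapQ Z (C t) (hCZ t)
  let R : AddSubgroup (U F →ₗ[F] U F) :=
    { carrier := {φ | ∃ ρ ∈ M, Rad T v e φ ρ}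
      add_mem' := fun ⟨a, ha, h⟩ ⟨b, hb, h'⟩ => ⟨a * b, M.mul_mem ha hb, h.mul E h'⟩
      zero_mem' := ⟨1, M.one_mem, fun a => rfl, fun b => by simp⟩
      neg_mem' := fun ⟨a, ha, h⟩ => ⟨a⁻¹, M.inv_mem ha, h.inv E⟩ }
  have hRconj : ∀ (B : qAut (Qd F)), par E.two B = 1 → spin E.two B = 1 → ∀ L ∈ R,
      B.1.toLinearMap ∘ₗ L ∘ₗ (B⁻¹).1.toLinearMap ∈ R := by
    rintro B hp hs L ⟨ρ, hρ, h⟩
    have hk : E.kr (1, B) ∈ M := krM E H (by rw [map_one, hp]) (by rw [map_one, hs])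
    have e0 : ∀ y z, ((E.kr (1, B))⁻¹).1 (T y z) = T y ((B⁻¹).1 z) := fun y z => by
      rw [← map_inv, Prod.inv_mk, inv_one, E.kr_T]; rfl
    refine ⟨_, M.mul_mem (M.mul_mem hk hρ) (M.inv_mem hk), fun a => ?_, fun b => ?_⟩
    · rw [qAut_mul_apply, qAut_mul_apply, e0, h.line, E.kr_T, qApply_inv_self]; rfl
    · rw [qAut_mul_apply, qAut_mul_apply, e0, h.mid, map_add, E.kr_T, E.kr_T, qApply_inv_self]; rfl
  haveI : Finite ((U F →ₗ[F] U F) ⧸ Z) := Finite.of_surjective _ Z.mkQ_surjective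
  obtain ⟨P, hP⟩ : ∃ P : AddSubgroup ((U F →ₗ[F] U F) ⧸ Z), P = R.map Z.mkQ.toAddMonoidHom := ⟨_, rfl⟩
  obtain ⟨x, hxP, hx0, hxfix⟩ := TensorMax.OO.exists_fixed_point (p := p) (P := P)
    (fun x : (U F →ₗ[F] U F) ⧸ Z => by rw [← Nat.cast_smul_eq_nsmul F, CharP.cast_eq_zero, zero_smul])
    (W := F) (fun t : F => by rw [nsmul_eq_mul, CharP.cast_eq_zero, zero_mul]) (fun h0 => hc (by
      have hmem : Submodule.Quotient.mk φ ∈ P := hP ▸ ⟨φ, ⟨ρ, hρ, h⟩, rfl⟩
      rw [h0, AddSubgroup.mem_bot, Submodule.Quotient.mk_eq_zero] at hmem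
      obtain ⟨c, hc'⟩ := Submodule.mem_span_singleton.1 hmem
      exact ⟨c, hc'.symm⟩)) op
    (fun x => by
      obtain ⟨L, rfl⟩ := Submodule.Quotient.mk_surjective Z x
      show Submodule.Quotient.mk (C 0 L) = _
      congr 1
      refine LinearMap.ext fun y => ?_
      rw [hCapp, uD_zero E.two S', inv_one]; rfl)
    (fun t t' x _ => by
      obtain ⟨L, rfl⟩ := Submodule.Quotient.mk_surjective Z x
      show Submodule.Quotient.mk (C (t + t') L) = Submodule.Quotient.mk (C t (C t' L))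
      congr 1
      refine LinearMap.ext fun y => ?_
      rw [hCapp, hCapp, hCapp, ← uD_mul E.two S', mul_inv_rev, qAut_mul_apply, qAut_mul_apply])
    (fun t => map_zero _)
    (fun t x hx => by
      rw [hP] at hx ⊢
      obtain ⟨L, hL, rfl⟩ := hx
      exact ⟨_, hRconj _ (par_uD E.two S' t) (spin_uD E.two S' t) L hL, rfl⟩)
  · rw [hP] at hxP
    obtain ⟨L, hL, rfl⟩ := hxP
    have hLZ : L ∉ Z := fun h => hx0 ((Submodule.Quotient.mk_eq_zero Z).2 h)
    obtain ⟨hsym, hcomm⟩ : (∀ a b, L a ⬝ᵥ b = a ⬝ᵥ L b) ∧ ∀ L' ∈ R, L ∘ₗ L' = L' ∘ₗ L := by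
      obtain ⟨ρL, hρL, hLr⟩ := hL
      exact ⟨(rad_sym E S H hρL hLr).1, fun L' ⟨ρ', hρ', h'⟩ => (rad_sym E S H hρL hLr).2 L' ρ' hρ' h'⟩
    have hγ : ∀ t, ∃ γ : F, ∀ y, (uD w d t).1 (L (((uD w d t)⁻¹).1 y)) = L y + γ • y := fun t => by
      have h1 : C t L - L ∈ Z := (Submodule.Quotient.eq Z).1 (hxfix t)
      obtain ⟨γ, hγ⟩ := Submodule.mem_span_singleton.1 h1
      refine ⟨γ, fun y => ?_⟩
      have := LinearMap.congr_fun hγ y
      rw [LinearMap.smul_apply, LinearMap.id_apply, LinearMap.sub_apply, hCapp] at this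
      rw [this, add_sub_cancel]
    obtain ⟨a1, a2, a3, hLw⟩ := S'.span (L w)
    obtain ⟨b1, b2, b3, hLd⟩ := S'.span (L d)
    obtain ⟨c1, c2, c3, hLg⟩ := S'.span (L g)
    have ha3 : a3 = 0 := by
      obtain ⟨γ, hγ⟩ := hγ 1
      have h1 := hγ w
      rw [uD_inv E.two S', uD_v E.two S', hLw] at h1
      simp only [map_add, map_smul, uD_v E.two S', uD_e E.two S', uD_f E.two S'] at h1
      have := (S'.coord_eq (a := a1 + a2 + a3 * (1 * 1 / 2)) (b := a2 + a3) (c := a3) (a' := a1 + γ) (b' := a2) (c' := a3)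
        (by linear_combination (norm := module) h1)).2.1
      linear_combination this
    have e1 : b3 = -a2 := by
      have h1 := hsym d w
      rw [hLd, hLw, S'.dot_v, dotProduct_comm d, S'.dot_e] at h1
      exact h1
    have e2 : c3 = a1 := by
      have h1 := hsym g w
      rw [hLg, hLw, S'.dot_v, dotProduct_comm g, S'.dot_f] at h1
      exact h1
    have e3 : c2 = -b1 := by
      have h1 := hsym g d
      rw [hLg, hLd, S'.dot_e, dotProduct_comm g, S'.dot_f] at h1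
      linear_combination -h1
    have heq : ∀ t : F, -2 * t * b1 + t * t * (a1 - b2) + t * t * t * a2 = 0 := fun t => by
      obtain ⟨γ, hγ⟩ := hγ t
      have h1 := hγ g
      rw [uD_inv E.two S', uD_f E.two S'] at h1
      simp only [map_add, map_smul, hLg, hLd, hLw, e1, e2, e3, ha3, uD_v E.two S', uD_e E.two S', uD_f E.two S'] at h1
      obtain ⟨h2, -, -⟩ := S'.coord_eq
        (a := c1 + t * -b1 + a1 * (t * t / 2) + -t * (b1 + t * b2 + -a2 * (t * t / 2)) + -t * -t / 2 * (a1 + t * a2))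
        (b := -b1 + a1 * t + -t * (b2 + -a2 * t) + -t * -t / 2 * a2)
        (c := a1 + -t * -a2) (a' := c1) (b' := -b1) (c' := a1 + γ)
        (by linear_combination (norm := module) h1)
      have := E.two
      field_simp at h2
      refine mul_left_cancel₀ E.two ?_
      linear_combination h2
    have hab : a1 = b2 := by
      have h1 := heq 1
      have h2 := heq (-1)
      refine sub_eq_zero.1 ((mul_eq_zero.1 (show 2 * (a1 - b2) = 0 by linear_combination h1 + h2)).resolve_left E.two)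
    have ha2 : a2 = 0 := by
      obtain ⟨t, ht⟩ : ∃ t : F, t * t ≠ 1 ∧ t ≠ 0 := by
        by_contra hne
        push Not at hne
        have hsub : (Finset.univ : Finset F) ⊆ {0, 1, -1} := fun t _ => by
          by_cases ht : t = 0
          · simp [ht]
          · have := mul_self_eq_one_iff.1 (by_contra fun h => ht (hne t h))
            simp [this]
        have := (Finset.card_le_card hsub).trans Finset.card_le_three
        rw [Finset.card_univ] at this
        have := H.five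
        omega
      have h1 := heq 1
      have h2 := heq t
      rw [hab, sub_self, mul_zero, add_zero] at h1 h2
      have h3 : t * (t * t - 1) * a2 = 0 := by linear_combination h2 - t * h1
      exact (mul_eq_zero.1 h3).resolve_left (mul_ne_zero ht.2 (sub_ne_zero.2 ht.1))
    have hb1 : b1 = 0 := by
      have h1 := heq 1
      rw [hab, ha2] at h1
      exact (mul_eq_zero.1 (show 2 * b1 = 0 by linear_combination -h1)).resolve_left E.two
    have hLx : ∀ y, L y = a1 • y + (c1 * (y ⬝ᵥ w)) • w := fun y => by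
      obtain ⟨y1, y2, y3, rfl⟩ := S'.span y
      rw [map_add, map_add, map_smul, map_smul, map_smul, hLw, hLd, hLg, e1, e2, e3, ha3, ha2, hb1, ← hab, S'.dot_v]
      module
    have hc1 : c1 ≠ 0 := fun h => hLZ (Submodule.mem_span_singleton.2 ⟨a1, LinearMap.ext fun y => by
      rw [hLx, h, LinearMap.smul_apply, LinearMap.id_apply, zero_mul, zero_smul, add_zero]⟩)
    -- a conjugate that does not commute
    obtain ⟨B, hB⟩ : ∃ B, B = uD g d 1 := ⟨_, rfl⟩
    have h1 := hcomm _ (hRconj B (hB ▸ par_uD E.two S'.swap 1) (hB ▸ spin_uD E.two S'.swap 1) L hL)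
    have hL' : ∀ y, B.1 (L ((B⁻¹).1 y)) = a1 • y + (c1 * (y ⬝ᵥ B.1 w)) • B.1 w := fun y => by
      rw [hLx, map_add, map_smul, map_smul, qApply_inv_self]
      conv_rhs => rw [← qApply_inv_self (Qd F) B y, dot_map E.two, qApply_inv_self]
    have h2 := LinearMap.congr_fun h1 g
    simp only [LinearMap.comp_apply, LinearEquiv.coe_coe] at h2
    rw [hL', hL', hLx, hLx] at h2
    have hBw : B.1 w = w + d + (1 / 2 : F) • g := by
      rw [hB, uD_f E.two S'.swap, one_smul, one_mul]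
    rw [hBw] at h2
    simp only [add_dotProduct, dotProduct_add, smul_dotProduct, dotProduct_smul, S'.vv, S'.ev, S'.fv, S'.vf,
      S'.fe, S'.ff, S'.ef, S'.ve, S'.ee, smul_add, smul_smul, smul_eq_mul] at h2
    have h3 := congrArg (fun z => z ⬝ᵥ d) h2
    simp only [add_dotProduct, smul_dotProduct, S'.ve, S'.ee, S'.fe, smul_eq_mul] at h3
    refine hc1 (mul_self_eq_zero.1 ((mul_eq_zero.1 (show (1 / 2 : F) * (c1 * c1) = 0 by
      linear_combination h3)).resolve_left (div_ne_zero one_ne_zero E.two)))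

/-- An element of an intermediate group stabilising a pure singular slice is in the tensor wreath group. -/
theorem stab_line {g : qAut Q} (hg : g ∈ M) (hst : ∀ a, ∃ a', g.1 (T v a) = T v a') : g ∈ E.tw := by
  classical
  obtain ⟨p, hp⟩ := CharP.exists F
  haveI : Fact p.Prime := ⟨CharP.char_is_prime F p⟩
  obtain ⟨A, hA⟩ : ∃ A : U F →ₗ[F] U F, ∀ a, g.1 (T v a) = T v (A a) := by
    refine ⟨E.cl f ∘ₗ g.1.toLinearMap ∘ₗ T v, fun a => ?_⟩
    obtain ⟨a', ha'⟩ := hst a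
    simp only [LinearMap.comp_apply, LinearEquiv.coe_coe, ha', E.cl_T, S.vf, one_smul]
  have hTv : ∀ x, T v x = 0 → x = 0 := fun x h => (E.T_zero h).resolve_left S.v0
  have hAinj : Function.Injective A := (injective_iff_map_eq_zero A).2 fun a ha => hTv a (g.1.injective (by
    rw [hA, ha, map_zero, map_zero]))
  have hAsurj : Function.Surjective A := LinearMap.injective_iff_surjective.1 hAinj
  have hperp : ∀ b, E.cl v (g.1 (T e b)) = 0 := fun b => funext fun i => by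
    obtain ⟨a, ha⟩ := hAsurj (bv i)
    have h1 := qAut_polar g (T e b) (T v a)
    rw [hA, ha, E.polar_cl, E.polar, S.ev, dot_bv, zero_mul, mul_zero] at h1
    exact (mul_eq_zero.1 h1).resolve_left E.k0
  obtain ⟨B₀, hB₀⟩ : ∃ B : U F →ₗ[F] U F, B = -(E.cl e ∘ₗ g.1.toLinearMap ∘ₗ T e) := ⟨_, rfl⟩
  obtain ⟨C₀, hC₀⟩ : ∃ C : U F →ₗ[F] U F, C = E.cl f ∘ₗ g.1.toLinearMap ∘ₗ T e := ⟨_, rfl⟩
  have hge : ∀ b, g.1 (T e b) = T e (B₀ b) + T v (C₀ b) := fun b => by
    conv_lhs => rw [E.decomp S (g.1 (T e b)), hperp b, map_zero, add_zero]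
    rw [hB₀, hC₀, add_comm]
    rfl
  have hB₀dot : ∀ a b, B₀ a ⬝ᵥ B₀ b = a ⬝ᵥ b := fun a b => by
    have h1 := qAut_polar g (T e a) (T e b)
    rw [hge, hge] at h1
    simp only [QuadraticMap.polar_add_left, QuadraticMap.polar_add_right, E.polar, S.ee, S.ev, S.ve, S.vv] at h1
    refine mul_left_cancel₀ E.k0 ?_
    linear_combination -h1
  obtain ⟨B, hB⟩ : ∃ B : qAut (Qd F), ∀ b, B.1 b = B₀ b := by
    have hinj : Function.Injective B₀ := (injective_iff_map_eq_zero B₀).2 fun a ha => funext fun i => by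
      have := hB₀dot a (bv i)
      rw [ha, zero_dotProduct, dot_bv] at this
      exact this.symm
    exact ⟨⟨LinearEquiv.ofInjectiveEndo B₀ hinj, fun x => by
      show Qd F (B₀ x) = Qd F x
      rw [Qd_apply, Qd_apply, hB₀dot]⟩, fun b => rfl⟩
  obtain ⟨l, hl⟩ : ∃ l : F, ∀ b, A b = l • B.1 b := by
    have hu : E.kr (uD v e 1, 1) ∈ M := krM E H (by rw [par_uD E.two S, map_one]) (by rw [spin_uD E.two S, map_one])
    obtain ⟨ρ, hρ⟩ : ∃ ρ, ρ = g * E.kr (uD v e 1, 1) * g⁻¹ := ⟨_, rfl⟩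
    have hρa : ∀ x, ρ.1 (g.1 x) = g.1 ((E.kr (uD v e 1, 1)).1 x) := fun x => by
      rw [hρ, qAut_mul_apply, qAut_mul_apply, qInv_apply_self]
    have hR : Rad T v e (A ∘ₗ (B⁻¹).1.toLinearMap) ρ := by
      have hline : ∀ a, ρ.1 (T v a) = T v a := fun a => by
        obtain ⟨a', rfl⟩ := hAsurj a
        rw [← hA, hρa, (E.kru_T S 1 a').1]
      refine ⟨hline, fun b => ?_⟩
      have h1 := hρa (T e ((B⁻¹).1 b))
      rw [(E.kru_T S 1 _).2.1, map_add, map_smul, one_smul, hge, hA, map_add, hline, ← hB, qApply_inv_self] at h1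
      rw [LinearMap.comp_apply, LinearEquiv.coe_coe]
      linear_combination (norm := abel) h1
    obtain ⟨l, hl⟩ := rad_scalar E S H (hρ ▸ M.mul_mem (M.mul_mem hg hu) (M.inv_mem hg)) hR
    refine ⟨l, fun b => ?_⟩
    have := LinearMap.congr_fun hl (B.1 b)
    simpa [qInv_apply_self] using this
  have hl0 : l ≠ 0 := fun h => bv_ne (F := F) 0 (hAinj (by rw [hl, hl, h, zero_smul, zero_smul]))
  obtain ⟨d, hdv, hde, hdf⟩ := exists_tor E.two S hl0
  obtain ⟨g', hg'⟩ : ∃ g', g' = (E.kr (d, B))⁻¹ * g := ⟨_, rfl⟩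
  have hgg : ∀ x, (E.kr (d, B)).1 (g'.1 x) = g.1 x := fun x => by
    rw [← qAut_mul_apply, hg', mul_inv_cancel_left]
  have hR' : Rad T v e (l⁻¹ • ((B⁻¹).1.toLinearMap ∘ₗ C₀)) g' := by
    refine ⟨fun a => (E.kr (d, B)).1.injective ?_, fun b => (E.kr (d, B)).1.injective ?_⟩
    · rw [hgg, hA, hl, E.kr_T, hdv, map_smul, map_smul, LinearMap.smul_apply]
    · rw [hgg, hge, map_add, E.kr_T, E.kr_T, hde, hdv, hB, LinearMap.smul_apply, map_smul (B.1),
        map_smul (T (l • v)), map_smul T, LinearMap.smul_apply, smul_smul, inv_mul_cancel₀ hl0, one_smul,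
        LinearMap.comp_apply, LinearEquiv.coe_coe, qApply_inv_self]
  have hpow : ∀ (φ : U F →ₗ[F] U F) (x : qAut Q) (n : ℕ), Rad T v e φ x → Rad T v e ((n : F) • φ) (x ^ n) := by
    intro φ x n hx
    induction n with
    | zero => exact ⟨fun a => rfl, fun b => by simp⟩
    | succ n ih =>
      have := ih.mul E hx
      rw [Nat.cast_succ, add_smul, one_smul, pow_succ]
      exact this
  have hone : g' ^ (p * p) = 1 := by
    have h1 := hpow _ g' p hR'
    rw [CharP.cast_eq_zero, zero_smul] at h1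
    obtain ⟨ψ, χ, hf, hadj⟩ := h1.last E S
    have hψ : ∀ a, ψ a = 0 := fun a => funext fun i => by
      have := hadj a (bv i)
      rw [LinearMap.zero_apply, zero_dotProduct, dotProduct_comm, dot_bv] at this
      exact this.symm
    have hl' : ∀ n : ℕ, ∀ a, ((g' ^ p) ^ n).1 (T f a) = T f a + T v ((n : F) • χ a) := fun n => by
      induction n with
      | zero => intro a; simp
      | succ n ih =>
        intro a
        rw [pow_succ, qAut_mul_apply, hf, hψ, map_zero, add_zero, map_add, ih, (hpow 0 (g' ^ p) n h1).line,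
          Nat.cast_succ, add_smul, one_smul, map_add]
        abel
    rw [pow_mul]
    refine E.ext_aut fun y z => ?_
    obtain ⟨y₁, y₂, y₃, rfl⟩ := S.span y
    simp only [map_add, map_smul, LinearMap.add_apply, LinearMap.smul_apply, hl' p, (hpow 0 (g' ^ p) p h1).line,
      (hpow 0 (g' ^ p) p h1).mid, CharP.cast_eq_zero, zero_smul, map_zero, add_zero, LinearMap.zero_apply, smul_zero]
    rfl
  have hg'Ω : g' ∈ eichGroup Q := by
    obtain ⟨i, hi⟩ : Odd (p * p) := by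
      have hpo : Odd p := (Fact.out : p.Prime).odd_of_ne_two fun h => E.two (by subst h; exact CharTwo.two_eq_zero)
      exact hpo.mul hpo
    rw [eichGroup_eq_commutator Q E.nd E.n5,
      show g' = g' ^ (i + 1) * g' ^ (i + 1) by rw [← pow_add, show i + 1 + (i + 1) = p * p + 1 by omega, pow_succ,
        hone, one_mul]]
    exact Spin.sq_mem_commutator Q E.nd E.hexV _
  have hkM : E.kr (d, B) ∈ M := H.le ⟨E.kr_tw _ _, by
    rw [show E.kr (d, B) = g * g'⁻¹ by rw [hg']; group]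
    exact (eichGroup Q).mul_mem (H.sub hg) ((eichGroup Q).inv_mem hg'Ω)⟩
  have hg'M : g' ∈ M := hg' ▸ M.mul_mem (M.inv_mem hkM) hg
  obtain ⟨c, hc⟩ := rad_scalar E S H hg'M hR'
  obtain ⟨g'', hg''⟩ : ∃ g'', g'' = g' * E.kr (uD v e (-c), 1) := ⟨_, rfl⟩
  have hum : E.kr (uD v e (-c), 1) ∈ M := krM E H (by rw [par_uD E.two S, map_one]) (by rw [spin_uD E.two S, map_one])
  have hR'' : Rad T v e (0 : U F →ₗ[F] U F) g'' := by
    have := hR'.mul E (Rad.uu E S (-c))
    rwa [hc, ← add_smul, add_neg_cancel, zero_smul, ← hg''] at this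
  obtain ⟨ψ, χ, hf, hadj⟩ := hR''.last E S
  have hψ : ∀ a, ψ a = 0 := fun a => funext fun i => by
    have := hadj a (bv i)
    rw [LinearMap.zero_apply, zero_dotProduct, dotProduct_comm, dot_bv] at this
    exact this.symm
  obtain ⟨hIs, hskew⟩ := isR_of_zero E S hR''.line (fun b => by
    rw [hR''.mid, LinearMap.zero_apply, map_zero, add_zero]) (χ := χ) fun a => by rw [hf, hψ, map_zero, add_zero]
  have hχ := no_root E H S.vv S.v0 hskew (hg'' ▸ M.mul_mem hg'M hum) hIs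
  have h1 : g'' = 1 := E.ext_aut fun y z => by rw [hIs, hχ]; simp
  rw [show g = E.kr (d, B) * g'' * (E.kr (uD v e (-c), 1))⁻¹ by rw [hg'', hg']; group, h1, mul_one]
  exact E.tw.mul_mem (E.kr_tw _ _) (E.tw.inv_mem (E.kr_tw _ _))

/-- The centraliser of a pure root element. -/
theorem cent_u {g : qAut Q} (hg : g ∈ M) {c : F} (hc : c ≠ 0)
    (hcomm : g * E.kr (uD v e c, 1) = E.kr (uD v e c, 1) * g) : g ∈ E.tw := by
  refine stab_line E S H hg fun a => ?_
  have hx : (E.kr (uD v e c, 1)).1 (g.1 (T v a)) = g.1 (T v a) := by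
    rw [← qAut_mul_apply, ← hcomm, qAut_mul_apply, (E.kru_T S c a).1]
  obtain ⟨x, hxdef⟩ : ∃ x, x = g.1 (T v a) := ⟨_, rfl⟩
  rw [← hxdef] at hx ⊢
  obtain ⟨a', b', d', hx'⟩ : ∃ a' b' d', x = T v a' + T e b' + T f d' := ⟨_, _, _, E.decomp S x⟩
  rw [hx'] at hx
  simp only [map_add, (E.kru_T S c _).1, (E.kru_T S c _).2.1, (E.kru_T S c _).2.2] at hx
  have h' : T v (a' + c • b' + (c * c / 2) • d') + T e (b' + c • d') + T f d' = T v a' + T e b' + T f d' := by
    simp only [map_add, map_smul]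
    linear_combination (norm := module) hx
  have h1 := congrArg (E.cl e) h'
  rw [(E.cl_coord S _ _ _).2.1, (E.cl_coord S _ _ _).2.1, neg_inj] at h1
  have hd : d' = 0 := (smul_eq_zero.1 (add_eq_left.1 h1)).resolve_left hc
  subst hd
  have h2 := congrArg (E.cl f) h'
  rw [(E.cl_coord S _ _ _).1, (E.cl_coord S _ _ _).1, smul_zero, add_zero] at h2
  have hb : b' = 0 := (smul_eq_zero.1 (add_eq_left.1 h2)).resolve_left hc
  exact ⟨a', by rw [hx', hb, map_zero, map_zero, add_zero, add_zero]⟩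

end CfsgLib.Classical22.WrThree
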