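/-
Three-dimensional orthogonal groups: small facts about stabilisers and normalised subgroups of order prime to p.
-/
import Cfsg.Agent.Lib.Classical22.OrthWreathThree.Frame

set_option autoImplicit false
set_option linter.all false

namespace CfsgLib.Classical22.WrThree

open CfsgLib.Classical

universe u

variable {F : Type u} [Field F] (h2 : (2 : F) ≠ 0)
include h2

lemma qRefl_perp {c x : U F} (hc : Qd F c ≠ 0) (hx : x ⬝ᵥ c = 0) : (qRefl (Qd F) hc).1 x = x :=
  qRefl_fix _ hc (by rw [polar_Qd, hx, mul_zero])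

omit h2 in
/-- An orthogonal map is determined by three vectors spanning the space. -/
lemma ext_bv {A B : qAut (Qd F)} (h : ∀ i, A.1 (bv i) = B.1 (bv i)) : A = B := qAut_ext fun x => by
  rw [U_eq x]
  simp only [map_add, map_smul, h]

omit h2 in
lemma ext_fr {v e f : U F} (S : Fr v e f) {A B : qAut (Qd F)} (hv : A.1 v = B.1 v) (he : A.1 e = B.1 e)
    (hf : A.1 f = B.1 f) : A = B := qAut_ext fun x => by
  obtain ⟨a, b, c, rfl⟩ := S.span x
  simp only [map_add, map_smul, hv, he, hf]

/-- Transitivity on vectors of one value inside the perpendicular of a vector. -/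
lemma exists_move {z c d : U F} (hzc : z ⬝ᵥ c = 0) (hzd : z ⬝ᵥ d = 0) (hv : c ⬝ᵥ c = d ⬝ᵥ d) (hc : c ⬝ᵥ c ≠ 0) :
    ∃ A : qAut (Qd F), A.1 z = z ∧ A.1 c = d := by
  have hd : Qd F d ≠ 0 := by rw [Qd_apply, ← hv]; exact hc
  by_cases h : Qd F (c - d) = 0
  · have hs : Qd F (c + d) ≠ 0 := by
      rw [Qd_apply] at h ⊢
      simp only [sub_dotProduct, dotProduct_sub, add_dotProduct, dotProduct_add, dotProduct_comm d c, ← hv] at h ⊢
      intro h'
      exact mul_ne_zero (mul_ne_zero h2 h2) hc (by linear_combination h + h')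
    refine ⟨qRefl (Qd F) hd * qRefl (Qd F) hs, ?_, ?_⟩
    · rw [qAut_mul_apply, qRefl_perp h2 hs (by rw [dotProduct_add, hzc, hzd, add_zero]), qRefl_perp h2 hd hzd]
    · rw [qAut_mul_apply]
      have : (qRefl (Qd F) hs).1 c = -d := by
        rw [qRefl_dot h2]
        have e : 2 * (c ⬝ᵥ (c + d)) / ((c + d) ⬝ᵥ (c + d)) = 1 := by
          rw [div_eq_one_iff_eq (show (c + d) ⬝ᵥ (c + d) ≠ 0 from hs)]
          simp only [add_dotProduct, dotProduct_add, dotProduct_comm d c, ← hv]
          ring
        rw [e]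
        module
      rw [this, map_neg, qRefl_self, neg_neg]
  · refine ⟨qRefl (Qd F) h, qRefl_perp h2 h (by rw [dotProduct_sub, hzc, hzd, sub_zero]), ?_⟩
    rw [qRefl_exchange (Qd F) (by rw [Qd_apply, Qd_apply, hv]) h]

omit h2 in
lemma perp0 {x : U F} (hx : x ⬝ᵥ bv 0 = 0) : x = x 1 • bv 1 + x 2 • bv 2 := by
  rw [dot_bv] at hx
  conv_lhs => rw [U_eq x, hx, zero_smul, zero_add]

/-- An element fixing the first basis vector is a product of at most two reflections orthogonal to it. -/
lemma fix0_cases {A : qAut (Qd F)} (hA : A.1 (bv 0) = bv 0) :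
    A = 1 ∨ (∃ (c : U F) (hc : Qd F c ≠ 0), c ⬝ᵥ bv 0 = 0 ∧ A = qRefl (Qd F) hc) ∨
      ∃ (c d : U F) (hc : Qd F c ≠ 0) (hd : Qd F d ≠ 0), c ⬝ᵥ bv 0 = 0 ∧ d ⬝ᵥ bv 0 = 0 ∧
        A = qRefl (Qd F) hc * qRefl (Qd F) hd := by
  have hone : ∀ B : qAut (Qd F), B.1 (bv 0) = bv 0 → B.1 (bv 1) = bv 1 → B = 1 ∨ B = qRefl (Qd F) (Qd_bv 2) := by
    intro B hB0 hB1
    have h0 : B.1 (bv 2) ⬝ᵥ bv 0 = 0 := by
      conv_lhs => rw [← hB0, dot_map h2, bv_dot, if_neg (by decide)]
    have h1 : B.1 (bv 2) ⬝ᵥ bv 1 = 0 := by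
      conv_lhs => rw [← hB1, dot_map h2, bv_dot, if_neg (by decide)]
    have h22 : B.1 (bv 2) = (B.1 (bv 2) 2) • bv 2 := by
      conv_lhs => rw [perp0 h0]
      rw [dot_bv] at h1
      rw [h1, zero_smul, zero_add]
    have hs : B.1 (bv 2) 2 * B.1 (bv 2) 2 = 1 := by
      have h := dot_map h2 B (bv 2) (bv 2)
      rw [h22, smul_dotProduct, dotProduct_smul, bv_self, smul_eq_mul, smul_eq_mul, mul_one] at h
      exact h
    rcases mul_self_eq_one_iff.1 hs with h | h
    · exact Or.inl (ext_bv fun i => by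
        fin_cases i
        · exact hB0
        · exact hB1
        · show B.1 (bv 2) = bv 2
          rw [h22, h, one_smul])
    · exact Or.inr (ext_bv fun i => by
        fin_cases i
        · show B.1 (bv 0) = _
          rw [hB0]; exact (qRefl_perp h2 _ (by rw [bv_dot, if_neg (by decide)])).symm
        · show B.1 (bv 1) = _
          rw [hB1]; exact (qRefl_perp h2 _ (by rw [bv_dot, if_neg (by decide)])).symm
        · show B.1 (bv 2) = _
          rw [h22, h, neg_one_smul]; exact (qRefl_self _ _).symm)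
  have h10 : (bv 1 : U F) ⬝ᵥ bv 0 = 0 := by rw [bv_dot, if_neg (by decide)]
  have hA10 : A.1 (bv 1) ⬝ᵥ bv 0 = 0 := by
    conv_lhs => rw [← hA, dot_map h2, h10]
  by_cases h : Qd F (A.1 (bv 1) - bv 1) = 0
  · -- compose with the reflection of the second vector first
    by_cases hfix : A.1 (bv 1) = bv 1
    · rcases hone A hA hfix with rfl | rfl
      · exact Or.inl rfl
      · exact Or.inr (Or.inl ⟨_, _, by rw [bv_dot, if_neg (by decide)], rfl⟩)
    · exfalso
      apply hfix
      have e : A.1 (bv 1) 1 = 1 := by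
        have hv := dot_map h2 A (bv 1) (bv 1)
        rw [Qd_apply] at h
        simp only [sub_dotProduct, dotProduct_sub, hv, dotProduct_comm (bv 1) (A.1 (bv 1)), dot_bv, bv_self] at h
        have h' : (bv 1 : U F) 1 = 1 := by rw [bv_apply, if_pos rfl]
        rw [h'] at h
        exact mul_left_cancel₀ h2 (by linear_combination -h)
      have hv := dot_map h2 A (bv 1) (bv 1)
      rw [perp0 hA10, e, one_smul, bv_self] at hv
      simp only [add_dotProduct, dotProduct_add, smul_dotProduct, dotProduct_smul, bv_dot] at hv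
      simp at hv
      rw [perp0 hA10, e, one_smul, hv, zero_smul, add_zero]
  · have hc0 : (A.1 (bv 1) - bv 1) ⬝ᵥ bv 0 = 0 := by rw [sub_dotProduct, hA10, h10, sub_zero]
    obtain ⟨B, hB⟩ : ∃ B, B = qRefl (Qd F) h * A := ⟨_, rfl⟩
    have hA' : A = qRefl (Qd F) h * B := by rw [hB, ← mul_assoc, qRefl_mul_self, one_mul]
    have h1 : B.1 (bv 0) = bv 0 := by
      rw [hB, qAut_mul_apply, hA, qRefl_perp h2 h (by rw [dotProduct_comm]; exact hc0)]
    have h1' : B.1 (bv 1) = bv 1 := by
      rw [hB, qAut_mul_apply, qRefl_exchange (Qd F) (by rw [Qd_apply, Qd_apply, dot_map h2]) h]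
    rcases hone B h1 h1' with hB1 | hB1
    · exact Or.inr (Or.inl ⟨_, h, hc0, hA'.trans (by rw [hB1, mul_one])⟩)
    · exact Or.inr (Or.inr ⟨_, bv 2, h, Qd_bv 2, hc0, by rw [bv_dot, if_neg (by decide)], hA'.trans (by rw [hB1])⟩)

variable [Fintype F]

/-- A proper element negating the first basis vector is a half turn orthogonal to it. -/
lemma neg0_rho {A : qAut (Qd F)} (hA : A.1 (bv 0) = -bv 0) (hp : par h2 A = 1) :
    ∃ (c : U F) (hc : Qd F c ≠ 0), c ⬝ᵥ bv 0 = 0 ∧ A = rho hc := by
  obtain ⟨B, hB⟩ : ∃ B, B = negU F * A := ⟨_, rfl⟩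
  have hA' : A = negU F * B := by rw [hB, ← mul_assoc, negU_mul_self, one_mul]
  have hpB : par h2 B = Multiplicative.ofAdd 1 := by rw [hB, map_mul, par_negU, hp, mul_one]
  rcases fix0_cases h2 (A := B) (by rw [hB, qAut_mul_apply, hA, negU_apply, neg_neg]) with
    h | ⟨c, hc, hc0, h⟩ | ⟨c, d, hc, hd, -, -, h⟩
  · rw [h, map_one] at hpB; exact absurd hpB (by decide)
  · exact ⟨c, hc, hc0, by rw [hA', h]; rfl⟩
  · rw [h, map_mul, par_refl, par_refl] at hpB; exact absurd hpB (by decide)

omit h2 in
lemma finite_qAutU : Finite (qAut (Qd F)) :=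
  Finite.of_injective (fun g : qAut (Qd F) => (g.1 : U F → U F))
    fun g g' h => qAut_ext fun x => congrFun h x

variable {p : ℕ} [Fact p.Prime] [CharP F p]

omit [Fintype F] in
lemma p_odd : Odd p := (Fact.out : p.Prime).odd_of_ne_two fun h => h2 (by subst h; exact CharTwo.two_eq_zero)

omit [Fintype F] in
lemma eq_one_of_sq_of_pow {G : Type*} [Group G] {x : G} (h1 : x * x = 1) (h : x ^ p = 1) : x = 1 := by
  obtain ⟨i, hi⟩ := p_odd (F := F) h2 (p := p)
  rwa [hi, pow_succ, pow_mul, sq, h1, one_pow, one_mul] at h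

omit [Fintype F] in
/-- An element of order `p` cannot fix an anisotropic vector. -/
lemma fix0_pow {A : qAut (Qd F)} (hA : A.1 (bv 0) = bv 0) (hp : A ^ p = 1) : A = 1 := by
  rcases fix0_cases h2 hA with h | ⟨c, hc, -, h⟩ | ⟨c, d, hc, hd, hc0, hd0, h⟩
  · exact h
  · exact eq_one_of_sq_of_pow h2 (by rw [h, qRefl_mul_self]) hp
  · -- a rotation: nilpotent displacement
    obtain ⟨N, hN⟩ : ∃ N : Module.End F (U F), N = A.1.toLinearMap - 1 := ⟨_, rfl⟩
    have hNp : N ^ p = 0 := by
      have hpow : ∀ n : ℕ, (A.1.toLinearMap : Module.End F (U F)) ^ n = (A ^ n).1.toLinearMap := fun n => by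
        induction n with
        | zero => rfl
        | succ n ih => rw [pow_succ, ih, pow_succ]; rfl
      haveI : CharP (Module.End F (U F)) p := charP_of_injective_algebraMap (algebraMap F _).injective p
      rw [hN, sub_pow_char_of_commute p (Commute.one_right _), hpow, hp, one_pow]
      exact sub_self _
    -- a fixed vector orthogonal to the first one
    obtain ⟨w, hw0, hwp, hwA⟩ : ∃ w : U F, w ≠ 0 ∧ w ⬝ᵥ bv 0 = 0 ∧ A.1 w = w := by
      have hN0 : ∀ x, N x ⬝ᵥ bv 0 = 0 := fun x => by
        rw [hN, LinearMap.sub_apply, Module.End.one_apply, sub_dotProduct, LinearEquiv.coe_coe]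
        conv_lhs => arg 1; rw [← hA, dot_map h2]
        exact sub_self _
      obtain ⟨n, hn⟩ : ∃ n : ℕ, ((N ^ n) (bv 1) ≠ 0 ∧ (N ^ (n + 1)) (bv 1) = 0) := by
        by_contra hne
        push Not at hne
        have : ∀ n, (N ^ n) (bv 1) ≠ 0 := fun n => by
          induction n with
          | zero => exact bv_ne 1
          | succ n ih => exact hne n ih
        exact this p (by rw [hNp]; rfl)
      refine ⟨(N ^ n) (bv 1), hn.1, ?_, ?_⟩
      · cases n with
        | zero => simp [bv_dot]
        | succ n => rw [pow_succ', Module.End.mul_apply]; exact hN0 _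
      · have h' := hn.2
        rw [pow_succ', Module.End.mul_apply] at h'
        nth_rewrite 1 [hN] at h'
        rw [LinearMap.sub_apply, Module.End.one_apply, sub_eq_zero] at h'
        exact h'
    -- the displacement is orthogonal to it
    obtain ⟨z, hz⟩ : ∃ z : U F, z = -(w 2) • bv 1 + w 1 • bv 2 := ⟨_, rfl⟩
    have hz0 : z ≠ 0 := fun h0 => hw0 (by
      rw [perp0 hwp]
      have e1 := congrFun h0 1
      have e2 := congrFun h0 2
      rw [hz] at e1 e2
      simp [bv_apply] at e1 e2
      rw [e1, e2]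
      simp)
    have hline : ∀ x, ∃ l : F, A.1 x - x = l • z := fun x => by
      have e0 : (A.1 x - x) ⬝ᵥ bv 0 = 0 := by
        rw [sub_dotProduct]
        conv_lhs => arg 1; rw [← hA, dot_map h2]
        exact sub_self _
      have e1 : (A.1 x - x) ⬝ᵥ w = 0 := by
        rw [sub_dotProduct]
        conv_lhs => arg 1; rw [← hwA, dot_map h2]
        exact sub_self _
      obtain ⟨y, hy⟩ : ∃ y, y = A.1 x - x := ⟨_, rfl⟩
      rw [← hy] at e0 e1 ⊢
      conv_lhs at e1 => arg 2; rw [perp0 hwp]
      rw [dotProduct_add, dotProduct_smul, dotProduct_smul, dot_bv, dot_bv, smul_eq_mul, smul_eq_mul] at e1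
      by_cases hw1 : w 1 = 0
      · have hw2 : w 2 ≠ 0 := fun h => hw0 (by rw [perp0 hwp, hw1, h]; simp)
        have hy2 : y 2 = 0 := (mul_eq_zero.1 (show w 2 * y 2 = 0 by linear_combination e1 - y 1 * hw1)).resolve_left hw2
        refine ⟨-(y 1) / w 2, ?_⟩
        rw [hz, hw1, zero_smul, add_zero, smul_smul, div_mul_eq_mul_div, neg_mul_neg, mul_div_assoc, div_self hw2,
          mul_one]
        conv_lhs => rw [perp0 e0, hy2, zero_smul, add_zero]
      · refine ⟨y 2 / w 1, ?_⟩
        rw [hz, smul_add, smul_smul, smul_smul, div_mul_cancel₀ _ hw1]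
        conv_lhs => rw [perp0 e0]
        congr 2
        field_simp
        linear_combination e1
    choose l hl using hline
    have hrel : ∀ x, l x * (2 * (x ⬝ᵥ z) + l x * (z ⬝ᵥ z)) = 0 := fun x => by
      have hv := dot_map h2 A x x
      rw [show A.1 x = x + l x • z by rw [← hl x]; abel] at hv
      simp only [add_dotProduct, dotProduct_add, smul_dotProduct, dotProduct_smul, smul_eq_mul,
        dotProduct_comm z x] at hv
      linear_combination hv
    have hfix : ∀ x, l x = 0 → A.1 x = x := fun x hx => sub_eq_zero.1 (by rw [hl x, hx, zero_smul])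
    by_cases hzz : z ⬝ᵥ z = 0
    · -- isotropic line: move off the perpendicular
      have hbig : ∀ x, x ⬝ᵥ z ≠ 0 → A.1 x = x := fun x hx => hfix x (by
        have := hrel x
        rw [hzz, mul_zero, add_zero] at this
        exact (mul_eq_zero.1 this).resolve_right (mul_ne_zero h2 hx))
      obtain ⟨i, hi⟩ := Function.ne_iff.1 hz0
      refine ext_bv fun j => ?_
      show A.1 (bv j) = bv j
      by_cases hj : (bv j : U F) ⬝ᵥ z = 0
      · have h1 := hbig (bv j + bv i) (by rw [add_dotProduct, hj, zero_add, dotProduct_comm, dot_bv]; exact hi)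
        rw [map_add, hbig (bv i) (by rw [dotProduct_comm, dot_bv]; exact hi)] at h1
        exact add_right_cancel h1
      · exact hbig _ hj
    · have hzQ : Qd F z ≠ 0 := hzz
      have hAz : A.1 z = z ∨ A.1 z = -z := by
        rcases mul_eq_zero.1 (hrel z) with h' | h'
        · exact Or.inl (hfix z h')
        · have : l z = -2 := mul_right_cancel₀ hzz (by linear_combination h')
          exact Or.inr (by rw [show A.1 z = z + l z • z by rw [← hl z]; abel, this]; module)
      have hAA : A * A = 1 := qAut_ext fun x => by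
        rw [qAut_mul_apply, show A.1 x = x + l x • z by rw [← hl x]; abel, map_add, map_smul,
          show A.1 x = x + l x • z by rw [← hl x]; abel]
        rcases mul_eq_zero.1 (hrel x) with h' | h'
        · rw [h']; simp
        · rcases hAz with hz' | hz'
          · have h3 := dot_map h2 A x z
            rw [hz', show A.1 x = x + l x • z by rw [← hl x]; abel, add_dotProduct, smul_dotProduct, smul_eq_mul] at h3
            have : l x = 0 := (mul_eq_zero.1 (by linear_combination h3 : l x * (z ⬝ᵥ z) = 0)).resolve_right hzz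
            rw [this]; simp
          · rw [hz']
            show _ = x
            module
      exact eq_one_of_sq_of_pow h2 hAA hp

/-- A subgroup of order prime to `p` normalised by the kernel of both signs is scalar. -/
theorem pprime_scalar (h5 : 5 ≤ Fintype.card F) (X : Subgroup (qAut (Qd F))) (hX : ¬ p ∣ Nat.card X)
    (hnorm : ∀ B : qAut (Qd F), par h2 B = 1 → spin h2 B = 1 → ∀ x ∈ X, B * x * B⁻¹ ∈ X) :
    ∀ x ∈ X, x = 1 ∨ x = negU F := by
  classical
  haveI := finite_qAutU (F := F)
  obtain ⟨v, e, f, S⟩ := exists_frame (F := F) h2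
  have hu : ∀ c, uD v e c ^ p = 1 := fun c => by rw [uD_pow h2 S, CharP.cast_eq_zero, zero_mul, uD_zero h2 S]
  have hXp : ∀ z ∈ X, z ^ p = 1 → z = 1 := fun z hz h => by
    have h1 : orderOf z ∣ p := orderOf_dvd_of_pow_eq_one h
    rcases (Nat.dvd_prime (Fact.out : p.Prime)).1 h1 with h' | h'
    · exact orderOf_eq_one_iff.1 h'
    · exact absurd (h' ▸ Subgroup.orderOf_dvd_natCard X hz) hX
  have hconjX : ∀ c, ∀ x ∈ X, uD v e c * x * (uD v e c)⁻¹ ∈ X := fun c =>
    hnorm _ (par_uD h2 S c) (spin_uD h2 S c)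
  -- elements fixing the line of v
  have hline : ∀ x ∈ X, (∃ s : F, x.1 v = s • v) → x = 1 ∨ x = negU F := by
    rintro x hx ⟨s, hs⟩
    have hs0 : s ≠ 0 := fun h => S.v0 (x.1.injective (by rw [hs, h, zero_smul, map_zero]))
    obtain ⟨a, b, c, hxe⟩ := S.span (x.1 e)
    have hc : c = 0 := by
      have h := dot_map h2 x e v
      rw [hxe, hs, dotProduct_smul, S.dot_v, S.ev, smul_eq_mul] at h
      exact (mul_eq_zero.1 h).resolve_left hs0
    subst hc
    have hb : b * b = 1 := by
      have h := dot_map h2 x e e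
      rw [hxe] at h
      simp only [add_dotProduct, dotProduct_add, smul_dotProduct, dotProduct_smul, S.vv, S.ve, S.vf, S.ev, S.ee, S.ef,
        S.fv, S.fe, S.ff, smul_eq_mul] at h
      linear_combination -h
    -- the unipotents commute with it
    have hcomm : uD v e 1 * x = x * uD v e 1 := by
      obtain ⟨z, hz⟩ : ∃ z, z = uD v e 1 * x * (uD v e 1)⁻¹ * x⁻¹ := ⟨_, rfl⟩
      have hzX : z ∈ X := hz ▸ X.mul_mem (hconjX 1 x hx) (X.inv_mem hx)
      have hxv : (x⁻¹).1 v = s⁻¹ • v := x.1.injective (by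
        rw [qApply_inv_self, map_smul, hs, smul_smul, inv_mul_cancel₀ hs0, one_smul])
      have hzv : z.1 v = v := by
        rw [hz, qAut_mul_apply, hxv, map_smul, qAut_mul_apply, uD_inv h2 S, uD_v h2 S, qAut_mul_apply, hs, map_smul,
          uD_v h2 S, smul_smul, inv_mul_cancel₀ hs0, one_smul]
      obtain ⟨t, ht⟩ : ∃ t : F, z.1 e = e + t • v := by
        have hb0 : b ≠ 0 := fun h => by rw [h, mul_zero] at hb; exact zero_ne_one hb
        have hxe' : x.1 e = a • v + b • e := by rw [hxe, zero_smul, add_zero]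
        have hxi : (x⁻¹).1 e = b⁻¹ • e - (b⁻¹ * a * s⁻¹) • v := x.1.injective (by
          rw [qApply_inv_self, map_sub, map_smul, map_smul, hxe', hs, smul_add, smul_smul, smul_smul, smul_smul,
            inv_mul_cancel₀ hb0, mul_assoc (b⁻¹ * a), inv_mul_cancel₀ hs0, mul_one, one_smul]
          abel)
        refine ⟨-(b⁻¹ * 1 * s) + 1, ?_⟩
        rw [hz, qAut_mul_apply, hxi, qAut_mul_apply, qAut_mul_apply, uD_inv h2 S]
        simp only [map_sub, map_smul, map_add, uD_e h2 S, uD_v h2 S, hs, hxe']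
        match_scalars <;> field_simp
        ring
      have hzu : z = uD v e t := by
        refine ext_fr S (by rw [hzv, uD_v h2 S]) (by rw [ht, uD_e h2 S]) ?_
        obtain ⟨a', b', c', hzf⟩ := S.span (z.1 f)
        have e1 := dot_map h2 z f v
        have e2 := dot_map h2 z f e
        have e3 := dot_map h2 z f f
        rw [hzf, hzv, S.dot_v, S.fv] at e1
        rw [hzf, ht, dotProduct_add, dotProduct_smul, S.dot_v, S.dot_e, S.fe, e1, smul_eq_mul, mul_one] at e2
        rw [hzf] at e3
        simp only [add_dotProduct, dotProduct_add, smul_dotProduct, dotProduct_smul, S.vv, S.ve, S.vf, S.ev, S.ee,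
          S.ef, S.fv, S.fe, S.ff, smul_eq_mul, e1] at e3
        have hb' : b' = t := by linear_combination -e2
        subst hb'
        rw [hzf, uD_f h2 S, e1]
        have ha' : a' = b' * b' / 2 := by
          field_simp
          linear_combination e3
        rw [ha', one_smul]
        abel
      have hz1 := hXp z hzX (by rw [hzu, hu])
      rw [hz, mul_inv_eq_one, mul_inv_eq_iff_eq_mul] at hz1
      exact hz1
    have hsb : b = s := by
      have h := congrArg (fun g : qAut (Qd F) => g.1 e ⬝ᵥ f) hcomm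
      simp only [qAut_mul_apply, uD_e h2 S, map_add, map_smul, hxe, hs, uD_v h2 S, zero_smul, add_zero, one_smul] at h
      simp only [add_dotProduct, smul_dotProduct, S.ef, S.vf, smul_eq_mul] at h
      linear_combination h
    subst hsb
    -- so it is a sign times a unipotent
    have hfin : ∀ y : qAut (Qd F), y ^ 2 ∈ X → ∀ t, y.1 v = v → y.1 e = e + t • v → y = uD v e t := by
      intro y _ t hyv hye
      refine ext_fr S (by rw [hyv, uD_v h2 S]) (by rw [hye, uD_e h2 S]) ?_
      obtain ⟨a', b', c', hzf⟩ := S.span (y.1 f)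
      have e1 := dot_map h2 y f v
      have e2 := dot_map h2 y f e
      have e3 := dot_map h2 y f f
      rw [hzf, hyv, S.dot_v, S.fv] at e1
      rw [hzf, hye, dotProduct_add, dotProduct_smul, S.dot_v, S.dot_e, S.fe, e1, smul_eq_mul, mul_one] at e2
      rw [hzf] at e3
      simp only [add_dotProduct, dotProduct_add, smul_dotProduct, dotProduct_smul, S.vv, S.ve, S.vf, S.ev, S.ee,
        S.ef, S.fv, S.fe, S.ff, smul_eq_mul, e1] at e3
      have hb' : b' = t := by linear_combination -e2
      subst hb'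
      rw [hzf, uD_f h2 S, e1]
      have ha' : a' = b' * b' / 2 := by
        field_simp
        linear_combination e3
      rw [ha', one_smul]
      abel
    have hx2 : x ^ 2 = uD v e (a * b + b * a) := by
      refine hfin _ (X.pow_mem (X.pow_mem hx 2) 2) _ ?_ ?_
      · rw [sq, qAut_mul_apply, hs, map_smul, hs, smul_smul, hb, one_smul]
      · rw [sq, qAut_mul_apply, hxe, zero_smul, add_zero, map_add, map_smul, map_smul, hs, hxe, zero_smul, add_zero]
        match_scalars <;> first | linear_combination hb | linear_combination -hb | ring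
    have ha : a = 0 := by
      have h := hXp _ (X.pow_mem hx 2) (by rw [hx2, hu])
      rw [hx2, ← uD_zero h2 S] at h
      have h' := uD_injective h2 S h
      have hb0 : b ≠ 0 := fun h => by rw [h, mul_zero] at hb; exact zero_ne_one hb
      exact (mul_eq_zero.1 (show (2 * b) * a = 0 by linear_combination h')).resolve_left (mul_ne_zero h2 hb0)
    subst ha
    rw [zero_smul, zero_add, zero_smul, add_zero] at hxe
    rcases mul_self_eq_one_iff.1 hb with h | h
    · subst h
      left
      rw [hfin x (X.pow_mem hx 2) 0 (by rw [hs, one_smul]) (by rw [hxe]; module), uD_zero h2 S]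
    · subst h
      right
      have h' := hfin (negU F * x) (by
          rw [Commute.mul_pow (negU_comm x), sq (negU F), negU_mul_self, one_mul]
          exact X.pow_mem hx 2) 0 (by rw [qAut_mul_apply, hs, negU_apply, neg_one_smul, neg_neg])
        (by rw [qAut_mul_apply, hxe, negU_apply]; module)
      rw [uD_zero h2 S] at h'
      rw [← mul_one (negU F), ← h', ← mul_assoc, negU_mul_self, one_mul]
  -- distinct conjugates of a nonscalar element
  have hprep : ∀ x ∈ X, x ≠ 1 → x ≠ negU F → ∃ c₁ α : F, α ≠ 0 ∧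
      (uD v e c₁ * x * (uD v e c₁)⁻¹).1 v = α • f := by
    intro x hx hx1 hx2
    rcases sing_form h2 S.swap (w := x.1 v) (by rw [dot_map h2, S.vv]) (fun h => S.v0 (x.1.injective (by
      rw [h, map_zero]))) with ⟨a, -, h⟩ | ⟨a, c, ha, h⟩
    · rcases hline x hx ⟨a, h⟩ with h' | h'
      · exact absurd h' hx1
      · exact absurd h' hx2
    · refine ⟨-c, a, ha, ?_⟩
      rw [qAut_mul_apply, qAut_mul_apply, uD_inv h2 S, neg_neg, uD_v h2 S, h, map_smul, ← uD_inv h2 S,
        qInv_apply_self]
  obtain ⟨t, ht1⟩ : ∃ t : F, t ≠ 0 ∧ t * t ≠ 1 := by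
    by_contra hne
    push Not at hne
    have hsub : (Finset.univ : Finset F) ⊆ {0, 1, -1} := fun t _ => by
      by_cases ht : t = 0
      · simp [ht]
      · have := mul_self_eq_one_iff.1 (hne t ht)
        simp [this]
    have := (Finset.card_le_card hsub).trans Finset.card_le_three
    rw [Finset.card_univ] at this
    omega
  have hmain : ∀ x ∈ X, x ≠ 1 → x ≠ negU F → x * x = 1 ∧ ∃ y ∈ X, ∃ α b₀ : F, α ≠ 0 ∧ y.1 v = α • f ∧
      y.1 e = b₀ • e ∧ y.1 f = α⁻¹ • v := by
    intro x hx hx1 hx2
    obtain ⟨c₁, α, hα, hc₁⟩ := hprep x hx hx1 hx2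
    obtain ⟨y, hy⟩ : ∃ y, y = uD v e c₁ * x * (uD v e c₁)⁻¹ := ⟨_, rfl⟩
    rw [← hy] at hc₁
    have hyX : y ∈ X := hy ▸ hconjX c₁ x hx
    -- a torus commutes with it
    obtain ⟨d, hdv, hde, hdf, hdp, hds⟩ := exists_tor_sq h2 S ht1.1
    obtain ⟨μ, hμ⟩ : ∃ μ, μ = t * t := ⟨_, rfl⟩
    rw [← hμ] at hdv hdf
    have hμ0 : μ ≠ 0 := hμ ▸ mul_ne_zero ht1.1 ht1.1
    have hdy : d * y = y * d := by
      have hzX : y⁻¹ * (d * y * d⁻¹) ∈ X := X.mul_mem (X.inv_mem hyX) (hnorm d hdp hds y hyX)
      have hpz : par h2 (y⁻¹ * (d * y * d⁻¹)) = 1 := by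
        simp only [map_mul, map_inv]
        generalize par h2 y = a
        generalize par h2 d = b
        revert a b
        decide
      have hdi : (d⁻¹).1 v = μ⁻¹ • v := d.1.injective (by
        rw [qApply_inv_self, map_smul, hdv, smul_smul, inv_mul_cancel₀ hμ0, one_smul])
      rcases hline _ hzX ⟨μ⁻¹ * μ⁻¹, y.1.injective (by
        rw [qAut_mul_apply, qApply_inv_self, qAut_mul_apply, qAut_mul_apply, hdi, map_smul, map_smul, hc₁, map_smul, hdf,
          map_smul, hc₁]
        module)⟩ with h | h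
      · rw [inv_mul_eq_one] at h
        conv_rhs => rw [h, inv_mul_cancel_right]
      · rw [h, par_negU] at hpz
        exact absurd hpz (by decide)
    have hμμ : μ * μ = 1 := by
      have h := congrArg (fun g : qAut (Qd F) => g.1 v ⬝ᵥ v) hdy
      simp only [qAut_mul_apply, hdv, hc₁, map_smul, hdf, smul_dotProduct, S.fv, smul_eq_mul, mul_one] at h
      have h' : α * (μ * μ - 1) = 0 := by
        field_simp at h
        linear_combination -α * h
      exact sub_eq_zero.1 ((mul_eq_zero.1 h').resolve_left hα)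
    have hμ1 : μ = -1 := (mul_self_eq_one_iff.1 hμμ).resolve_left (hμ ▸ ht1.2)
    -- it is an involution
    obtain ⟨b₀, hye₀, hyf₀, hyy⟩ : ∃ b : F, y.1 e = b • e ∧ y.1 f = α⁻¹ • v ∧ y * y = 1 := by
      obtain ⟨a, b, c, hye⟩ := S.span (y.1 e)
      obtain ⟨a', b', c', hyf⟩ := S.span (y.1 f)
      have h := congrArg (fun g : qAut (Qd F) => g.1 e) hdy
      simp only [qAut_mul_apply, hde, hye, map_add, map_smul, hdv, hdf, hμ1, inv_neg, inv_one] at h
      obtain ⟨ha, -, hc⟩ := S.coord_eq (a := -a) (b := b) (c := -c) (a' := a) (b' := b) (c' := c)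
        (by linear_combination (norm := module) h)
      have h' := congrArg (fun g : qAut (Qd F) => g.1 f) hdy
      simp only [qAut_mul_apply, hdf, hyf, map_add, map_smul, hdv, hde, hμ1, inv_neg, inv_one] at h'
      obtain ⟨-, hb', -⟩ := S.coord_eq (a := -a') (b := b') (c := -c') (a' := -a') (b' := -b') (c' := -c')
        (by linear_combination (norm := module) h')
      have ha0 : a = 0 := (mul_eq_zero.1 (show 2 * a = 0 by linear_combination -ha)).resolve_left h2
      have hc0 : c = 0 := (mul_eq_zero.1 (show 2 * c = 0 by linear_combination -hc)).resolve_left h2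
      have hb0 : b' = 0 := (mul_eq_zero.1 (show 2 * b' = 0 by linear_combination hb')).resolve_left h2
      subst ha0 hc0 hb0
      have e1 := dot_map h2 y e e
      have e2 := dot_map h2 y f v
      have e3 := dot_map h2 y f f
      rw [hye] at e1
      rw [hyf, hc₁] at e2
      rw [hyf] at e3
      simp only [add_dotProduct, dotProduct_add, smul_dotProduct, dotProduct_smul, S.vv, S.ve, S.vf, S.ev, S.ee, S.ef,
        S.fv, S.fe, S.ff, smul_eq_mul] at e1 e2 e3
      have hb2 : b * b = 1 := by linear_combination -e1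
      have haa : α * a' = 1 := by linear_combination e2
      have hc'0 : c' = 0 := by
        refine (mul_eq_zero.1 (show (2 * a') * c' = 0 by linear_combination e3)).resolve_left (mul_ne_zero h2 ?_)
        intro h
        rw [h, mul_zero] at haa
        exact zero_ne_one haa
      subst hc'0
      have hb'' : a' = α⁻¹ := (eq_inv_of_mul_eq_one_right haa)
      refine ⟨b, by rw [hye]; module, by rw [hyf, hb'']; module, ext_fr S ?_ ?_ ?_⟩
      · rw [qAut_mul_apply, hc₁, map_smul, hyf]
        show _ = v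
        match_scalars <;> first | linear_combination haa | linear_combination -haa | ring
      · rw [qAut_mul_apply, hye]
        simp only [map_add, map_smul, hye, hc₁, zero_smul, zero_add, add_zero, smul_smul, hb2, one_smul]
        rfl
      · rw [qAut_mul_apply, hyf]
        simp only [map_add, map_smul, hc₁, zero_smul, zero_add, add_zero, smul_smul, mul_comm a', haa, one_smul]
        rfl

    refine ⟨?_, y, hyX, α, b₀, hα, hc₁, hye₀, hyf₀⟩
    rw [hy] at hyy
    rw [show x * x = (uD v e c₁)⁻¹ * ((uD v e c₁ * x * (uD v e c₁)⁻¹) * (uD v e c₁ * x * (uD v e c₁)⁻¹)) *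
      uD v e c₁ by group, hyy, mul_one, inv_mul_cancel]
  by_contra hne
  push Not at hne
  obtain ⟨x, hx, hx1, hx2⟩ := hne
  obtain ⟨-, y, hyX, α, b₀, hα, hc₁, hye₀, hyf₀⟩ := hmain x hx hx1 hx2
  -- hence all elements commute, which leaves too few unipotents
  have hsqX : ∀ z ∈ X, z * z = 1 := by
    intro z hz
    by_cases hz1 : z = 1
    · rw [hz1, mul_one]
    by_cases hz2 : z = negU F
    · rw [hz2, negU_mul_self]
    exact (hmain z hz hz1 hz2).1
  have hcomm : ∀ a ∈ X, ∀ b ∈ X, a * b = b * a := fun a ha b hb => by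
    have h := hsqX _ (X.mul_mem ha hb)
    rw [mul_eq_one_iff_eq_inv, mul_inv_rev, inv_eq_of_mul_eq_one_right (hsqX a ha),
      inv_eq_of_mul_eq_one_right (hsqX b hb)] at h
    exact h
  have hkey : ∀ c : F, c ≠ 0 → α * (c * c) = 4 * b₀ := fun c hc => by
    obtain ⟨y', hy'⟩ : ∃ y', y' = uD v e c * y * (uD v e c)⁻¹ := ⟨_, rfl⟩
    have h := congrArg (fun g : qAut (Qd F) => g.1 v ⬝ᵥ e)
      (hcomm y hyX y' (hy' ▸ hconjX c y hyX))
    simp only [hy', qAut_mul_apply, uD_inv h2 S, uD_v h2 S, hc₁, map_smul, uD_f h2 S, map_add, hye₀, hyf₀, uD_e h2 S,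
      smul_add, smul_smul, neg_smul, map_neg, add_dotProduct, smul_dotProduct, neg_dotProduct, S.ve, S.ee, S.fe,
      smul_eq_mul, smul_neg, neg_mul, mul_neg, neg_neg] at h
    have h' : c * α * (α * (c * c) - 4 * b₀) = 0 := by
      field_simp at h
      refine mul_left_cancel₀ h2 ?_
      linear_combination h
    exact sub_eq_zero.1 ((mul_eq_zero.1 h').resolve_left (mul_ne_zero hc hα))
  have h1 := hkey 1 one_ne_zero
  have h3 := hkey t ht1.1
  rw [mul_one] at h1
  exact ht1.2 (mul_left_cancel₀ hα (by linear_combination h3 - h1))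

end CfsgLib.Classical22.WrThree
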