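/-
Slices over the standard basis, the exchange of the factors, and elements of the tensor wreath group on a slice.
-/
import Cfsg.Agent.Lib.Classical22.OrthWreathThree.Line
import Cfsg.Agent.Lib.Classical22.OrthWreathThree.Ortho

set_option autoImplicit false
set_option linter.all false

namespace CfsgLib.Classical22.WrThree

open CfsgLib.Classical

universe u

variable {F : Type u} [Field F] {V : Type u} [AddCommGroup V] [Module F V]
variable {Q : QuadraticForm F V} {T : U F →ₗ[F] U F →ₗ[F] V} {k : F} (E : Tens Q T k)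
include E

lemma Tens.decomp0 (x : V) :
    x = T (bv 0) (E.cl (bv 0) x) + T (bv 1) (E.cl (bv 1) x) + T (bv 2) (E.cl (bv 2) x) := by
  obtain ⟨L, hL⟩ : ∃ L : V →ₗ[F] V, ∀ x,
      L x = T (bv 0) (E.cl (bv 0) x) + T (bv 1) (E.cl (bv 1) x) + T (bv 2) (E.cl (bv 2) x) :=
    ⟨(T (bv 0)).comp (E.cl (bv 0)) + (T (bv 1)).comp (E.cl (bv 1)) + (T (bv 2)).comp (E.cl (bv 2)), fun x => rfl⟩
  have h : L = LinearMap.id := E.ext fun a b => by
    rw [hL, E.cl_T, E.cl_T, E.cl_T, dot_bv, dot_bv, dot_bv, LinearMap.id_apply]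
    conv_rhs => rw [U_eq a]
    simp only [map_add, map_smul, LinearMap.add_apply, LinearMap.smul_apply]
  rw [← hL, h, LinearMap.id_apply]

lemma Tens.cl_T0 (i : Fin 3) (b : U F) : E.cl (bv i) (T (bv i) b) = b := by
  rw [E.cl_T, bv_self, one_smul]

/-- Linear maps into the slices are determined componentwise. -/
lemma Tens.slice_inj {i : Fin 3} {a b : U F} (h : T (bv i) a = T (bv i) b) : a = b := by
  rw [← E.cl_T0 i a, h, E.cl_T0 i b]

lemma rho_bv {i j : Fin 3} (hij : j ≠ i) : (rho (Qd_bv (F := F) i)).1 (bv j) = -bv j :=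
  rho_perp _ (by rw [bv_dot, if_neg hij])

/-- The fixed space of a pure involution is a slice. -/
lemma Tens.fix_rho {i : Fin 3} {x : V} (hx : (E.kr (rho (Qd_bv i), 1)).1 x = x) :
    x = T (bv i) (E.cl (bv i) x) := by
  have hz : ∀ j, j ≠ i → E.cl (bv j) x = 0 := by
    intro j hj
    have hL : (E.cl (bv j)).comp (E.kr (rho (Qd_bv i), 1)).1.toLinearMap = -E.cl (bv j) := E.ext fun a b => by
      rw [LinearMap.comp_apply, LinearEquiv.coe_coe, E.kr_T, E.cl_T, LinearMap.neg_apply, E.cl_T, ← neg_smul]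
      congr 1
      have h := dot_map E.two (rho (Qd_bv i)) a (bv j)
      rw [rho_bv E hj, dotProduct_neg] at h
      linear_combination -h
    have h := LinearMap.congr_fun hL x
    rw [LinearMap.comp_apply, LinearEquiv.coe_coe, hx, LinearMap.neg_apply, eq_neg_iff_add_eq_zero, ← two_smul F] at h
    exact (smul_eq_zero.1 h).resolve_left E.two
  conv_lhs => rw [E.decomp0 x]
  fin_cases i <;> simp at hz ⊢
  · rw [hz 1 (by decide), hz 2 (by decide)]; simp
  · rw [hz 0 (by decide), hz 2 (by decide)]; simp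
  · rw [hz 0 (by decide), hz 1 (by decide)]; simp

lemma Tens.rho_T (i : Fin 3) (b : U F) : (E.kr (rho (Qd_bv i), 1)).1 (T (bv i) b) = T (bv i) b := by
  rw [E.kr_T, rho_axis]
  rfl

/-- An element commuting with a pure involution acts on its slice. -/
lemma Tens.slice_map {i : Fin 3} {g : qAut Q}
    (h : g * E.kr (rho (Qd_bv i), 1) = E.kr (rho (Qd_bv i), 1) * g) :
    ∃ A : qAut (Qd F), ∀ b, g.1 (T (bv i) b) = T (bv i) (A.1 b) := by
  obtain ⟨A₀, hA₀⟩ : ∃ A : U F →ₗ[F] U F, A = E.cl (bv i) ∘ₗ g.1.toLinearMap ∘ₗ T (bv i) := ⟨_, rfl⟩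
  have hg : ∀ b, g.1 (T (bv i) b) = T (bv i) (A₀ b) := fun b => by
    rw [hA₀]
    exact E.fix_rho (by rw [← qAut_mul_apply, ← h, qAut_mul_apply, E.rho_T])
  have hdot : ∀ a b, A₀ a ⬝ᵥ A₀ b = a ⬝ᵥ b := fun a b => by
    have h1 := qAut_polar g (T (bv i) a) (T (bv i) b)
    rw [hg, hg, E.polar, E.polar, bv_self, one_mul, one_mul] at h1
    exact mul_left_cancel₀ E.k0 h1
  have hinj : Function.Injective A₀ := (injective_iff_map_eq_zero A₀).2 fun a ha => funext fun j => by
    have := hdot a (bv j)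
    rw [ha, zero_dotProduct, dot_bv] at this
    exact this.symm
  exact ⟨⟨LinearEquiv.ofInjectiveEndo A₀ hinj, fun x => by
    show Qd F (A₀ x) = Qd F x
    rw [Qd_apply, Qd_apply, hdot]⟩, hg⟩

lemma Tens.cl0_fixed {g : qAut Q} (hg : ∀ b, g.1 (T (bv 0) b) = T (bv 0) b) (x : V) :
    E.cl (bv 0) (g.1 x) = E.cl (bv 0) x := funext fun j => by
  have h1 := qAut_polar g x (T (bv 0) (bv j))
  rw [hg, E.polar_cl, E.polar_cl, dot_bv, dot_bv] at h1
  exact mul_left_cancel₀ E.k0 h1

/-- An element that is a sign on the first slice commutes with the pure involution of that slice. -/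
lemma Tens.comm_of_sign {g : qAut Q} {s : F} (hs : s * s = 1) (hg : ∀ b, g.1 (T (bv 0) b) = s • T (bv 0) b) :
    g * E.kr (rho (Qd_bv 0), 1) = E.kr (rho (Qd_bv 0), 1) * g := by
  have ht : ∀ x, (E.kr (rho (Qd_bv 0), 1)).1 x = (2 : F) • T (bv 0) (E.cl (bv 0) x) - x := by
    obtain ⟨L, hL⟩ : ∃ L : V →ₗ[F] V, ∀ x, L x = (2 : F) • T (bv 0) (E.cl (bv 0) x) - x :=
      ⟨(2 : F) • (T (bv 0)).comp (E.cl (bv 0)) - LinearMap.id, fun x => rfl⟩
    intro x
    rw [← hL]
    refine LinearMap.congr_fun (f := (E.kr (rho (Qd_bv 0), 1)).1.toLinearMap) (E.ext fun a b => ?_) x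
    rw [LinearEquiv.coe_coe, E.kr_T, hL, E.cl_T, dot_bv, map_smul, smul_smul]
    show T _ b = _
    conv_lhs => rw [U_eq a]
    simp only [map_add, map_smul, rho_axis, rho_bv E (show (1 : Fin 3) ≠ 0 by decide),
      rho_bv E (show (2 : Fin 3) ≠ 0 by decide)]
    conv_rhs => arg 2; rw [U_eq a]
    simp only [map_add, map_smul, map_neg, LinearMap.add_apply, LinearMap.smul_apply, LinearMap.neg_apply]
    module
  have hcl : ∀ x, E.cl (bv 0) (g.1 x) = s • E.cl (bv 0) x := fun x => funext fun j => by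
    have h1 := qAut_polar g x (T (bv 0) (bv j))
    rw [hg, QuadraticMap.polar_smul_right, E.polar_cl, E.polar_cl, dot_bv, dot_bv, smul_eq_mul] at h1
    show _ = s * E.cl (bv 0) x j
    refine mul_left_cancel₀ E.k0 ?_
    linear_combination s * h1 - k * E.cl (bv 0) (g.1 x) j * hs
  refine qAut_ext fun x => ?_
  rw [qAut_mul_apply, qAut_mul_apply, ht, ht, map_sub, map_smul, hg, hcl, map_smul]

variable [Fintype F]

/-- Elements of the tensor wreath group that are a sign on the first slice. -/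
lemma Tens.slice_form {g : qAut Q} (hg : g ∈ E.tw) {s : F} (hs : s * s = 1)
    (hfix : ∀ b, g.1 (T (bv 0) b) = s • T (bv 0) b) :
    ∃ A : qAut (Qd F), A.1 (bv 0) = s • bv 0 ∧ g = E.kr (A, 1) := by
  have hs0 : s ≠ 0 := fun h => by rw [h, zero_mul] at hs; exact zero_ne_one hs
  obtain ⟨A, B, rfl | rfl⟩ := hg
  · have h : ∀ b i, A.1 (bv 0) i • B.1 b = (s * if (0 : Fin 3) = i then 1 else 0) • b := fun b i => by
      have := congrArg (E.cl (bv i)) (hfix b)
      rw [E.kr_T, map_smul, E.cl_T, E.cl_T, dot_bv, bv_dot, smul_smul] at this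
      exact this
    have hoff : ∀ i : Fin 3, i ≠ 0 → A.1 (bv 0) i = 0 := fun i hi => by
      have := h (bv 0) i
      rw [if_neg (Ne.symm hi), mul_zero, zero_smul, smul_eq_zero, LinearEquiv.map_eq_zero_iff] at this
      exact this.resolve_right (bv_ne 0)
    obtain ⟨l, hl⟩ : ∃ l, l = A.1 (bv 0) 0 := ⟨_, rfl⟩
    have hA : A.1 (bv 0) = l • bv 0 := by
      conv_lhs => rw [U_eq (A.1 (bv 0)), hoff 1 (by decide), hoff 2 (by decide)]
      rw [hl]
      simp
    have hll : l * l = 1 := by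
      have := dot_map E.two A (bv 0) (bv 0)
      rw [hA, smul_dotProduct, dotProduct_smul, bv_self, smul_eq_mul, smul_eq_mul, mul_one] at this
      exact this
    have hB : ∀ b, B.1 b = (l * s) • b := fun b => by
      have := h b 0
      rw [← hl, if_pos rfl, mul_one] at this
      rw [mul_smul, ← this, smul_smul, hll, one_smul]
    rcases mul_self_eq_one_iff.1 (show (l * s) * (l * s) = 1 by linear_combination s * s * hll + hs) with h1 | h1
    · have hls : l = s := by linear_combination s * h1 - l * hs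
      have hB1 : B = 1 := qAut_ext fun b => by rw [hB, h1, one_smul]; rfl
      exact ⟨A, by rw [hA, hls], by rw [hB1]⟩
    · have hls : l = -s := by linear_combination s * h1 - l * hs
      have hB1 : B = negU F * 1 := qAut_ext fun b => by rw [hB, h1, neg_one_smul, mul_one, negU_apply]
      refine ⟨negU F * A, by rw [qAut_mul_apply, hA, hls, negU_apply, neg_smul, neg_neg], ?_⟩
      conv_lhs => rw [← E.kr_negU A B]
      rw [hB1, ← mul_assoc, negU_mul_self, one_mul]
  · exfalso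
    have h : ∀ b, B.1 b 0 • A.1 (bv 0) = s • b := fun b => by
      have := congrArg (E.cl (bv 0)) (hfix b)
      rw [qAut_mul_apply, E.kr_T, E.swp_T, map_smul, E.cl_T, E.cl_T0, dot_bv] at this
      exact this
    have h1 := congrArg (fun z : U F => z ⬝ᵥ bv 1) (h (bv 2))
    have h2 := congrArg (fun z : U F => z ⬝ᵥ bv 2) (h (bv 2))
    have h3 := congrArg (fun z : U F => z ⬝ᵥ bv 1) (h (bv 1))
    simp only [smul_dotProduct, bv_dot, smul_eq_mul] at h1 h2 h3
    simp at h1 h2 h3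
    rcases h1 with h1 | h1
    · rw [h1, zero_mul] at h2; exact hs0 h2.symm
    · rw [h1, mul_zero] at h3; exact hs0 h3.symm

variable [FiniteDimensional F V] {M : Subgroup (qAut Q)} (H : Hyp E M)
include H

/-- An element exchanging the factors inside the intermediate group. -/
lemma exists_sigma : ∃ (σ : qAut Q) (r : qAut (Qd F)), σ ∈ M ∧ σ ∈ E.tw ∧ r * r = 1 ∧
    ∀ A B, σ * E.kr (A, B) * σ⁻¹ = E.kr (B, r * A * r) := by
  obtain ⟨c, hc, hσ⟩ := E.exists_swap
  have ht : E.swp * E.kr (qRefl (Qd F) hc, 1) ∈ E.tw := E.tw.mul_mem E.swp_tw (E.kr_tw _ _)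
  refine ⟨_, qRefl (Qd F) hc, H.le ⟨ht, hσ⟩, ht, qRefl_mul_self _ _, fun A B => ?_⟩
  rw [mul_inv_rev, ← map_inv, show (E.swp)⁻¹ = E.swp from inv_eq_of_mul_eq_one_right E.swp_mul_self]
  calc E.swp * E.kr (qRefl (Qd F) hc, 1) * E.kr (A, B) * (E.kr ((qRefl (Qd F) hc, 1))⁻¹ * E.swp)
      = E.swp * E.kr ((qRefl (Qd F) hc, 1) * (A, B) * (qRefl (Qd F) hc, 1)⁻¹) * E.swp := by
        rw [map_mul, map_mul]; group
    _ = E.kr (B, qRefl (Qd F) hc * A * qRefl (Qd F) hc) := by
        rw [E.swp_kr, mul_assoc, E.swp_mul_self, mul_one]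
        congr 1

/-- The centraliser of a pure root element of the second factor. -/
theorem cent_uR {v e f : U F} (S : Fr v e f) {g : qAut Q} (hg : g ∈ M) {c : F} (hc : c ≠ 0)
    (hcomm : g * E.kr (1, uD v e c) = E.kr (1, uD v e c) * g) : g ∈ E.tw := by
  obtain ⟨σ, r, hσM, hσt, hr, hσ⟩ := exists_sigma E H
  have S' : Fr (r.1 v) (r.1 e) (r.1 f) :=
    ⟨by rw [dot_map E.two, S.vv], by rw [dot_map E.two, S.ff], by rw [dot_map E.two, S.vf],
      by rw [dot_map E.two, S.ve], by rw [dot_map E.two, S.fe], by rw [dot_map E.two, S.ee], fun x => by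
        obtain ⟨a, b, d, h⟩ := S.span (r.1 x)
        refine ⟨a, b, d, ?_⟩
        have h' := congrArg r.1 h
        rw [map_add, map_add, map_smul, map_smul, map_smul, ← qAut_mul_apply, hr] at h'
        exact h'⟩
  have hu : σ * E.kr (uD (r.1 v) (r.1 e) c, 1) * σ⁻¹ = E.kr (1, uD v e c) := by
    rw [hσ]
    congr 2
    refine ext_fr S ?_ ?_ ?_ <;> rw [qAut_mul_apply, qAut_mul_apply]
    · rw [uD_v E.two S', uD_v E.two S, ← qAut_mul_apply, hr]; rfl
    · rw [uD_e E.two S', uD_e E.two S, map_add, map_smul, ← qAut_mul_apply, hr, ← qAut_mul_apply, hr]; rfl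
    · rw [uD_f E.two S', uD_f E.two S, map_add, map_add, map_smul, map_smul, ← qAut_mul_apply, hr, ← qAut_mul_apply, hr,
        ← qAut_mul_apply, hr]; rfl
  obtain ⟨g', hg'⟩ : ∃ g', g' = σ⁻¹ * g * σ := ⟨_, rfl⟩
  have h := cent_u E S' H (g := g') (hg' ▸ M.mul_mem (M.mul_mem (M.inv_mem hσM) hg) hσM) hc (by
    rw [← hu] at hcomm
    rw [hg']
    have h2 := congrArg (fun z => σ⁻¹ * z * σ) hcomm
    simp only [mul_assoc, inv_mul_cancel, mul_one, inv_mul_cancel_left] at h2 ⊢
    exact h2)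
  rw [show g = σ * g' * σ⁻¹ by rw [hg']; group]
  exact E.tw.mul_mem (E.tw.mul_mem hσt h) (E.tw.inv_mem hσt)

end CfsgLib.Classical22.WrThree
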