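/-
The centraliser of a pure involution in an intermediate group lies in the tensor wreath group.
-/
import Cfsg.Agent.Lib.Classical22.OrthWreathThree.Slice
import Cfsg.Agent.Lib.Classical22.OrthWreathThree.Group
import Cfsg.Agent.Lib.Classical22.OrthFieldThree.Weights
import Cfsg.Agent.Lib.LocalEven.CoprimeGen
import Mathlib.FieldTheory.Finite.Basic

set_option autoImplicit false
set_option linter.all false
set_option maxHeartbeats 1000000

namespace CfsgLib.Classical22.WrThree

open CfsgLib.Classical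
open scoped commutatorElement

universe u

variable {F : Type u} [Field F] [Fintype F]

omit [Fintype F] in
lemma rho_smul (h2 : (2 : F) ≠ 0) {c : U F} (hc : Qd F c ≠ 0) {s : F} (hsc : Qd F (s • c) ≠ 0) :
    rho hsc = rho hc := by
  have hs : s ≠ 0 := fun h => hsc (by rw [h, zero_smul, map_zero])
  refine qAut_ext fun x => ?_
  rw [rho, rho, qAut_mul_apply, qAut_mul_apply, qRefl_dot h2, qRefl_dot h2]
  have : c ⬝ᵥ c ≠ 0 := hc
  congr 1
  simp only [dotProduct_smul, smul_dotProduct, smul_eq_mul, smul_smul]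
  congr 2
  field_simp

/-- Every value is taken on the perpendicular of the first basis vector. -/
lemma exists_value (h2 : (2 : F) ≠ 0) (ν : F) : ∃ c : U F, c ⬝ᵥ bv 0 = 0 ∧ c ⬝ᵥ c = ν := by
  classical
  have hchar : Fintype.card F % 2 = 1 := FiniteField.odd_card_of_char_ne_two fun h => h2 (by
    obtain ⟨p, hp⟩ := CharP.exists F
    rw [ringChar.eq F p] at h
    subst h
    exact CharTwo.two_eq_zero)
  obtain ⟨a, b, hab⟩ := FiniteField.exists_root_sum_quadratic (R := F) (f := Polynomial.X ^ 2)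
    (g := Polynomial.X ^ 2 - Polynomial.C ν) (Polynomial.degree_X_pow 2)
    (Polynomial.degree_X_pow_sub_C (by norm_num) ν) hchar
  simp only [Polynomial.eval_pow, Polynomial.eval_X, Polynomial.eval_sub, Polynomial.eval_C] at hab
  refine ⟨a • bv 1 + b • bv 2, ?_, ?_⟩
  · simp [add_dotProduct, smul_dotProduct, bv_dot]
  · simp [add_dotProduct, dotProduct_add, smul_dotProduct, dotProduct_smul, bv_dot]
    linear_combination hab

/-- An element fixing the first basis vector with given signs. -/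
lemma exists_signs (h2 : (2 : F) ≠ 0) (B : qAut (Qd F)) :
    ∃ A : qAut (Qd F), A.1 (bv 0) = bv 0 ∧ par h2 A = par h2 B ∧ spin h2 A = spin h2 B := by
  classical
  obtain ⟨ν, hν⟩ : ∃ ν : F, ¬ IsSquare ν := FiniteField.exists_nonsquare fun h => h2 (by
    obtain ⟨p, hp⟩ := CharP.exists F
    rw [ringChar.eq F p] at h
    subst h
    exact CharTwo.two_eq_zero)
  obtain ⟨c, hc0, hcν⟩ := exists_value h2 ν
  have hν0 : ν ≠ 0 := fun h => hν (h ▸ ⟨0, (mul_zero 0).symm⟩)
  have hc : Qd F c ≠ 0 := by rw [Qd_apply, hcν]; exact hν0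
  have h10 : (bv 1 : U F) ⬝ᵥ bv 0 = 0 := by rw [bv_dot, if_neg (by decide)]
  have hs : spin h2 (qRefl (Qd F) hc) = -1 := by
    rw [spin_refl, hcν]
    rcases Int.units_eq_one_or (Spin.sqSign ν) with h | h
    · exact absurd (Spin.sqSign_eq_one.1 h) hν
    · exact h
  have f1 : (qRefl (Qd F) (Qd_bv (F := F) 1)).1 (bv 0) = bv 0 :=
    qRefl_perp h2 _ (by rw [dotProduct_comm, h10])
  have fc : (qRefl (Qd F) hc).1 (bv 0) = bv 0 := qRefl_perp h2 _ (by rw [dotProduct_comm, hc0])
  have f1c : (qRefl (Qd F) (Qd_bv (F := F) 1) * qRefl (Qd F) hc).1 (bv 0) = bv 0 := by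
    rw [qAut_mul_apply, fc, f1]
  have hp : ∀ z : Multiplicative (ZMod 2), z = 1 ∨ z = Multiplicative.ofAdd 1 := by decide
  rcases hp (par h2 B) with h | h <;> rcases Int.units_eq_one_or (spin h2 B) with h' | h'
  · exact ⟨1, rfl, by rw [h, map_one], by rw [h', map_one]⟩
  · exact ⟨_, f1c, by rw [h, map_mul, par_refl, par_refl]; rfl,
      by rw [h', map_mul, spin_refl, bv_self, Spin.sqSign_one, hs, one_mul]⟩
  · exact ⟨_, f1, by rw [h, par_refl], by rw [h', spin_refl, bv_self, Spin.sqSign_one]⟩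
  · exact ⟨_, fc, by rw [h, par_refl], by rw [h', hs]⟩

variable {V : Type u} [AddCommGroup V] [Module F V] [FiniteDimensional F V]
variable {Q : QuadraticForm F V} {T : U F →ₗ[F] U F →ₗ[F] V} {k : F} (E : Tens Q T k)

/-- Elements of the intermediate group that are a sign on the first slice. -/
def signGroup (T : U F →ₗ[F] U F →ₗ[F] V) (M : Subgroup (qAut Q)) : Subgroup (qAut Q) where
  carrier := {g | g ∈ M ∧ ∃ s : F, s * s = 1 ∧ ∀ b, g.1 (T (bv 0) b) = s • T (bv 0) b}
  mul_mem' := by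
    rintro g h ⟨hg, s, hs, h1⟩ ⟨hh, t, ht, h3⟩
    exact ⟨M.mul_mem hg hh, t * s, by linear_combination t * t * hs + ht, fun b => by
      rw [qAut_mul_apply, h3, map_smul, h1, smul_smul]⟩
  one_mem' := ⟨M.one_mem, 1, one_mul 1, fun b => (one_smul F _).symm⟩
  inv_mem' := by
    rintro g ⟨hg, s, hs, h1⟩
    exact ⟨M.inv_mem hg, s, hs, fun b => g.1.injective (by
      rw [qApply_inv_self, map_smul, h1, smul_smul, hs, one_smul])⟩

/-- Elements of the intermediate group fixing the first slice. -/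
def sliceFix (T : U F →ₗ[F] U F →ₗ[F] V) (M : Subgroup (qAut Q)) : Subgroup (qAut Q) where
  carrier := {g | g ∈ M ∧ ∀ b, g.1 (T (bv 0) b) = T (bv 0) b}
  mul_mem' := by
    rintro g h ⟨hg, h1⟩ ⟨hh, h3⟩
    exact ⟨M.mul_mem hg hh, fun b => by rw [qAut_mul_apply, h3, h1]⟩
  one_mem' := ⟨M.one_mem, fun b => rfl⟩
  inv_mem' := by
    rintro g ⟨hg, h1⟩
    exact ⟨M.inv_mem hg, fun b => g.1.injective (by rw [qApply_inv_self, h1])⟩

variable {M : Subgroup (qAut Q)} (H : Hyp E M)
include E H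

omit [FiniteDimensional F V] E H in
lemma sliceFix_le : sliceFix T M ≤ signGroup T M := fun g hg => ⟨hg.1, 1, one_mul 1, fun b => by rw [hg.2, one_smul]⟩

omit H in
/-- The kernel of a right factor acting on the slices. -/
lemma norm_right (A B : qAut (Qd F)) (hA : A.1 (bv 0) = bv 0) (b : U F) :
    (E.kr (A, B)).1 (T (bv 0) b) = T (bv 0) (B.1 b) := by rw [E.kr_T, hA]

/-- Conjugation by a tensor element fixing the slice. -/
lemma kr_norm {A B : qAut (Qd F)} (hp : par E.two A = par E.two B) (hs : spin E.two A = spin E.two B)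
    (hA : A.1 (bv 0) = bv 0) :
    E.kr (A, B) ∈ Subgroup.normalizer (sliceFix T M : Set (qAut Q)) := by
  have hM := krM E H hp hs
  have key : ∀ (A B : qAut (Qd F)), A.1 (bv 0) = bv 0 → E.kr (A, B) ∈ M → ∀ g ∈ sliceFix T M,
      E.kr (A, B) * g * (E.kr (A, B))⁻¹ ∈ sliceFix T M := by
    intro A B hA hM g hg
    refine ⟨M.mul_mem (M.mul_mem hM hg.1) (M.inv_mem hM), fun b => ?_⟩
    have e : (E.kr (A, B))⁻¹.1 (T (bv 0) b) = T (bv 0) ((B⁻¹).1 b) := by
      rw [← map_inv, Prod.inv_mk, E.kr_T]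
      congr 1
      conv_lhs => rw [← hA, qInv_apply_self]
    rw [qAut_mul_apply, qAut_mul_apply, e, hg.2, norm_right E A B hA, qApply_inv_self]
  refine Subgroup.mem_normalizer_iff.2 fun g => ⟨key A B hA hM g, fun hg => ?_⟩
  have h := key A⁻¹ B⁻¹ (by conv_lhs => rw [← hA, qInv_apply_self]) (by
    rw [show (A⁻¹, B⁻¹) = (A, B)⁻¹ from rfl, map_inv]; exact M.inv_mem hM) _ hg
  rw [show E.kr (A⁻¹, B⁻¹) = (E.kr (A, B))⁻¹ by rw [← map_inv]; rfl] at h
  simpa [mul_assoc] using h

/-- The root elements of the second factor act. -/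
lemma uR_norm {v e f : U F} (S : Fr v e f) (c : F) :
    E.kr (1, uD v e c) ∈ Subgroup.normalizer (sliceFix T M : Set (qAut Q)) ∧
      E.kr (1, uD v e c) ∈ Subgroup.normalizer (signGroup T M : Set (qAut Q)) ∧ E.kr (1, uD v e c) ∈ M := by
  have hp : par E.two (1 : qAut (Qd F)) = par E.two (uD v e c) := by rw [par_uD E.two S, map_one]
  have hs : spin E.two (1 : qAut (Qd F)) = spin E.two (uD v e c) := by rw [spin_uD E.two S, map_one]
  have hM := krM E H hp hs
  refine ⟨kr_norm E H hp hs rfl, ?_, hM⟩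
  have key : ∀ (B : qAut (Qd F)), E.kr (1, B) ∈ M → ∀ g ∈ signGroup T M,
      E.kr (1, B) * g * (E.kr (1, B))⁻¹ ∈ signGroup T M := by
    rintro B hM g ⟨hg, s, hs, h1⟩
    refine ⟨M.mul_mem (M.mul_mem hM hg) (M.inv_mem hM), s, hs, fun b => ?_⟩
    have e : (E.kr (1, B))⁻¹.1 (T (bv 0) b) = T (bv 0) ((B⁻¹).1 b) := by
      rw [← map_inv, Prod.inv_mk, E.kr_T, inv_one]; rfl
    rw [qAut_mul_apply, qAut_mul_apply, e, h1, map_smul, norm_right E 1 B rfl, qApply_inv_self]
  refine Subgroup.mem_normalizer_iff.2 fun g => ⟨key _ hM g, fun hg => ?_⟩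
  have h := key (uD v e c)⁻¹ (by
    rw [show ((1 : qAut (Qd F)), (uD v e c)⁻¹) = (1, uD v e c)⁻¹ by rw [Prod.inv_mk, inv_one], map_inv]
    exact M.inv_mem hM) _ hg
  rw [show E.kr (1, (uD v e c)⁻¹) = (E.kr (1, uD v e c))⁻¹ by rw [← map_inv, Prod.inv_mk, inv_one]] at h
  simpa [mul_assoc] using h

omit H in
lemma uR_pow {v e f : U F} (S : Fr v e f) (c : F) (p : ℕ) [CharP F p] : E.kr (1, uD v e c) ^ p = 1 := by
  rw [← map_pow, Prod.pow_mk, one_pow, uD_pow E.two S, CharP.cast_eq_zero, zero_mul, uD_zero E.two S]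
  exact map_one E.kr

variable {p : ℕ} [Fact p.Prime] [CharP F p]

/-- The sign group has order prime to the characteristic. -/
lemma signGroup_coprime : ¬ p ∣ Nat.card (signGroup T M) := by
  intro hd
  haveI : Finite V := Module.finite_of_finite F
  haveI : Finite (V ≃ₗ[F] V) := Finite.of_injective _ DFunLike.coe_injective
  obtain ⟨v, e, f, S⟩ := exists_frame (F := F) E.two
  obtain ⟨-, hn, -⟩ := uR_norm E H S 1
  obtain ⟨x, ⟨hxM, s, hs, hxs⟩, hx1, hxp, hxu⟩ := exists_fixed_order hd (uR_pow E S 1 p) hn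
  have hxt := cent_uR E H S hxM one_ne_zero hxu.symm
  obtain ⟨A, hA0, rfl⟩ := E.slice_form hxt hs hxs
  have hAp : A ^ p = 1 := by
    rw [← map_pow, Prod.pow_mk, one_pow] at hxp
    rcases E.kr_eq_one hxp with ⟨h, -⟩ | ⟨-, h⟩
    · exact h
    · exact absurd (congrArg (par E.two) h) (by rw [map_one, par_negU]; decide)
  have hs1 : s = 1 := by
    have hpow : ∀ n : ℕ, (A ^ n).1 (bv 0) = s ^ n • bv 0 := fun n => by
      induction n with
      | zero => rw [pow_zero, pow_zero, one_smul]; rfl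
      | succ n ih => rw [pow_succ, qAut_mul_apply, hA0, map_smul, ih, smul_smul, pow_succ']
    have h := congrArg (fun z : U F => z ⬝ᵥ bv 0) (hpow p)
    rw [hAp] at h
    simp only [show (1 : qAut (Qd F)).1 (bv 0) = bv 0 from rfl, smul_dotProduct, bv_self, smul_eq_mul, mul_one] at h
    obtain ⟨i, hi⟩ := p_odd (F := F) E.two (p := p)
    rwa [hi, pow_succ, pow_mul, sq, hs, one_pow, one_mul, eq_comm] at h
  have hA1 : A = 1 := fix0_pow E.two (by rw [hA0, hs1, one_smul]) hAp
  exact hx1 (by rw [hA1]; exact map_one E.kr)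

lemma sliceFix_coprime : ¬ p ∣ Nat.card (sliceFix T M) := fun h => signGroup_coprime E H (p := p) (by
  haveI : Finite V := Module.finite_of_finite F
  haveI : Finite (V ≃ₗ[F] V) := Finite.of_injective _ DFunLike.coe_injective
  exact h.trans (Subgroup.card_dvd_of_le (sliceFix_le)))

omit [Fact p.Prime] [CharP F p] in
/-- The elements fixing the first slice and commuting with a second pure involution. -/
theorem sliceFix_cent {g : qAut Q} (hg : g ∈ sliceFix T M)
    (hcomm : g * E.kr (rho (Qd_bv 1), 1) = E.kr (rho (Qd_bv 1), 1) * g) :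
    g = 1 ∨ g = E.kr (rho (Qd_bv 0), 1) := by
  obtain ⟨p, hp⟩ := CharP.exists F
  haveI : Fact p.Prime := ⟨CharP.char_is_prime F p⟩
  haveI : Finite V := Module.finite_of_finite F
  haveI : Finite (V ≃ₗ[F] V) := Finite.of_injective _ DFunLike.coe_injective
  haveI := finite_qAutU (F := F)
  obtain ⟨G, hG⟩ : ∃ G : Subgroup (qAut Q), G = sliceFix T M ⊓ Subgroup.centralizer {E.kr (rho (Qd_bv 1), 1)} :=
    ⟨_, rfl⟩
  have hGy : ∀ x : G, x.1 * E.kr (rho (Qd_bv 1), 1) = E.kr (rho (Qd_bv 1), 1) * x.1 := fun x =>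
    (Subgroup.mem_centralizer_iff.1 ((SetLike.ext_iff.1 hG _).1 x.2).2 _ rfl).symm
  have hG0 : ∀ x : G, x.1 ∈ sliceFix T M := fun x => ((SetLike.ext_iff.1 hG _).1 x.2).1
  have hprod : E.kr (rho (Qd_bv (F := F) 2), 1) = E.kr (rho (Qd_bv 0), 1) * E.kr (rho (Qd_bv 1), 1) := by
    rw [← map_mul, Prod.mk_mul_mk, mul_one]
    congr 2
    refine ext_bv fun i => ?_
    fin_cases i <;> simp only [qAut_mul_apply] <;>
      simp (config := { decide := true }) [rho_axis, rho_bv E, map_neg]
  have hGi : ∀ i : Fin 3, i ≠ 0 → ∀ x : G, x.1 * E.kr (rho (Qd_bv i), 1) = E.kr (rho (Qd_bv i), 1) * x.1 := by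
    intro i hi x
    fin_cases i
    · exact absurd rfl hi
    · exact hGy x
    · show x.1 * E.kr (rho (Qd_bv 2), 1) = E.kr (rho (Qd_bv 2), 1) * x.1
      rw [hprod, ← mul_assoc, E.comm_of_sign (one_mul (1 : F)) (fun b => by rw [(hG0 x).2, one_smul]), mul_assoc,
        hGy x, mul_assoc]
  have key : ∀ i : Fin 3, i ≠ 0 → ∀ x : G, ∃ s : F, s * s = 1 ∧ ∀ b, x.1.1 (T (bv i) b) = s • T (bv i) b := by
    intro i hi
    have hex := fun x : G => E.slice_map (hGi i hi x)
    choose φ hφ using hex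
    let φ' : G →* qAut (Qd F) := MonoidHom.mk' φ fun x y => qAut_ext fun b => E.slice_inj (i := i) (by
      rw [← hφ, qAut_mul_apply, ← hφ, ← hφ, Subgroup.coe_mul, qAut_mul_apply])
    have hX : ¬ p ∣ Nat.card φ'.range := fun h => sliceFix_coprime E H (p := p) ((h.trans
      (Subgroup.card_range_dvd φ')).trans (Subgroup.card_dvd_of_le (hG ▸ inf_le_left)))
    intro x
    rcases pprime_scalar E.two H.five φ'.range hX (fun B hp hs a ha => by
      obtain ⟨z, rfl⟩ := ha
      have hp' : par E.two (1 : qAut (Qd F)) = par E.two B := by rw [hp, map_one]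
      have hs' : spin E.two (1 : qAut (Qd F)) = spin E.two B := by rw [hs, map_one]
      have hn := kr_norm E H hp' hs' rfl
      have hc : Commute (E.kr (1, B)) (E.kr (rho (Qd_bv (F := F) 1), 1)) := by
        show _ * _ = _ * _
        rw [← map_mul, ← map_mul, Prod.mk_mul_mk, Prod.mk_mul_mk, one_mul, mul_one, mul_one, one_mul]
      refine ⟨⟨E.kr (1, B) * z.1 * (E.kr (1, B))⁻¹, (SetLike.ext_iff.1 hG _).2
        ⟨(Subgroup.mem_normalizer_iff.1 hn _).1 (hG0 z), Subgroup.mem_centralizer_iff.2 ?_⟩⟩, ?_⟩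
      · intro w hw
        rw [Set.mem_singleton_iff] at hw
        subst hw
        exact ((hc.mul_left (hGy z)).mul_left hc.inv_left).eq.symm
      · refine qAut_ext fun b => E.slice_inj (i := i) ?_
        show T (bv i) ((φ _).1 b) = _
        rw [← hφ, qAut_mul_apply, qAut_mul_apply, ← map_inv, Prod.inv_mk, inv_one, E.kr_T,
          show (1 : qAut (Qd F)).1 (bv i) = bv i from rfl, hφ, E.kr_T, qAut_mul_apply, qAut_mul_apply]
        rfl) _ ⟨x, rfl⟩ with h | h
    · refine ⟨1, one_mul 1, fun b => ?_⟩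
      rw [hφ, show φ x = 1 from h, one_smul]
      rfl
    · refine ⟨-1, by norm_num, fun b => ?_⟩
      rw [hφ, show φ x = negU F from h, negU_apply, map_neg, neg_one_smul]
  obtain ⟨s1, hs1, h1⟩ := key 1 (by decide) ⟨g, (SetLike.ext_iff.1 hG _).2 ⟨hg, Subgroup.mem_centralizer_iff.2
    fun w hw => by rw [Set.mem_singleton_iff] at hw; subst hw; exact hcomm.symm⟩⟩
  obtain ⟨s2, hs2, h3⟩ := key 2 (by decide) ⟨g, (SetLike.ext_iff.1 hG _).2 ⟨hg, Subgroup.mem_centralizer_iff.2
    fun w hw => by rw [Set.mem_singleton_iff] at hw; subst hw; exact hcomm.symm⟩⟩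
  have hform : ∀ D : qAut (Qd F), D.1 (bv 0) = bv 0 → D.1 (bv 1) = s1 • bv 1 → D.1 (bv 2) = s2 • bv 2 →
      g = E.kr (D, 1) := by
    intro D d0 d1 d2
    refine E.ext_aut fun a b => ?_
    rw [E.kr_T, U_eq a]
    simp only [map_add, map_smul, LinearMap.add_apply, LinearMap.smul_apply, d0, d1, d2, hg.2]
    rw [show g.1 (T (bv 1) b) = s1 • T (bv 1) b from h1 b, show g.1 (T (bv 2) b) = s2 • T (bv 2) b from h3 b]
    rfl
  have hΩ := H.sub hg.1
  have e1 : (qRefl (Qd F) (Qd_bv (F := F) 1)).1 (bv 0) = bv 0 :=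
    qRefl_perp E.two _ (by rw [bv_dot, if_neg (by decide)])
  have e2 : (qRefl (Qd F) (Qd_bv (F := F) 2)).1 (bv 0) = bv 0 :=
    qRefl_perp E.two _ (by rw [bv_dot, if_neg (by decide)])
  rcases mul_self_eq_one_iff.1 hs1 with rfl | rfl <;> rcases mul_self_eq_one_iff.1 hs2 with rfl | rfl
  · exact Or.inl ((hform 1 rfl (one_smul _ _).symm (one_smul _ _).symm).trans (map_one E.kr))
  · have h := hform _ e2 (by rw [one_smul]; exact qRefl_perp E.two _ (by rw [bv_dot, if_neg (by decide)]))
      (by rw [neg_one_smul]; exact qRefl_self _ _)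
    rw [h, E.kr_mem_iff, par_refl, map_one (par E.two)] at hΩ
    exact absurd hΩ.1 (by decide)
  · have h := hform _ e1 (by rw [neg_one_smul]; exact qRefl_self _ _)
      (by rw [one_smul]; exact qRefl_perp E.two _ (by rw [bv_dot, if_neg (by decide)]))
    rw [h, E.kr_mem_iff, par_refl, map_one (par E.two)] at hΩ
    exact absurd hΩ.1 (by decide)
  · exact Or.inr (hform _ (rho_axis _) (by rw [neg_one_smul]; exact rho_bv E (by decide))
      (by rw [neg_one_smul]; exact rho_bv E (by decide)))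

omit [Fact p.Prime] [CharP F p] in
/-- The elements fixing the first slice lie in the tensor wreath group. -/
theorem sliceFix_tw : sliceFix T M ≤ E.tw := by
  classical
  obtain ⟨p, hp⟩ := CharP.exists F
  haveI : Fact p.Prime := ⟨CharP.char_is_prime F p⟩
  haveI : Finite V := Module.finite_of_finite F
  haveI : Finite (V ≃ₗ[F] V) := Finite.of_injective _ DFunLike.coe_injective
  obtain ⟨v, e, f, S⟩ := exists_frame (F := F) E.two
  by_cases hq : Fintype.card F = p
  swap
  · -- many root elements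
    obtain ⟨Uc, hUc⟩ : ∃ Uc : Subgroup (qAut Q), ∀ g, g ∈ Uc ↔ ∃ c, g = E.kr (1, uD v e c) := by
      refine ⟨{ carrier := {g | ∃ c, g = E.kr (1, uD v e c)}, mul_mem' := ?_, one_mem' := ?_, inv_mem' := ?_ },
        fun g => Iff.rfl⟩
      · rintro _ _ ⟨c, rfl⟩ ⟨d, rfl⟩
        exact ⟨c + d, by rw [← map_mul, Prod.mk_mul_mk, one_mul, uD_mul E.two S]⟩
      · exact ⟨0, by rw [uD_zero E.two S]; exact (map_one E.kr).symm⟩
      · rintro _ ⟨c, rfl⟩
        exact ⟨-c, by rw [← map_inv, Prod.inv_mk, inv_one, uD_inv E.two S]⟩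
    refine CfsgLib.LocalEven.CopGen.le_of_fixed (p := p) (U := Uc) ⟨⟨⟨fun a b => Subtype.ext ?_⟩⟩, ?_⟩ ?_ ?_
      (sliceFix_coprime E H) ?_
    · obtain ⟨c, hc⟩ := (hUc _).1 a.2
      obtain ⟨d, hd⟩ := (hUc _).1 b.2
      show a.1 * b.1 = b.1 * a.1
      rw [hc, hd, ← map_mul, ← map_mul, Prod.mk_mul_mk, Prod.mk_mul_mk, uD_mul E.two S, uD_mul E.two S, add_comm]
    · intro a ha
      obtain ⟨c, rfl⟩ := (hUc _).1 ha
      exact uR_pow E S c p
    · intro hcyc
      obtain ⟨g, hg⟩ := hcyc.exists_generator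
      have hgp : g ^ p = 1 := Subtype.ext (by
        obtain ⟨c, hc⟩ := (hUc _).1 g.2
        rw [SubmonoidClass.coe_pow, hc, uR_pow E S c p]; rfl)
      have hle : Nat.card Uc ≤ p := by
        rw [← orderOf_eq_card_of_forall_mem_zpowers hg]
        exact Nat.le_of_dvd (Fact.out : p.Prime).pos (orderOf_dvd_of_pow_eq_one hgp)
      have hge : Fintype.card F ≤ Nat.card Uc := by
        rw [← Nat.card_eq_fintype_card]
        refine Nat.card_le_card_of_injective (fun c => (⟨_, (hUc _).2 ⟨c, rfl⟩⟩ : Uc)) fun c d h => ?_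
        exact uD_injective E.two S (E.kr_inj (A := 1) (A' := 1) (map_one _) (map_one _) (Subtype.ext_iff.1 h : _)).2
      obtain ⟨n, -, hn⟩ := FiniteField.card F p
      have : p * p ≤ Fintype.card F := by
        rw [hn] at hq ⊢
        calc p * p = p ^ 2 := (sq p).symm
          _ ≤ p ^ (n : ℕ) := Nat.pow_le_pow_right (Fact.out : p.Prime).pos (by
            by_contra hlt
            have : (n : ℕ) = 1 := by have := n.pos; omega
            exact hq (by rw [this, pow_one]))
      have := (Fact.out : p.Prime).two_le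
      nlinarith
    · intro g hg
      obtain ⟨c, rfl⟩ := (hUc _).1 hg
      exact (uR_norm E H S c).1
    · intro g hg hg1 r hr hcomm
      obtain ⟨c, rfl⟩ := (hUc _).1 hg
      refine cent_uR E H S hr.1 (fun hc => hg1 ?_) hcomm.symm
      rw [hc, uD_zero E.two S]; exact map_one E.kr
  -- a prime field
  have hp5 : 5 ≤ p := hq ▸ H.five
  obtain ⟨u, hu⟩ : ∃ u, u = E.kr (1, uD v e 1) := ⟨_, rfl⟩
  have hup : u ^ p = 1 := hu ▸ uR_pow E S 1 p
  obtain ⟨hn0, hns, huM⟩ : u ∈ Subgroup.normalizer (sliceFix T M : Set (qAut Q)) ∧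
      u ∈ Subgroup.normalizer (signGroup T M : Set (qAut Q)) ∧ u ∈ M := hu ▸ uR_norm E H S 1
  obtain ⟨y, hy⟩ : ∃ y, y = E.kr (rho (Qd_bv (F := F) 1), 1) := ⟨_, rfl⟩
  have hy1 : y * y = 1 := by rw [hy, ← map_mul, Prod.mk_mul_mk, rho_mul_self, mul_one]; exact map_one E.kr
  have hyM : y ∈ M := hy ▸ krM E H (by rw [par_rho, map_one]) (by
    rw [spin_rho, bv_self, Spin.sqSign_one, map_one])
  have hyslice : ∀ b, y.1 (T (bv 0) b) = (-1 : F) • T (bv 0) b := fun b => by
    rw [hy, E.kr_T, rho_bv E (by decide), map_neg, neg_one_smul]; rfl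
  have hys : y ∈ signGroup T M := ⟨hyM, -1, by norm_num, hyslice⟩
  have hyu : Commute y u := by
    show _ * _ = _ * _
    rw [hy, hu, ← map_mul, ← map_mul, Prod.mk_mul_mk, Prod.mk_mul_mk, one_mul, mul_one, mul_one, one_mul]
  have hyn : y ∈ Subgroup.normalizer (sliceFix T M : Set (qAut Q)) := by
    refine Subgroup.mem_normalizer_iff.2 fun g => ⟨fun hg => ⟨M.mul_mem (M.mul_mem hyM hg.1) (M.inv_mem hyM),
      fun b => ?_⟩, fun hg => ⟨?_, fun b => ?_⟩⟩
    · rw [inv_eq_of_mul_eq_one_right hy1, qAut_mul_apply, qAut_mul_apply, hyslice, map_smul, hg.2, map_smul, hyslice,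
        smul_smul, neg_one_mul, neg_neg, one_smul]
    · rw [show g = y⁻¹ * (y * g * y⁻¹) * y by group]
      exact M.mul_mem (M.mul_mem (M.inv_mem hyM) hg.1) hyM
    · rw [show g = y⁻¹ * (y * g * y⁻¹) * y by group, inv_eq_of_mul_eq_one_right hy1, qAut_mul_apply, qAut_mul_apply,
        hyslice, map_smul]
      have h := hg.2 b
      rw [inv_eq_of_mul_eq_one_right hy1] at h
      rw [h, map_smul, hyslice, smul_smul, neg_one_mul, neg_neg, one_smul]
  have hdich : ∀ g ∈ signGroup T M, g ∈ sliceFix T M ∨ g * y ∈ sliceFix T M := by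
    rintro g ⟨hgM, s, hs, hgs⟩
    rcases mul_self_eq_one_iff.1 hs with rfl | rfl
    · exact Or.inl ⟨hgM, fun b => by rw [hgs, one_smul]⟩
    · exact Or.inr ⟨M.mul_mem hgM hyM, fun b => by
        rw [qAut_mul_apply, hyslice, map_smul, hgs, smul_smul, neg_one_mul, neg_neg, one_smul]⟩
  obtain ⟨K, hK⟩ : ∃ K : Subgroup (qAut Q), K = sliceFix T M := ⟨_, rfl⟩
  have hcopK : (Nat.card (Subgroup.zpowers u)).Coprime (Nat.card K) := by
    rw [Nat.card_zpowers]
    exact Nat.Coprime.coprime_dvd_left (orderOf_dvd_of_pow_eq_one hup)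
      ((Fact.out : p.Prime).coprime_iff_not_dvd.2 (hK ▸ sliceFix_coprime E H))
  have hAK : Subgroup.zpowers u ≤ Subgroup.normalizer (K : Set (qAut Q)) := Subgroup.zpowers_le.2 (hK ▸ hn0)
  have hmain : signGroup T M ≤ Subgroup.centralizer {u} := by
    refine le_of_parts fun r hr hrd k hk => ?_
    rcases Nat.eq_zero_or_pos k with rfl | hk0
    · simp
    haveI : Fact r.Prime := ⟨hr⟩
    by_cases hr2 : r = 2
    · subst hr2
      have hcop : (Nat.card (Subgroup.zpowers u)).Coprime (Nat.card (signGroup T M)) := by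
        rw [Nat.card_zpowers]
        exact Nat.Coprime.coprime_dvd_left (orderOf_dvd_of_pow_eq_one hup)
          ((Fact.out : p.Prime).coprime_iff_not_dvd.2 (signGroup_coprime E H))
      obtain ⟨X, hyX, hAX⟩ := CfsgLib.Solvable.exists_invariant_sylow_ge (A := Subgroup.zpowers u) (K := signGroup T M)
        (Subgroup.zpowers_le.2 hns) hcop (Or.inl inferInstance) 2 (U := Subgroup.zpowers y)
        (Subgroup.zpowers_le.2 hys)
        (fun a => ⟨1, by
          obtain ⟨a, ha⟩ := a
          obtain ⟨m, rfl⟩ := Subgroup.mem_zpowers_iff.1 ha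
          refine Subtype.ext ?_
          show (y ^ m) ^ (2 ^ 1) = 1
          rw [pow_one, ← zpow_natCast, ← zpow_mul, mul_comm, zpow_mul, zpow_natCast, sq, hy1, one_zpow]⟩)
        (by
          rw [Subgroup.zpowers_le, Subgroup.mem_normalizer_iff_map_conj_eq, MonoidHom.map_zpowers]
          congr 1
          show u * y * u⁻¹ = y
          rw [← hyu.eq, mul_inv_cancel_right])
      refine parts_of_sylow X (fun x hx => Subgroup.mem_centralizer_iff.2 fun w hw => ?_) le_rfl hk
      rw [Set.mem_singleton_iff] at hw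
      rw [hw]
      have hX2 : IsPGroup 2 ((X : Subgroup (signGroup T M)).map (signGroup T M).subtype) := X.isPGroup'.map _
      refine two_group hX2 (y := y) (hyX (Subgroup.mem_zpowers y)) ?_ (Fact.out : p.Prime) hp5 hup
        (hAX (Subgroup.mem_zpowers u)) x hx
      obtain ⟨t, ht⟩ : ∃ t, t = E.kr (rho (Qd_bv (F := F) 0), 1) := ⟨_, rfl⟩
      calc _ ≤ Nat.card ↥({1, y, t, t * y} : Finset (qAut Q)) := by
            refine Nat.card_le_card_of_injective (fun z => ⟨z.1, ?_⟩)
              fun a b h => Subtype.ext (congrArg (fun z : ↥({1, y, t, t * y} : Finset (qAut Q)) => z.1) h)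
            obtain ⟨⟨z', hz', hzz⟩, hzc⟩ := z.2
            have hzy : z.1 * y = y * z.1 := (Subgroup.mem_centralizer_iff.1 hzc y rfl).symm
            have hsg : z.1 ∈ signGroup T M := hzz ▸ z'.2
            simp only [Finset.mem_insert, Finset.mem_singleton]
            rcases hdich _ hsg with h | h
            · rcases sliceFix_cent E H h (hy ▸ hzy) with h1 | h1
              · exact Or.inl h1
              · exact Or.inr (Or.inr (Or.inl (h1.trans ht.symm)))
            · rcases sliceFix_cent E H h (by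
                rw [← hy]
                conv_rhs => rw [← mul_assoc, ← hzy]) with h1 | h1
              · exact Or.inr (Or.inl ((mul_eq_one_iff_eq_inv.1 h1).trans (inv_eq_of_mul_eq_one_right hy1)))
              · exact Or.inr (Or.inr (Or.inr (by rw [ht, ← h1, mul_assoc, hy1, mul_one])))
        _ ≤ 4 := by
            rw [Nat.card_eq_finsetCard]
            exact Finset.card_le_four
    · -- odd primes
      have hkK : r ^ k ∣ Nat.card K := by
        have hidx : ((sliceFix T M).subgroupOf (signGroup T M)).index = 2 := by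
          refine Subgroup.index_eq_two_iff.2 ⟨⟨y, hys⟩, fun b => ?_⟩
          simp only [Subgroup.mem_subgroupOf, Subgroup.coe_mul]
          rcases hdich _ b.2 with h | h
          · refine Or.inr ⟨h, fun h' => ?_⟩
            have hy0 := (sliceFix T M).mul_mem ((sliceFix T M).inv_mem h) h'
            rw [inv_mul_cancel_left] at hy0
            have h0 := hy0.2 (bv 0)
            rw [hyslice, neg_one_smul, neg_eq_iff_add_eq_zero, ← two_smul F] at h0
            exact bv_ne 0 ((E.T_zero ((smul_eq_zero.1 h0).resolve_left E.two)).resolve_left (bv_ne 0))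
          · refine Or.inl ⟨h, fun h' => ?_⟩
            have hy0 := (sliceFix T M).mul_mem ((sliceFix T M).inv_mem h') h
            rw [inv_mul_cancel_left] at hy0
            have h0 := hy0.2 (bv 0)
            rw [hyslice, neg_one_smul, neg_eq_iff_add_eq_zero, ← two_smul F] at h0
            exact bv_ne 0 ((E.T_zero ((smul_eq_zero.1 h0).resolve_left E.two)).resolve_left (bv_ne 0))
        have h := Subgroup.index_mul_card ((sliceFix T M).subgroupOf (signGroup T M))
        rw [hidx, Nat.card_congr (Subgroup.subgroupOfEquivOfLe (sliceFix_le)).toEquiv, ← hK] at h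
        exact (((Nat.coprime_primes hr Nat.prime_two).2 hr2).pow_left k).dvd_of_dvd_mul_left (h ▸ hk)
      obtain ⟨R, hAR⟩ := CfsgLib.Solvable.exists_invariant_sylow (Subgroup.zpowers u) K hAK hcopK
        (Or.inl inferInstance) r
      obtain ⟨R', hR'⟩ : ∃ R' : Subgroup (qAut Q), R' = (R : Subgroup K).map K.subtype := ⟨_, rfl⟩
      refine parts_of_sylow R ?_ (hK ▸ sliceFix_le) hkK
      rw [← hR'] at hAR ⊢
      have hR'K : R' ≤ K := hR' ▸ Subgroup.map_subtype_le _
      have hRpg : IsPGroup r R' := hR' ▸ R.isPGroup'.map _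
      -- an element outside commuting with u and normalising R
      obtain ⟨Q', hQ'⟩ := CfsgLib.Solvable.exists_sylow_map_eq (H := R'.map (MulAut.conj y).toMonoidHom)
        (by
          rintro _ ⟨x, hx, rfl⟩
          rw [hK]
          exact (Subgroup.mem_normalizer_iff.1 hyn x).1 (hK ▸ hR'K hx)) R
        (by
          rw [Subgroup.card_map_of_injective (MulAut.conj y).injective, hR',
            Subgroup.card_map_of_injective K.subtype_injective])
      obtain ⟨g, hgK, hg⟩ := CfsgLib.Solvable.exists_conj_sylow_map Q' R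
      rw [hQ', ← hR'] at hg
      have hmem : ∀ z, g * y * z * (g * y)⁻¹ ∈ R' ↔ z ∈ R' := fun z => by
        constructor
        · intro h
          rw [← hg] at h
          obtain ⟨_, ⟨w, hw, rfl⟩, h'⟩ := h
          have h'' : g * (y * w * y⁻¹) * g⁻¹ = g * y * z * (g * y)⁻¹ := h'
          rw [show g * (y * w * y⁻¹) * g⁻¹ = g * y * w * (g * y)⁻¹ by group] at h''
          exact mul_left_cancel (mul_right_cancel h'') ▸ hw
        · intro h
          rw [← hg]
          exact ⟨_, ⟨z, h, rfl⟩, by show g * (y * z * y⁻¹) * g⁻¹ = _; group⟩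
      have hgy : g * y ∈ Subgroup.normalizer (R' : Set (qAut Q)) :=
        Subgroup.mem_normalizer_iff.2 fun z => (hmem z).symm
      obtain ⟨n, hn, hnc⟩ := CfsgLib.Solvable.exists_mul_mem_centralizer (Subgroup.zpowers u)
        (K ⊓ Subgroup.normalizer (R' : Set (qAut Q)))
        (CfsgLib.Solvable.le_normalizer_inf hAK (hAR.trans Subgroup.le_normalizer))
        (hcopK.coprime_dvd_right (Subgroup.card_dvd_of_le inf_le_left)) (Or.inl inferInstance) (g * y) (by
          intro a ha
          refine ⟨?_, ?_⟩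
          · have hay : a * y = y * a := by
              obtain ⟨m, rfl⟩ := Subgroup.mem_zpowers_iff.1 ha
              exact ((hyu.zpow_right m).eq).symm
            have e : ⁅a, g * y⁆ = (a * g * a⁻¹) * g⁻¹ := by
              rw [commutatorElement_def]
              calc a * (g * y) * a⁻¹ * (g * y)⁻¹ = a * g * (y * a⁻¹) * y⁻¹ * g⁻¹ := by group
                _ = a * g * (a⁻¹ * y) * y⁻¹ * g⁻¹ := by
                  rw [(Commute.inv_left (show Commute a y from hay)).eq]
                _ = a * g * a⁻¹ * g⁻¹ := by group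
            rw [e]
            exact K.mul_mem ((Subgroup.mem_normalizer_iff.1 (hAK ha) g).1 hgK) (K.inv_mem hgK)
          · rw [commutatorElement_def]
            have hN := Subgroup.normalizer (R' : Set (qAut Q))
            exact Subgroup.mul_mem _ (Subgroup.mul_mem _ (Subgroup.mul_mem _ (hAR ha) hgy)
              (Subgroup.inv_mem _ (hAR ha))) (Subgroup.inv_mem _ hgy))
      obtain ⟨y', hy'⟩ : ∃ y', y' = n * (g * y) := ⟨_, rfl⟩
      rw [← hy'] at hnc
      have hy'M : y' ∈ M := hy' ▸ M.mul_mem ((hK ▸ hn.1 : n ∈ sliceFix T M)).1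
        (M.mul_mem ((hK ▸ hgK : g ∈ sliceFix T M)).1 hyM)
      have hy's : ∀ b, y'.1 (T (bv 0) b) = (-1 : F) • T (bv 0) b := fun b => by
        rw [hy', qAut_mul_apply, qAut_mul_apply, hyslice, map_smul, ((hK ▸ hgK : g ∈ sliceFix T M)).2, map_smul,
          ((hK ▸ hn.1 : n ∈ sliceFix T M)).2]
      have hy'u : y' * u = u * y' :=
        (Subgroup.mem_centralizer_iff.1 hnc u (Subgroup.mem_zpowers u)).symm
      obtain ⟨A, hA0, hA⟩ := E.slice_form (cent_uR E H S hy'M one_ne_zero (hu ▸ hy'u)) (by norm_num) hy's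
      have hΩ := H.sub hy'M
      rw [hA, E.kr_mem_iff, map_one, map_one] at hΩ
      obtain ⟨a, ha, ha0, rfl⟩ := neg0_rho E.two (by rw [hA0, neg_one_smul]) hΩ.1
      obtain ⟨s, hs⟩ := (spin_eq_one_iff E.two ha).1 hΩ.2
      have hs0 : s ≠ 0 := fun h => ha (by rw [Qd_apply, hs, h, mul_zero])
      obtain ⟨A₀, hA₀0, hA₀a⟩ := exists_move (F := F) E.two (z := bv 0) (c := s⁻¹ • a) (d := bv 1)
        (by rw [dotProduct_smul, dotProduct_comm, ha0, smul_zero]) (by rw [bv_dot, if_neg (by decide)])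
        (by rw [smul_dotProduct, dotProduct_smul, hs, bv_self, smul_eq_mul, smul_eq_mul]; field_simp)
        (by rw [smul_dotProduct, dotProduct_smul, hs, smul_eq_mul, smul_eq_mul]; field_simp; exact one_ne_zero)
      have hy'y : E.kr (A₀, A₀) * y' * (E.kr (A₀, A₀))⁻¹ = y := by
        rw [hA, ← map_inv, ← map_mul, ← map_mul, hy]
        refine congrArg E.kr (Prod.ext ?_ ?_)
        · show A₀ * rho ha * A₀⁻¹ = rho (Qd_bv 1)
          have hsa : Qd F (s⁻¹ • a) ≠ 0 := by
            rw [quad_smul]; exact mul_ne_zero (mul_ne_zero (inv_ne_zero hs0) (inv_ne_zero hs0)) ha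
          have hd : Qd F (A₀.1 (s⁻¹ • a)) ≠ 0 := by rw [hA₀a]; exact Qd_bv 1
          rw [← rho_smul E.two ha hsa, rho_conj A₀ hsa hd]
          simp only [hA₀a]
        · show A₀ * 1 * A₀⁻¹ = 1
          rw [mul_one, mul_inv_cancel]
      have hy'2 : y' * y' = 1 := by
        rw [hA, ← map_mul, Prod.mk_mul_mk, rho_mul_self, mul_one]; exact map_one E.kr
      have hy'N : y' ∈ Subgroup.normalizer (R' : Set (qAut Q)) := hy' ▸ Subgroup.mul_mem _ hn.2 hgy
      have hodd1 : ∀ x ∈ R', x * x = 1 → x = 1 := fun x hx h => by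
        obtain ⟨m, hm⟩ := hRpg ⟨x, hx⟩
        have hm' : x ^ r ^ m = 1 := congrArg Subtype.val hm
        obtain ⟨i, hi⟩ := (hr.odd_of_ne_two hr2).pow (n := m)
        rwa [hi, pow_succ, pow_mul, sq, h, one_pow, one_mul] at hm'
      obtain ⟨hinv, hab⟩ := inverted hy'2 hy'N fun x hx hc => by
        have hn0' := kr_norm E H (A := A₀) (B := A₀) rfl rfl hA₀0
        have hz : E.kr (A₀, A₀) * x * (E.kr (A₀, A₀))⁻¹ ∈ sliceFix T M :=
          (Subgroup.mem_normalizer_iff.1 hn0' x).1 (hK ▸ hR'K hx)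
        have hzy : E.kr (A₀, A₀) * x * (E.kr (A₀, A₀))⁻¹ * y = y * (E.kr (A₀, A₀) * x * (E.kr (A₀, A₀))⁻¹) := by
          rw [← hy'y]
          calc _ = E.kr (A₀, A₀) * (x * y') * (E.kr (A₀, A₀))⁻¹ := by group
            _ = E.kr (A₀, A₀) * (y' * x) * (E.kr (A₀, A₀))⁻¹ := by rw [hc]
            _ = _ := by group
        rcases sliceFix_cent E H hz (hy ▸ hzy) with h1 | h1
        · rwa [mul_inv_eq_one, mul_eq_left] at h1
        · refine hodd1 x hx ?_
          have h2 : _ * _ = _ * _ := congrArg (fun z => z * z) h1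
          rw [← map_mul, Prod.mk_mul_mk, rho_mul_self, mul_one,
            show E.kr (A₀, A₀) * x * (E.kr (A₀, A₀))⁻¹ * (E.kr (A₀, A₀) * x * (E.kr (A₀, A₀))⁻¹) =
              E.kr (A₀, A₀) * (x * x) * (E.kr (A₀, A₀))⁻¹ by group,
            show ((1 : qAut (Qd F)), (1 : qAut (Qd F))) = 1 from rfl, map_one, mul_inv_eq_one, mul_eq_left] at h2
          exact h2
      have hrp : p ≠ r := fun h => sliceFix_coprime E H (p := p) (by
        rw [← hK, h]
        exact (dvd_pow_self r (by omega)).trans hkK)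
      refine fun x hx => Subgroup.mem_centralizer_iff.2 fun w hw => ?_
      rw [Set.mem_singleton_iff] at hw
      rw [hw]
      refine commute_of_bottom (Fact.out : p.Prime) hrp hRpg hab hup (hAR (Subgroup.mem_zpowers u)) ?_ x hx
      -- the bottom layer, by counting weights
      intro z hz hzr
      let Ω₁ : Subgroup (qAut Q) :=
        { carrier := {z | z ∈ R' ∧ z ^ r = 1}
          mul_mem' := fun {a b} ha hb => ⟨R'.mul_mem ha.1 hb.1, by
            rw [Commute.mul_pow (hab a ha.1 b hb.1), ha.2, hb.2, one_mul]⟩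
          one_mem' := ⟨R'.one_mem, one_pow r⟩
          inv_mem' := fun {a} ha => ⟨R'.inv_mem ha.1, by rw [inv_pow, ha.2, inv_one]⟩ }
      have hS : Subgroup.zpowers u ≤ Subgroup.normalizer (Ω₁ : Set (qAut Q)) := by
        intro s hs
        refine Subgroup.mem_normalizer_iff.2 fun z => ?_
        show z ∈ R' ∧ z ^ r = 1 ↔ s * z * s⁻¹ ∈ R' ∧ (s * z * s⁻¹) ^ r = 1
        rw [← Subgroup.mem_normalizer_iff.1 (hAR hs) z, conj_pow, mul_inv_eq_one, mul_eq_left]
      obtain ⟨N, hN⟩ : ∃ N : Subgroup (Subgroup.zpowers u),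
        N = (Subgroup.centralizer (Ω₁ : Set (qAut Q))).subgroupOf (Subgroup.zpowers u) := ⟨_, rfl⟩
      have hodd : Odd (Nat.card (Subgroup.zpowers u)) := by
        rw [Nat.card_zpowers]
        exact Odd.of_dvd_nat ((Fact.out : p.Prime).odd_of_ne_two (by omega)) (orderOf_dvd_of_pow_eq_one hup)
      have h3 := OrthField.Cubic.range_dvd_three E.nd (le_of_eq E.dim) hr hr2
        (fun h => hrp ((Nat.prime_dvd_prime_iff_eq (Fact.out : p.Prime) hr).1 ((CharP.cast_eq_zero_iff F p r).1 h)))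
        Ω₁ (fun a ha b hb => hab a ha.1 b hb.1) (fun a ha => ha.2) (Subgroup.zpowers u) hS hodd
        (QuotientGroup.mk' N) (fun s hs => (QuotientGroup.eq_one_iff s).2 <| (SetLike.ext_iff.1 hN s).2
          (Subgroup.mem_subgroupOf.2 (Subgroup.mem_centralizer_iff.2 fun a ha => (hs a ha).symm)))
      have hp1 : Nat.card (QuotientGroup.mk' N).range ∣ p :=
        (Subgroup.card_range_dvd _).trans (by rw [Nat.card_zpowers]; exact orderOf_dvd_of_pow_eq_one hup)
      have h1 : Nat.card (QuotientGroup.mk' N).range = 1 := by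
        refine Nat.dvd_one.1 ?_
        have := Nat.dvd_gcd hp1 h3
        rwa [(Nat.coprime_primes (Fact.out : p.Prime) Nat.prime_three).2 (by omega)] at this
      have hu1 : (QuotientGroup.mk' N) ⟨u, Subgroup.mem_zpowers u⟩ = 1 := by
        have h2 := Subgroup.eq_bot_of_card_eq _ h1
        exact (Subgroup.eq_bot_iff_forall _).1 h2 _ ⟨_, rfl⟩
      have hu2 : u ∈ Subgroup.centralizer (Ω₁ : Set (qAut Q)) :=
        Subgroup.mem_subgroupOf.1 ((SetLike.ext_iff.1 hN _).1 ((QuotientGroup.eq_one_iff (N := N) _).1 hu1))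
      exact (Subgroup.mem_centralizer_iff.1 hu2 z (show z ∈ Ω₁ from ⟨hz, hzr⟩)).symm
  intro g hg
  exact cent_uR E H S hg.1 one_ne_zero
    (hu ▸ ((Subgroup.mem_centralizer_iff.1 (hmain (sliceFix_le hg)) u rfl).symm))

omit [Fact p.Prime] [CharP F p] in
/-- The centraliser of a pure involution. -/
theorem cent_t {g : qAut Q} (hg : g ∈ M)
    (hcomm : g * E.kr (rho (Qd_bv 0), 1) = E.kr (rho (Qd_bv 0), 1) * g) : g ∈ E.tw := by
  obtain ⟨B, hB⟩ := E.slice_map hcomm
  obtain ⟨A, hA0, hAp, hAs⟩ := exists_signs E.two B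
  have hk : E.kr (A, B) ∈ M := krM E H hAp hAs
  have h : (E.kr (A, B))⁻¹ * g ∈ sliceFix T M := ⟨M.mul_mem (M.inv_mem hk) hg, fun b => (E.kr (A, B)).1.injective (by
    rw [qAut_mul_apply, qApply_inv_self, hB, norm_right E A B hA0])⟩
  have h' := E.tw.mul_mem (E.kr_tw A B) (sliceFix_tw E H h)
  rwa [mul_inv_cancel_left] at h'

end CfsgLib.Classical22.WrThree
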