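/-
Traces of tensor elements; determinants on the minus space of an involution.
-/
import Cfsg.Agent.Lib.Classical22.OrthWreathThree.Slice
import Mathlib.LinearAlgebra.Determinant
import Mathlib.LinearAlgebra.Trace

set_option autoImplicit false
set_option linter.all false

namespace CfsgLib.Classical22.WrThree

open CfsgLib.Classical
open scoped Matrix

universe u

variable {F : Type u} [Field F] {V : Type u} [AddCommGroup V] [Module F V]
variable {Q : QuadraticForm F V} {T : U F →ₗ[F] U F →ₗ[F] V} {k : F}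

/-- The trace in three-space. -/
def tr3 (A : qAut (Qd F)) : F := ∑ i, A.1 (bv i) i

lemma tr3_one : tr3 (1 : qAut (Qd F)) = 3 := by
  show ∑ i, (bv i : U F) i = 3
  simp [Fin.sum_univ_three, bv_apply]

lemma tr3_rho (h2 : (2 : F) ≠ 0) {c : U F} (hc : Qd F c ≠ 0) : tr3 (rho hc) = -1 := by
  have hcc : c ⬝ᵥ c ≠ 0 := hc
  have h : ∀ i, (rho hc).1 (bv i) i = -1 + 2 / (c ⬝ᵥ c) * (c i * c i) := fun i => by
    rw [rho, qAut_mul_apply, negU_apply, qRefl_dot h2, dotProduct_comm, dot_bv]
    show -((bv i : U F) i - 2 * c i / (c ⬝ᵥ c) * c i) = _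
    rw [bv_apply, if_pos rfl]
    ring
  show ∑ i, (rho hc).1 (bv i) i = -1
  simp only [h, Finset.sum_add_distrib, ← Finset.mul_sum]
  rw [show ∑ i, c i * c i = c ⬝ᵥ c from rfl, div_mul_cancel₀ _ hcc]
  simp
  norm_num

lemma tr3_negU : tr3 (negU F) = -3 := by
  show ∑ i, (-(bv i : U F)) i = -3
  simp [Fin.sum_univ_three, bv_apply]

variable (E : Tens Q T k)
include E

lemma Tens.repr_T (a b : U F) (p : Fin 3 × Fin 3) : E.basis.repr (T a b) p = a p.1 * b p.2 := by
  obtain ⟨L, hL⟩ : ∃ L : V →ₗ[F] F, ∀ x, L x = E.cl (bv p.1) x p.2 :=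
    ⟨(LinearMap.proj p.2).comp (E.cl (bv p.1)), fun x => rfl⟩
  have h : (E.basis.coord p) = L := E.basis.ext fun q => by
    rw [Module.Basis.coord_apply, Module.Basis.repr_self, E.basis_apply, hL, E.cl_T, bv_dot, Finsupp.single_apply]
    show _ = (if q.1 = p.1 then (1 : F) else 0) * (bv q.2 : U F) p.2
    rw [bv_apply]
    by_cases h1 : q = p
    · rw [if_pos h1, h1, if_pos rfl, if_pos rfl, one_mul]
    · rw [if_neg h1]
      by_cases h2 : q.1 = p.1
      · rw [if_neg fun h3 : p.2 = q.2 => h1 (Prod.ext h2 h3.symm), mul_zero]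
      · rw [if_neg h2, zero_mul]
  rw [← Module.Basis.coord_apply, h, hL, E.cl_T, dot_bv]
  rfl

lemma Tens.trace_kr (A B : qAut (Qd F)) : LinearMap.trace F V (E.kr (A, B)).1.toLinearMap = tr3 A * tr3 B := by
  rw [LinearMap.trace_eq_matrix_trace F E.basis, Matrix.trace]
  simp only [Matrix.diag_apply, LinearMap.toMatrix_apply, LinearEquiv.coe_coe, E.basis_apply, E.kr_T, E.repr_T]
  rw [Fintype.sum_prod_type, tr3, tr3, Finset.sum_mul_sum]

lemma Tens.trace_swp [Fintype F] (A B : qAut (Qd F)) :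
    LinearMap.trace F V (E.swp * E.kr (A, B)).1.toLinearMap = tr3 (B * A) := by
  have h1 : ∀ p : Fin 3 × Fin 3, E.basis.repr ((E.swp * E.kr (A, B)).1 (E.basis p)) p =
      B.1 (bv p.2) p.1 * A.1 (bv p.1) p.2 := fun p => by
    rw [E.basis_apply, qAut_mul_apply, E.kr_T, E.swp_T, E.repr_T]
  rw [LinearMap.trace_eq_matrix_trace F E.basis, Matrix.trace]
  simp only [Matrix.diag_apply, LinearMap.toMatrix_apply, LinearEquiv.coe_coe, h1]
  rw [Fintype.sum_prod_type, tr3]
  refine Finset.sum_congr rfl fun i _ => ?_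
  rw [qAut_mul_apply]
  conv_rhs => rw [U_eq (A.1 (bv i)), map_add, map_add, map_smul, map_smul, map_smul]
  simp [Fin.sum_univ_three, mul_comm]

omit E in
lemma trace_conj {g h : qAut Q} :
    LinearMap.trace F V (g * h * g⁻¹).1.toLinearMap = LinearMap.trace F V h.1.toLinearMap := by
  have e : (g * h * g⁻¹).1.toLinearMap = g.1.conj h.1.toLinearMap := LinearMap.ext fun x => by
    rw [LinearEquiv.conj_apply]
    rfl
  rw [e, LinearMap.trace_conj']

/-- An operator that is diagonal on a product of orthogonal frames. -/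
lemma Tens.det_diag {f f' : Fin 3 → U F} (hf : ∀ i j, i ≠ j → f i ⬝ᵥ f j = 0) (hf0 : ∀ i, f i ⬝ᵥ f i ≠ 0)
    (hf' : ∀ i j, i ≠ j → f' i ⬝ᵥ f' j = 0) (hf'0 : ∀ i, f' i ⬝ᵥ f' i ≠ 0) {L : V →ₗ[F] V}
    {c : Fin 3 → Fin 3 → F} (hL : ∀ i j, L (T (f i) (f' j)) = c i j • T (f i) (f' j)) :
    LinearMap.det L = ∏ p : Fin 3 × Fin 3, c p.1 p.2 := by
  have hli : LinearIndependent F fun p : Fin 3 × Fin 3 => T (f p.1) (f' p.2) :=
    Fintype.linearIndependent_iff.2 fun g hg p => by
      have h := congrArg (fun x => (QuadraticMap.polarBilin Q) x (T (f p.1) (f' p.2))) hg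
      simp only [map_sum, map_smul, LinearMap.sum_apply, LinearMap.smul_apply, smul_eq_mul,
        QuadraticMap.polarBilin_apply_apply, E.polar, map_zero, LinearMap.zero_apply] at h
      rw [Finset.sum_eq_single p (fun q _ hqp => ?_) (fun h => absurd (Finset.mem_univ _) h)] at h
      · exact (mul_eq_zero.1 h).resolve_right (mul_ne_zero E.k0 (mul_ne_zero (hf0 _) (hf'0 _)))
      · by_cases h1 : q.1 = p.1
        · rw [hf' _ _ fun h2 => hqp (Prod.ext h1 h2)]; simp
        · rw [hf _ _ h1]; simp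
  obtain ⟨b, hb⟩ : ∃ b : Module.Basis (Fin 3 × Fin 3) F V, ∀ p, b p = T (f p.1) (f' p.2) :=
    ⟨basisOfLinearIndependentOfCardEqFinrank hli (by simp [E.dim]), fun p => by
      rw [coe_basisOfLinearIndependentOfCardEqFinrank]⟩
  rw [← LinearMap.det_toMatrix b, show LinearMap.toMatrix b b L = Matrix.diagonal (fun p => c p.1 p.2) from ?_,
    Matrix.det_diagonal]
  ext i j
  rw [LinearMap.toMatrix_apply, hb, hL, map_smul, ← hb, Module.Basis.repr_self, Finsupp.smul_single, smul_eq_mul,
    mul_one, Finsupp.single_apply, Matrix.diagonal_apply]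
  by_cases h : j = i
  · subst h; simp
  · rw [if_neg h, if_neg (Ne.symm h)]

omit E in
/-- The operator `g` on the minus space of `z`, the identity on the plus space. -/
noncomputable def onMinus (z g : qAut Q) : V →ₗ[F] V :=
  (2⁻¹ : F) • (g.1.toLinearMap ∘ₗ (LinearMap.id - z.1.toLinearMap) + (LinearMap.id + z.1.toLinearMap))

omit E in
lemma onMinus_apply (z g : qAut Q) (x : V) :
    onMinus z g x = (2⁻¹ : F) • (g.1 (x - z.1 x) + (x + z.1 x)) := rfl

lemma Tens.onMinus_mul {z g h : qAut Q} (hz : z * z = 1) (hg : g * z = z * g) (hh : h * z = z * h) :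
    onMinus z (g * h) = onMinus z g ∘ₗ onMinus z h := by
  have hzz : ∀ x, z.1 (z.1 x) = x := fun x => by rw [← qAut_mul_apply, hz]; rfl
  have hgz : ∀ x, z.1 (g.1 x) = g.1 (z.1 x) := fun x => by rw [← qAut_mul_apply, ← hg, qAut_mul_apply]
  have hhz : ∀ x, z.1 (h.1 x) = h.1 (z.1 x) := fun x => by rw [← qAut_mul_apply, ← hh, qAut_mul_apply]
  refine LinearMap.ext fun x => ?_
  simp only [LinearMap.comp_apply, onMinus_apply, qAut_mul_apply, map_smul, map_add, map_sub, hzz, hgz, hhz]
  match_scalars <;> field_simp [E.two] <;> ring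

/-- A product of sign values. -/
lemma Tens.det_minus {f f' : Fin 3 → U F} (hf : ∀ i j, i ≠ j → f i ⬝ᵥ f j = 0) (hf0 : ∀ i, f i ⬝ᵥ f i ≠ 0)
    (hf' : ∀ i j, i ≠ j → f' i ⬝ᵥ f' j = 0) (hf'0 : ∀ i, f' i ⬝ᵥ f' i ≠ 0) {z g : qAut Q} {s t : Fin 3 → Fin 3 → ℤˣ}
    (hz : ∀ i j, z.1 (T (f i) (f' j)) = ((s i j : ℤ) : F) • T (f i) (f' j))
    (hg : ∀ i j, g.1 (T (f i) (f' j)) = ((t i j : ℤ) : F) • T (f i) (f' j)) :
    LinearMap.det (onMinus z g) =
      (((∏ p : Fin 3 × Fin 3, if s p.1 p.2 = -1 then t p.1 p.2 else 1 : ℤˣ) : ℤ) : F) := by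
  rw [E.det_diag hf hf0 hf' hf'0 (c := fun i j => (((if s i j = -1 then t i j else 1 : ℤˣ) : ℤ) : F)) fun i j => ?_]
  · push_cast
    rfl
  rw [onMinus_apply, hz]
  rcases Int.units_eq_one_or (s i j) with h | h
  · rw [h, if_neg (by decide)]
    simp only [Units.val_one, Int.cast_one, one_smul, sub_self, map_zero, zero_add]
    rw [smul_add, ← add_smul, ← two_mul, mul_inv_cancel₀ E.two, one_smul]
  · rw [h, if_pos rfl]
    simp only [Units.val_neg, Units.val_one, Int.cast_neg, Int.cast_one, neg_one_smul, sub_neg_eq_add, add_neg_cancel,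
      add_zero]
    rw [map_add, hg, smul_add, smul_smul, ← add_smul]
    congr 1
    have := E.two
    field_simp
    ring

/-- An element of determinant `-1` on an even minus space fixes a vector there. -/
lemma Tens.exists_fix {z r : qAut Q} (hz : z * z = 1) (hr : r * z = z * r)
    (hdz : LinearMap.det z.1.toLinearMap = 1) (hd : LinearMap.det (onMinus z r) = -1) :
    ∃ x, x ≠ 0 ∧ z.1 x = -x ∧ r.1 x = x := by
  have hzz : ∀ x, z.1 (z.1 x) = x := fun x => by rw [← qAut_mul_apply, hz]; rfl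
  have hrz : ∀ x, z.1 (r.1 x) = r.1 (z.1 x) := fun x => by rw [← qAut_mul_apply, ← hr, qAut_mul_apply]
  obtain ⟨P, hP⟩ : ∃ P : V →ₗ[F] V, ∀ x, P x = (2⁻¹ : F) • (r.1 (x - z.1 x) - (x + z.1 x)) :=
    ⟨(2⁻¹ : F) • (r.1.toLinearMap ∘ₗ (LinearMap.id - z.1.toLinearMap) - (LinearMap.id + z.1.toLinearMap)),
      fun x => rfl⟩
  have hPd : LinearMap.det P = 1 := by
    have e : P = onMinus z r ∘ₗ ((-1 : F) • z.1.toLinearMap) := LinearMap.ext fun x => by
      rw [LinearMap.comp_apply, onMinus_apply, hP, LinearMap.smul_apply, LinearEquiv.coe_coe, neg_one_smul, map_neg,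
        hzz]
      simp only [map_sub, map_neg, map_add]
      match_scalars <;> ring
    rw [e, LinearMap.det_comp, hd, LinearMap.det_smul, hdz, E.dim]
    norm_num
  have hPiso : ∀ x y, QuadraticMap.polar Q (P x) (P y) = QuadraticMap.polar Q x y := by
    intro x y
    have hcross : ∀ a b, z.1 a = -a → z.1 b = b → QuadraticMap.polar Q (r.1 a) b = 0 ∧
        QuadraticMap.polar Q b (r.1 a) = 0 ∧ QuadraticMap.polar Q a b = 0 ∧ QuadraticMap.polar Q b a = 0 := by
      intro a b ha hb
      have h1 := qAut_polar z (r.1 a) b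
      rw [hrz, ha, map_neg, hb, QuadraticMap.polar_neg_left, neg_eq_iff_add_eq_zero, ← two_mul] at h1
      have h3 := qAut_polar z a b
      rw [ha, hb, QuadraticMap.polar_neg_left, neg_eq_iff_add_eq_zero, ← two_mul] at h3
      have h1' := (mul_eq_zero.1 h1).resolve_left E.two
      have h3' := (mul_eq_zero.1 h3).resolve_left E.two
      exact ⟨h1', by rw [QuadraticMap.polar_comm, h1'], h3', by rw [QuadraticMap.polar_comm, h3']⟩
    have hm : ∀ x, z.1 (x - z.1 x) = -(x - z.1 x) := fun x => by rw [map_sub, hzz, neg_sub]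
    have hp : ∀ x, z.1 (x + z.1 x) = x + z.1 x := fun x => by rw [map_add, hzz, add_comm]
    have hsplit : ∀ x, x = (2⁻¹ : F) • ((x - z.1 x) + (x + z.1 x)) := fun x => by
      rw [show (x - z.1 x) + (x + z.1 x) = (2 : F) • x by rw [two_smul]; abel, smul_smul, inv_mul_cancel₀ E.two,
        one_smul]
    conv_rhs => rw [hsplit x, hsplit y]
    obtain ⟨a1, a2, a3, a4⟩ := hcross _ _ (hm x) (hp y)
    obtain ⟨b1, b2, b3, b4⟩ := hcross _ _ (hm y) (hp x)
    rw [hP, hP]
    generalize x - z.1 x = A at *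
    generalize x + z.1 x = B at *
    generalize y - z.1 y = A' at *
    generalize y + z.1 y = B' at *
    simp only [QuadraticMap.polar_smul_left, QuadraticMap.polar_smul_right, QuadraticMap.polar_sub_left,
      QuadraticMap.polar_sub_right, QuadraticMap.polar_add_left, QuadraticMap.polar_add_right, qAut_polar, smul_eq_mul,
      a1, a3, b2, b4]
    ring
  obtain ⟨Mx, hMx⟩ : ∃ Mx, Mx = LinearMap.toMatrix E.basis E.basis P := ⟨_, rfl⟩
  have horth : Mxᵀ * Mx = 1 := by
    have hpol : ∀ x y, QuadraticMap.polar Q x y = k * ∑ p, E.basis.repr x p * E.basis.repr y p := by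
      intro x y
      conv_lhs => rw [← QuadraticMap.polarBilin_apply_apply, ← E.basis.sum_repr x, ← E.basis.sum_repr y]
      simp only [map_sum, map_smul, LinearMap.sum_apply, LinearMap.smul_apply, smul_eq_mul,
        QuadraticMap.polarBilin_apply_apply, E.basis_apply, E.polar, bv_dot, Finset.mul_sum]
      refine Finset.sum_congr rfl fun p _ => ?_
      rw [Finset.sum_eq_single p (fun q _ hqp => ?_) (fun h => absurd (Finset.mem_univ _) h)]
      · simp; ring
      · by_cases h1 : q.1 = p.1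
        · rw [if_neg fun h2 => hqp (Prod.ext h1 h2)]; simp
        · rw [if_neg h1]; simp
    ext i j
    have h := hPiso (E.basis i) (E.basis j)
    rw [hpol, hpol] at h
    have h' := mul_left_cancel₀ E.k0 h
    simp only [hMx, Matrix.mul_apply, Matrix.transpose_apply, LinearMap.toMatrix_apply]
    rw [h']
    simp [Matrix.one_apply, Finsupp.single_apply]
  have hdet : (Mx - 1).det = 0 := by
    have h1 : (Mx - 1)ᵀ * Mx = -(Mx - 1) := by
      rw [Matrix.transpose_sub, Matrix.transpose_one, sub_mul, horth, one_mul, neg_sub]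
    have h2 := congrArg Matrix.det h1
    rw [Matrix.det_mul, Matrix.det_transpose, Matrix.det_neg, show Mx.det = 1 by
      rw [hMx, LinearMap.det_toMatrix, hPd], mul_one] at h2
    simp at h2
    refine (mul_eq_zero.1 (show 2 * (Mx - 1).det = 0 by linear_combination h2)).resolve_left E.two
  have hker : LinearMap.det (P - LinearMap.id) = 0 := by
    rw [← LinearMap.det_toMatrix E.basis, map_sub, LinearMap.toMatrix_id, ← hMx]
    exact hdet
  obtain ⟨x, hx, hx0⟩ := Submodule.exists_mem_ne_zero_of_ne_bot (LinearMap.bot_lt_ker_of_det_eq_zero hker).ne'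
  rw [LinearMap.mem_ker, LinearMap.sub_apply, LinearMap.id_apply, sub_eq_zero, hP] at hx
  have hzx : z.1 x = -x := by
    have h := congrArg z.1 hx
    rw [map_smul, map_sub, map_add, hrz, map_sub, hzz] at h
    have h' : (2 : F) • (x + z.1 x) = 0 := by
      have h'' := congrArg₂ (· + ·) hx h
      simp only [map_sub] at h''
      calc (2 : F) • (x + z.1 x) = (x + z.1 x) + (x + z.1 x) := two_smul F _
        _ = 0 := by
          rw [← smul_add] at h''
          rw [show r.1 x - r.1 (z.1 x) - (x + z.1 x) + (r.1 (z.1 x) - r.1 x - (z.1 x + x)) =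
            (-(2 : F)) • (x + z.1 x) by rw [neg_smul, two_smul]; abel, smul_smul, mul_neg, inv_mul_cancel₀ E.two,
            neg_one_smul] at h''
          conv_lhs => arg 1; rw [← h'']
          abel
    exact eq_neg_of_add_eq_zero_right ((smul_eq_zero.1 h').resolve_left E.two)
  refine ⟨x, hx0, hzx, ?_⟩
  rw [hzx, sub_neg_eq_add, add_neg_cancel, sub_zero, map_add, smul_add, ← add_smul, ← two_mul, mul_inv_cancel₀ E.two,
    one_smul] at hx
  exact hx

end CfsgLib.Classical22.WrThree
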