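/-
Involutions of three-dimensional orthogonal groups and of the tensor wreath group.
-/
import Cfsg.Agent.Lib.Classical22.OrthWreathThree.Pure
import Cfsg.Agent.Lib.Classical22.OrthWreathThree.Trace

set_option autoImplicit false
set_option linter.all false

namespace CfsgLib.Classical22.WrThree

open CfsgLib.Classical

universe u

variable {F : Type u} [Field F] (h2 : (2 : F) ≠ 0)
include h2

omit h2 in
lemma rho_congr {c d : U F} (e : c = d) (hc : Qd F c ≠ 0) (hd : Qd F d ≠ 0) : rho hc = rho hd := by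
  subst e; rfl

lemma rho_formula {c : U F} (hc : Qd F c ≠ 0) (x : U F) :
    (rho hc).1 x = (2 * (x ⬝ᵥ c) / (c ⬝ᵥ c)) • c - x := by
  rw [rho, qAut_mul_apply, qRefl_dot h2, negU_apply, neg_sub]

/-- The perpendicular of an anisotropic vector has an anisotropic coordinate projection. -/
lemma exists_proj {c : U F} (hc : c ⬝ᵥ c ≠ 0) :
    ∃ p : U F, p ⬝ᵥ c = 0 ∧ p ⬝ᵥ p ≠ 0 := by
  by_contra hne
  push Not at hne
  have hsq : ∀ j, c j * c j = c ⬝ᵥ c := fun j => by
    have h := hne (bv j - (c j / (c ⬝ᵥ c)) • c) (by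
      rw [sub_dotProduct, smul_dotProduct, smul_eq_mul, dotProduct_comm, dot_bv, div_mul_cancel₀ _ hc, sub_self])
    simp only [sub_dotProduct, dotProduct_sub, smul_dotProduct, dotProduct_smul, bv_self, smul_eq_mul,
      dotProduct_comm (bv j) c, dot_bv] at h
    field_simp at h
    rw [bv_apply, if_pos rfl] at h
    linear_combination -h
  have h3 : c ⬝ᵥ c = 3 * (c ⬝ᵥ c) := by
    conv_lhs => rw [dotProduct, Fin.sum_univ_three, hsq, hsq, hsq]
    ring
  exact hc ((mul_eq_zero.1 (show 2 * (c ⬝ᵥ c) = 0 by linear_combination -h3)).resolve_left h2)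

/-- An involution has an anisotropic eigenvector in each direction. -/
lemma exists_eigen {A : qAut (Qd F)} (hA : A * A = 1) {x : U F} (hx : x ⬝ᵥ x ≠ 0) :
    ∃ y : U F, y ⬝ᵥ y ≠ 0 ∧ (∃ s : F, (s = 1 ∨ s = -1) ∧ A.1 y = s • y) ∧
      (y = x + A.1 x ∨ y = x - A.1 x) := by
  have hAA : ∀ x, A.1 (A.1 x) = x := fun x => by rw [← qAut_mul_apply, hA]; rfl
  by_cases h : (x + A.1 x) ⬝ᵥ (x + A.1 x) = 0
  · refine ⟨x - A.1 x, fun h' => hx ?_, ⟨-1, Or.inr rfl, by rw [map_sub, hAA, neg_one_smul, neg_sub]⟩, Or.inr rfl⟩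
    simp only [add_dotProduct, dotProduct_add, sub_dotProduct, dotProduct_sub, dot_map h2] at h h'
    exact (mul_eq_zero.1 (show (2 * 2) * (x ⬝ᵥ x) = 0 by linear_combination h + h')).resolve_left (mul_ne_zero h2 h2)
  · exact ⟨x + A.1 x, h, ⟨1, Or.inl rfl, by rw [map_add, hAA, one_smul, add_comm]⟩, Or.inl rfl⟩

/-- Orthogonal anisotropic triples determine a map. -/
lemma ext_orth {A B : qAut (Qd F)} {a b c : U F} (hab : a ⬝ᵥ b = 0) (hac : a ⬝ᵥ c = 0) (hbc : b ⬝ᵥ c = 0)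
    (ha : a ⬝ᵥ a ≠ 0) (hb : b ⬝ᵥ b ≠ 0) (hc : c ⬝ᵥ c ≠ 0) (e1 : A.1 a = B.1 a) (e2 : A.1 b = B.1 b)
    (e3 : A.1 c = B.1 c) : A = B := by
  have hli : LinearIndependent F ![a, b, c] := Fintype.linearIndependent_iff.2 fun g hg j => by
    simp only [Fin.sum_univ_three, Matrix.cons_val_zero, Matrix.cons_val_one, Matrix.cons_val_two,
      Matrix.tail_cons, Matrix.head_cons] at hg
    have d1 := congrArg (fun z => z ⬝ᵥ a) hg
    have d2 := congrArg (fun z => z ⬝ᵥ b) hg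
    have d3 := congrArg (fun z => z ⬝ᵥ c) hg
    simp [add_dotProduct, smul_dotProduct, hab, hac, hbc, dotProduct_comm b a, dotProduct_comm c a,
      dotProduct_comm c b, ha, hb, hc] at d1 d2 d3
    fin_cases j
    · exact d1
    · exact d2
    · exact d3
  refine qAut_ext fun x => ?_
  obtain ⟨g, hg⟩ := (Submodule.mem_span_range_iff_exists_fun F).1
    ((hli.span_eq_top_of_card_eq_finrank (by simp)) ▸ Submodule.mem_top (x := x))
  rw [← hg]
  simp [Fin.sum_univ_three, map_add, map_smul, e1, e2, e3]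

/-- The axes of commuting half turns are equal or orthogonal. -/
lemma rho_comm {c d : U F} (hc : Qd F c ≠ 0) (hd : Qd F d ≠ 0) (h : rho hc * rho hd = rho hd * rho hc) :
    rho hc = rho hd ∨ c ⬝ᵥ d = 0 := by
  have hcc : c ⬝ᵥ c ≠ 0 := hc
  have hdd : d ⬝ᵥ d ≠ 0 := hd
  by_cases h0 : d ⬝ᵥ c = 0
  · exact Or.inr (by rw [dotProduct_comm, h0])
  left
  have h1 : (rho hd).1 ((rho hc).1 d) = (rho hc).1 d := by
    conv_lhs => rw [← qAut_mul_apply, ← h, qAut_mul_apply, rho_axis]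
  rw [rho_formula h2 hd ((rho hc).1 d), sub_eq_iff_eq_add] at h1
  have h2' : (rho hc).1 d = ((rho hc).1 d ⬝ᵥ d / (d ⬝ᵥ d)) • d := by
    refine smul_right_injective (U F) h2 ?_
    show (2 : F) • (rho hc).1 d = (2 : F) • _
    rw [two_smul, ← h1, smul_smul, mul_div_assoc]
  rw [rho_formula h2 hc d] at h2'
  obtain ⟨l, hl⟩ : ∃ l : F, c = l • d := by
    obtain ⟨a, ha⟩ : ∃ a, a = 2 * (d ⬝ᵥ c) / (c ⬝ᵥ c) := ⟨_, rfl⟩
    have ha0 : a ≠ 0 := ha ▸ div_ne_zero (mul_ne_zero h2 h0) hcc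
    obtain ⟨b, hb⟩ : ∃ b, b = (((2 * (d ⬝ᵥ c) / (c ⬝ᵥ c)) • c - d) ⬝ᵥ d / (d ⬝ᵥ d)) := ⟨_, rfl⟩
    rw [← hb, ← ha, sub_eq_iff_eq_add] at h2'
    exact ⟨a⁻¹ * (b + 1), by rw [mul_smul, add_smul, one_smul, ← h2', inv_smul_smul₀ ha0]⟩
  refine qAut_ext fun x => ?_
  have hl0 : l ≠ 0 := fun h => hcc (by rw [hl, h, zero_smul, zero_dotProduct])
  rw [rho_formula h2, rho_formula h2, hl, smul_dotProduct, dotProduct_smul, dotProduct_smul, smul_smul, smul_eq_mul,
    smul_eq_mul, smul_eq_mul]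
  congr 2
  field_simp

variable [Fintype F]

/-- Proper involutions are half turns. -/
theorem so_inv {A : qAut (Qd F)} (hA : A * A = 1) (hp : par h2 A = 1) :
    A = 1 ∨ ∃ (c : U F) (hc : Qd F c ≠ 0), A = rho hc := by
  obtain ⟨a, ha, ⟨s, hs, hAa⟩, -⟩ := exists_eigen h2 hA (x := bv 0) (by rw [bv_self]; exact one_ne_zero)
  obtain ⟨p, hpa, hpp⟩ := exists_proj h2 ha
  obtain ⟨b, hb, ⟨t, ht, hAb⟩, hbform⟩ := exists_eigen h2 hA hpp
  have hs0 : s * s = 1 := by rcases hs with rfl | rfl <;> simp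
  have hAp : A.1 p ⬝ᵥ a = 0 := by
    have h := dot_map h2 A p a
    rw [hAa, dotProduct_smul, hpa, smul_eq_mul] at h
    exact (mul_eq_zero.1 h).resolve_left fun h0 => by rw [h0, zero_mul] at hs0; exact zero_ne_one hs0
  have hba : b ⬝ᵥ a = 0 := by
    rcases hbform with h | h <;> rw [h]
    · rw [add_dotProduct, hpa, hAp, add_zero]
    · rw [sub_dotProduct, hpa, hAp, sub_zero]
  have hab : a ⬝ᵥ b = 0 := by rw [dotProduct_comm, hba]
  obtain ⟨c, hc⟩ : ∃ c, c = crossProduct a b := ⟨_, rfl⟩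
  have hac : a ⬝ᵥ c = 0 := hc ▸ dot_self_cross a b
  have hbc : b ⬝ᵥ c = 0 := hc ▸ dot_cross_self a b
  have hcc : c ⬝ᵥ c ≠ 0 := by
    rw [hc, cross_dot_cross, hab, hba, mul_zero, sub_zero]
    exact mul_ne_zero ha hb
  obtain ⟨r, hr, hAc⟩ : ∃ r : F, (r = 1 ∨ r = -1) ∧ A.1 c = r • c := by
    obtain ⟨x, hx⟩ : ∃ x, x = A.1 c - ((A.1 c ⬝ᵥ c) / (c ⬝ᵥ c)) • c := ⟨_, rfl⟩
    have ht0 : t * t = 1 := by rcases ht with rfl | rfl <;> simp
    have e1 : A.1 c ⬝ᵥ a = 0 := by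
      have h := dot_map h2 A c a
      rw [hAa, dotProduct_smul, dotProduct_comm c a, hac, smul_eq_mul] at h
      exact (mul_eq_zero.1 h).resolve_left fun h0 => by rw [h0, zero_mul] at hs0; exact zero_ne_one hs0
    have e2 : A.1 c ⬝ᵥ b = 0 := by
      have h := dot_map h2 A c b
      rw [hAb, dotProduct_smul, dotProduct_comm c b, hbc, smul_eq_mul] at h
      exact (mul_eq_zero.1 h).resolve_left fun h0 => by rw [h0, zero_mul] at ht0; exact zero_ne_one ht0
    have hx0 : x = 0 := by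
      have hxa : x ⬝ᵥ a = 0 := by rw [hx, sub_dotProduct, smul_dotProduct, e1, dotProduct_comm c a, hac]; simp
      have hxb : x ⬝ᵥ b = 0 := by rw [hx, sub_dotProduct, smul_dotProduct, e2, dotProduct_comm c b, hbc]; simp
      have hxc : x ⬝ᵥ c = 0 := by
        rw [hx, sub_dotProduct, smul_dotProduct, smul_eq_mul, div_mul_cancel₀ _ hcc, sub_self]
      have hli : LinearIndependent F ![a, b, c] := Fintype.linearIndependent_iff.2 fun g hg j => by
        simp only [Fin.sum_univ_three, Matrix.cons_val_zero, Matrix.cons_val_one, Matrix.cons_val_two,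
          Matrix.tail_cons, Matrix.head_cons] at hg
        have d1 := congrArg (fun z => z ⬝ᵥ a) hg
        have d2 := congrArg (fun z => z ⬝ᵥ b) hg
        have d3 := congrArg (fun z => z ⬝ᵥ c) hg
        simp [add_dotProduct, smul_dotProduct, hab, hac, hbc, hba, dotProduct_comm c a,
          dotProduct_comm c b, ha, hb, hcc] at d1 d2 d3
        fin_cases j
        · exact d1
        · exact d2
        · exact d3
      funext i
      obtain ⟨g, hg⟩ := (Submodule.mem_span_range_iff_exists_fun F).1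
        ((hli.span_eq_top_of_card_eq_finrank (by simp)) ▸ Submodule.mem_top (x := (bv i : U F)))
      have h := congrArg (fun z => x ⬝ᵥ z) hg
      simp [Fin.sum_univ_three, dotProduct_add, dotProduct_smul, hxa, hxb, hxc, dot_bv] at h
      exact h.symm
    rw [hx, sub_eq_zero] at hx0
    refine ⟨_, ?_, hx0⟩
    have h := dot_map h2 A c c
    obtain ⟨r, hrdef⟩ : ∃ r, r = (A.1 c ⬝ᵥ c) / (c ⬝ᵥ c) := ⟨_, rfl⟩
    rw [← hrdef] at hx0 ⊢
    rw [hx0, smul_dotProduct, dotProduct_smul, smul_eq_mul, smul_eq_mul, ← mul_assoc, mul_eq_right₀ hcc] at h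
    exact mul_self_eq_one_iff.1 h
  have hodd : ∀ {d : U F} (hd : Qd F d ≠ 0), A ≠ qRefl (Qd F) hd := fun hd h => by
    rw [h, par_refl] at hp; exact absurd hp (by decide)
  have pa : Qd F a ≠ 0 := ha
  have pb : Qd F b ≠ 0 := hb
  have pc : Qd F c ≠ 0 := hcc
  have hca : c ⬝ᵥ a = 0 := by rw [dotProduct_comm, hac]
  have hcb : c ⬝ᵥ b = 0 := by rw [dotProduct_comm, hbc]
  have ext := fun B : qAut (Qd F) => ext_orth h2 (A := A) (B := B) hab hac hbc ha hb hcc
  rcases hs with rfl | rfl <;> rcases ht with rfl | rfl <;> rcases hr with rfl | rfl <;>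
    simp only [one_smul, neg_one_smul] at hAa hAb hAc
  · exact Or.inl (ext 1 hAa hAb hAc)
  · exact absurd (ext _ (hAa.trans (qRefl_perp h2 pc hac).symm) (hAb.trans (qRefl_perp h2 pc hbc).symm)
      (hAc.trans (qRefl_self _ _).symm)) (hodd pc)
  · exact absurd (ext _ (hAa.trans (qRefl_perp h2 pb hab).symm) (hAb.trans (qRefl_self _ _).symm)
      (hAc.trans (qRefl_perp h2 pb hcb).symm)) (hodd pb)
  · exact Or.inr ⟨a, pa, ext _ (hAa.trans (rho_axis pa).symm) (hAb.trans (rho_perp pa hba).symm)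
      (hAc.trans (rho_perp pa hca).symm)⟩
  · exact absurd (ext _ (hAa.trans (qRefl_self _ _).symm) (hAb.trans (qRefl_perp h2 pa hba).symm)
      (hAc.trans (qRefl_perp h2 pa hca).symm)) (hodd pa)
  · exact Or.inr ⟨b, pb, ext _ (hAa.trans (rho_perp pb hab).symm) (hAb.trans (rho_axis pb).symm)
      (hAc.trans (rho_perp pb hcb).symm)⟩
  · exact Or.inr ⟨c, pc, ext _ (hAa.trans (rho_perp pc hac).symm) (hAb.trans (rho_perp pc hbc).symm)
      (hAc.trans (rho_axis pc).symm)⟩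
  · have h : A = negU F := ext _ hAa hAb hAc
    rw [h, par_negU] at hp
    exact absurd hp (by decide)

lemma rho_ne_one {c : U F} (hc : Qd F c ≠ 0) : rho hc ≠ 1 := fun h => by
  obtain ⟨p, hp, hpp⟩ := exists_proj h2 (c := c) hc
  have h1 := rho_perp hc hp
  rw [h] at h1
  have h1' : p = -p := h1
  have h2' : (2 : F) • p = 0 := by rw [two_smul]; nth_rewrite 1 [h1']; exact neg_add_cancel p
  exact hpp (by rw [(smul_eq_zero.1 h2').resolve_left h2, zero_dotProduct])

variable {V : Type u} [AddCommGroup V] [Module F V] [FiniteDimensional F V]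
variable {Q : QuadraticForm F V} {T : U F →ₗ[F] U F →ₗ[F] V} {k : F} (E : Tens Q T k)
include E
omit h2

/-- Even representatives. -/
lemma kr_even {A B : qAut (Qd F)} (h : E.kr (A, B) ∈ eichGroup Q) :
    ∃ A' B', E.kr (A, B) = E.kr (A', B') ∧ par E.two A' = 1 ∧ par E.two B' = 1 ∧ spin E.two A' = spin E.two B' := by
  obtain ⟨hp, hs⟩ := (E.kr_mem_iff A B).1 h
  have hz : ∀ z : Multiplicative (ZMod 2), z = 1 ∨ z = Multiplicative.ofAdd 1 := by decide
  rcases hz (par E.two A) with h1 | h1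
  · exact ⟨A, B, rfl, h1, hp ▸ h1, hs⟩
  · refine ⟨negU F * A, negU F * B, (E.kr_negU A B).symm, ?_, ?_, ?_⟩
    · rw [map_mul, par_negU, h1]; rfl
    · rw [map_mul, par_negU, ← hp, h1]; rfl
    · rw [map_mul, map_mul, hs]

/-- The forms of involutions in the tensor wreath group. -/
theorem inv_forms {x : qAut Q} (hx : x ∈ E.tw) (hΩ : x ∈ eichGroup Q) (hxx : x * x = 1) :
    (∃ A B, x = E.kr (A, B) ∧ par E.two A = 1 ∧ par E.two B = 1 ∧ spin E.two A = spin E.two B ∧ A * A = 1 ∧ B * B = 1) ∨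
      ∃ A B, x = E.swp * E.kr (A, B) ∧ A * B = negU F ∧ B * A = negU F := by
  obtain ⟨A, B, rfl | rfl⟩ := hx
  · obtain ⟨A', B', he, hA, hB, hs⟩ := kr_even E hΩ
    left
    refine ⟨A', B', he, hA, hB, hs, ?_⟩
    rw [he, ← map_mul, Prod.mk_mul_mk] at hxx
    exact E.kr_inj (B := B' * B') (B' := 1) (by rw [map_mul, hA, one_mul]) (map_one _)
      (hxx.trans (map_one E.kr).symm)
  · right
    refine ⟨A, B, rfl, ?_⟩
    obtain ⟨c, hc, hσ⟩ := E.exists_swap
    have hr : (qRefl (Qd F) hc)⁻¹ = qRefl (Qd F) hc := inv_eq_of_mul_eq_one_right (qRefl_mul_self _ _)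
    have h1 : E.kr (qRefl (Qd F) hc * A, B) ∈ eichGroup Q := by
      have h := (eichGroup Q).mul_mem ((eichGroup Q).inv_mem hσ) hΩ
      rw [mul_inv_rev, mul_assoc, inv_mul_cancel_left, ← map_inv, ← map_mul, Prod.inv_mk, Prod.mk_mul_mk, hr, inv_one,
        one_mul] at h
      exact h
    obtain ⟨hp, -⟩ := (E.kr_mem_iff _ _).1 h1
    rw [map_mul, par_refl] at hp
    have hsq : E.kr (B * A, A * B) = 1 := by
      rw [← hxx, ← mul_assoc, mul_assoc E.swp (E.kr (A, B)), ← E.swp_kr, mul_assoc E.swp, mul_assoc E.swp,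
        ← map_mul, Prod.mk_mul_mk]
      rw [← mul_assoc, E.swp_mul_self, one_mul]
    rcases E.kr_eq_one hsq with ⟨-, h⟩ | ⟨h1, h2'⟩
    · exfalso
      have h' := congrArg (par E.two) h
      rw [map_mul, map_one, ← hp] at h'
      generalize par E.two A = a at h'
      revert a h'
      decide
    · exact ⟨h2', h1⟩

end CfsgLib.Classical22.WrThree
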