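/-
Fusion of pure involutions; centralisers of involutions with square axes.
-/
import Cfsg.Agent.Lib.Classical22.OrthWreathThree.Invol

set_option autoImplicit false
set_option linter.all false
set_option maxHeartbeats 1000000

namespace CfsgLib.Classical22.WrThree

open CfsgLib.Classical

universe u

variable {F : Type u} [Field F] [Fintype F]

lemma tr3_inv (h2 : (2 : F) ≠ 0) {A : qAut (Qd F)} (hA : A * A = 1) (hp : par h2 A = 1) (hne : A ≠ 1) :
    tr3 A = -1 := by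
  obtain ⟨c, hc, rfl⟩ := (so_inv h2 hA hp).resolve_left hne
  exact tr3_rho h2 hc

omit [Fintype F] in
lemma dot_zero (h2 : (2 : F) ≠ 0) {a b c x : U F} (hab : a ⬝ᵥ b = 0) (hac : a ⬝ᵥ c = 0) (hbc : b ⬝ᵥ c = 0)
    (ha : a ⬝ᵥ a ≠ 0) (hb : b ⬝ᵥ b ≠ 0) (hc : c ⬝ᵥ c ≠ 0) (e1 : x ⬝ᵥ a = 0) (e2 : x ⬝ᵥ b = 0) (e3 : x ⬝ᵥ c = 0) :
    x = 0 := by
  have hli : LinearIndependent F ![a, b, c] := Fintype.linearIndependent_iff.2 fun g hg j => by
    simp only [Fin.sum_univ_three, Matrix.cons_val_zero, Matrix.cons_val_one, Matrix.cons_val_two,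
      Matrix.tail_cons, Matrix.head_cons] at hg
    have d1 := congrArg (fun z => z ⬝ᵥ a) hg
    have d2 := congrArg (fun z => z ⬝ᵥ b) hg
    have d3 := congrArg (fun z => z ⬝ᵥ c) hg
    simp [add_dotProduct, smul_dotProduct, hab, hac, hbc, dotProduct_comm b a, dotProduct_comm c a,
      dotProduct_comm c b, ha, hb, hc] at d1 d2 d3
    fin_cases j
    · exact d1
    · exact d2
    · exact d3
  funext i
  obtain ⟨g, hg⟩ := (Submodule.mem_span_range_iff_exists_fun F).1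
    ((hli.span_eq_top_of_card_eq_finrank (by simp)) ▸ Submodule.mem_top (x := (bv i : U F)))
  have h := congrArg (fun z => x ⬝ᵥ z) hg
  simp [Fin.sum_univ_three, dotProduct_add, dotProduct_smul, e1, e2, e3, dot_bv] at h
  exact h.symm

omit [Fintype F] in
lemma sq_root {c : U F} (hc : Qd F c ≠ 0) (hs : IsSquare (c ⬝ᵥ c)) :
    ∃ s : F, s ≠ 0 ∧ (s⁻¹ • c) ⬝ᵥ (s⁻¹ • c) = 1 := by
  obtain ⟨s, hs⟩ := hs
  have hs0 : s ≠ 0 := fun h => hc (by rw [Qd_apply, hs, h, mul_zero])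
  refine ⟨s, hs0, ?_⟩
  rw [smul_dotProduct, dotProduct_smul, hs, smul_eq_mul, smul_eq_mul]
  field_simp

variable {V : Type u} [AddCommGroup V] [Module F V] [FiniteDimensional F V]
variable {Q : QuadraticForm F V} {T : U F →ₗ[F] U F →ₗ[F] V} {k : F} (E : Tens Q T k)
include E

/-- The pure involution of the first slice. -/
noncomputable def Tens.tz : qAut Q := E.kr (rho (Qd_bv 0), 1)

lemma Tens.tz_sq : E.tz * E.tz = 1 := by
  rw [Tens.tz, ← map_mul, Prod.mk_mul_mk, rho_mul_self, mul_one]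
  exact map_one E.kr

lemma trace_tz : LinearMap.trace F V E.tz.1.toLinearMap = -3 := by
  rw [Tens.tz, E.trace_kr, tr3_rho E.two, tr3_one]
  norm_num

lemma four_ne : (1 : F) ≠ -3 := fun h => mul_ne_zero E.two E.two (by linear_combination h)

variable {M : Subgroup (qAut Q)} (H : Hyp E M)
include H

lemma tz_mem : E.tz ∈ M := krM E H (by rw [par_rho, map_one]) (by rw [spin_rho, bv_self, Spin.sqSign_one, map_one])

/-- A pure involution of square value is conjugate to the standard one. -/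
lemma pure_conj {c : U F} (hc : Qd F c ≠ 0) (hs : IsSquare (c ⬝ᵥ c)) :
    (∃ h ∈ M, h ∈ E.tw ∧ h * E.tz * h⁻¹ = E.kr (rho hc, 1)) ∧
      ∃ h ∈ M, h ∈ E.tw ∧ h * E.tz * h⁻¹ = E.kr (1, rho hc) := by
  have hl : ∀ {c : U F} (hc : Qd F c ≠ 0), IsSquare (c ⬝ᵥ c) →
      ∃ h ∈ M, h ∈ E.tw ∧ h * E.tz * h⁻¹ = E.kr (rho hc, 1) := by
    intro c hc hs
    obtain ⟨s, hs0, hs1⟩ := sq_root hc hs
    obtain ⟨A, -, hA⟩ := exists_move (F := F) E.two (z := 0) (c := bv 0) (d := s⁻¹ • c) (zero_dotProduct _)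
      (zero_dotProduct _) (by rw [hs1, bv_self]) (by rw [bv_self]; exact one_ne_zero)
    refine ⟨E.kr (A, A), krM E H rfl rfl, E.kr_tw A A, ?_⟩
    rw [Tens.tz, ← map_inv, ← map_mul, ← map_mul]
    refine congrArg E.kr (Prod.ext ?_ ?_)
    · show A * rho (Qd_bv 0) * A⁻¹ = rho hc
      have hsc : Qd F (s⁻¹ • c) ≠ 0 := by rw [Qd_apply, hs1]; exact one_ne_zero
      have hd : Qd F (A.1 (bv 0)) ≠ 0 := by rw [hA]; exact hsc
      rw [rho_conj A (Qd_bv 0) hd, rho_congr hA hd hsc, rho_smul E.two hc hsc]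
    · show A * 1 * A⁻¹ = 1
      rw [mul_one, mul_inv_cancel]
  refine ⟨hl hc hs, ?_⟩
  obtain ⟨σ, r, hσM, hσt, hr, hσ⟩ := exists_sigma E H
  have hd : Qd F (r.1 c) ≠ 0 := by rw [Qd_apply, dot_map E.two]; exact hc
  obtain ⟨h, hM, ht, he⟩ := hl hd (by rw [dot_map E.two]; exact hs)
  refine ⟨σ * h, M.mul_mem hσM hM, E.tw.mul_mem hσt ht, ?_⟩
  rw [show σ * h * E.tz * (σ * h)⁻¹ = σ * (h * E.tz * h⁻¹) * σ⁻¹ by group, he, hσ]
  congr 2
  have hr' : r⁻¹ = r := inv_eq_of_mul_eq_one_right hr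
  have hd' : Qd F (r.1 (r.1 c)) ≠ 0 := by rw [Qd_apply, dot_map E.two]; exact hd
  conv_lhs => arg 2; rw [← hr']
  rw [rho_conj r hd hd', rho_congr (show r.1 (r.1 c) = c by rw [← qAut_mul_apply, hr]; rfl) hd' hc]

/-- Centralisers of conjugates of the standard involution by elements of the tensor wreath group. -/
lemma cent_conj {x g h : qAut Q} (hM : h ∈ M) (ht : h ∈ E.tw) (hx : h * E.tz * h⁻¹ = x) (hg : g ∈ M)
    (hc : g * x = x * g) : g ∈ E.tw := by
  obtain ⟨g', hg'⟩ : ∃ g', g' = h⁻¹ * g * h := ⟨_, rfl⟩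
  have h1 : g' ∈ E.tw := by
    refine cent_t E H (hg' ▸ M.mul_mem (M.mul_mem (M.inv_mem hM) hg) hM) ?_
    show g' * E.tz = E.tz * g'
    rw [show E.tz = h⁻¹ * x * h by rw [← hx]; group, hg']
    calc h⁻¹ * g * h * (h⁻¹ * x * h) = h⁻¹ * (g * x) * h := by group
      _ = h⁻¹ * (x * g) * h := by rw [hc]
      _ = _ := by group
  rw [show g = h * g' * h⁻¹ by rw [hg']; group]
  exact E.tw.mul_mem (E.tw.mul_mem ht h1) (E.tw.inv_mem ht)

omit H in
lemma swap_comm {A B r : qAut (Qd F)} (hr : par E.two r = 1) (hr1 : r ≠ 1)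
    (h : E.swp * E.kr (A, B) * E.kr (r, 1) = E.kr (r, 1) * (E.swp * E.kr (A, B))) : False := by
  have h1 : E.kr (A * r, B) = E.kr (A, r * B) := by
    refine mul_left_cancel (a := E.swp) ?_
    rw [← mul_assoc (E.kr (r, 1)), show E.kr (r, 1) * E.swp = E.swp * E.kr (1, r) from (E.swp_kr 1 r).symm,
      mul_assoc, ← map_mul, mul_assoc, ← map_mul, Prod.mk_mul_mk, Prod.mk_mul_mk, mul_one, one_mul] at h
    exact h
  have h2 : E.kr (A * r * A⁻¹, B * (r * B)⁻¹) = 1 := by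
    rw [show (A * r * A⁻¹, B * (r * B)⁻¹) = (A * r, B) * (A, r * B)⁻¹ from rfl, map_mul, map_inv, h1, mul_inv_cancel]
  rcases E.kr_eq_one h2 with ⟨e, -⟩ | ⟨e, -⟩
  · rw [mul_inv_eq_one, mul_eq_left] at e; exact hr1 e
  · have h' := congrArg (par E.two) e
    rw [map_mul, map_mul, hr, mul_one, map_inv, mul_inv_cancel, par_negU] at h'
    exact absurd h' (by decide)

omit H in
lemma kr_comm {A B C D : qAut (Qd F)} (hA : par E.two A = 1) (hC : par E.two C = 1)
    (h : E.kr (A, B) * E.kr (C, D) = E.kr (C, D) * E.kr (A, B)) : A * C = C * A ∧ B * D = D * B := by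
  rw [← map_mul, ← map_mul, Prod.mk_mul_mk, Prod.mk_mul_mk] at h
  exact E.kr_inj (by rw [map_mul, hA, hC, one_mul]) (by rw [map_mul, hA, hC, one_mul]) h

/-- A conjugate of the pure involution inside the tensor wreath group comes from an element inside it. -/
theorem fusion {g : qAut Q} (hg : g ∈ M) (hx : g * E.tz * g⁻¹ ∈ E.tw) : g ∈ E.tw := by
  obtain ⟨x, hxdef⟩ : ∃ x, x = g * E.tz * g⁻¹ := ⟨_, rfl⟩
  rw [← hxdef] at hx
  have hxM : x ∈ M := hxdef ▸ M.mul_mem (M.mul_mem hg (tz_mem E H)) (M.inv_mem hg)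
  have hxx : x * x = 1 := by
    rw [hxdef, show g * E.tz * g⁻¹ * (g * E.tz * g⁻¹) = g * (E.tz * E.tz) * g⁻¹ by group, E.tz_sq, mul_one,
      mul_inv_cancel]
  have htr : LinearMap.trace F V x.1.toLinearMap = -3 := by rw [hxdef, trace_conj, trace_tz E]
  rcases inv_forms E hx (H.sub hxM) hxx with ⟨A, B, rfl, hA, hB, hs, hAA, hBB⟩ | ⟨A, B, rfl, hAB, hBA⟩
  · rw [E.trace_kr] at htr
    have hfin : ∀ h ∈ M, h ∈ E.tw → h * E.tz * h⁻¹ = g * E.tz * g⁻¹ → g ∈ E.tw := by
      intro h hM ht he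
      have h1 : (h⁻¹ * g) ∈ E.tw := cent_t E H (M.mul_mem (M.inv_mem hM) hg) (by
        show h⁻¹ * g * E.tz = E.tz * (h⁻¹ * g)
        calc h⁻¹ * g * E.tz = h⁻¹ * (g * E.tz * g⁻¹) * g := by group
          _ = h⁻¹ * (h * E.tz * h⁻¹) * g := by rw [he]
          _ = E.tz * (h⁻¹ * g) := by group)
      have := E.tw.mul_mem ht h1
      rwa [mul_inv_cancel_left] at this
    rcases so_inv E.two hAA hA with rfl | ⟨c, hc, rfl⟩ <;> rcases so_inv E.two hBB hB with rfl | ⟨d, hd, rfl⟩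
    · have hx1 : g * E.tz * g⁻¹ = 1 := hxdef.symm.trans (map_one E.kr)
      rw [mul_inv_eq_one, mul_eq_left] at hx1
      exact absurd hx1 fun h0 => by
        rw [Tens.tz] at h0
        exact rho_ne_one E.two _ ((E.kr_inj (par_rho E.two _) (map_one _) (h0.trans (map_one E.kr).symm)).1)
    · obtain ⟨h, hM, ht, he⟩ := (pure_conj E H hd ((spin_eq_one_iff E.two hd).1 (by rw [← hs, map_one]))).2
      exact hfin h hM ht (he.trans hxdef)
    · obtain ⟨h, hM, ht, he⟩ := (pure_conj E H hc ((spin_eq_one_iff E.two hc).1 (by rw [hs, map_one]))).1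
      exact hfin h hM ht (he.trans hxdef)
    · rw [tr3_rho E.two, tr3_rho E.two, neg_one_mul, neg_neg] at htr
      exact absurd htr (four_ne E)
  · -- the exchange type has too large a centraliser
    exfalso
    obtain ⟨p, hp⟩ := CharP.exists F
    haveI : Fact p.Prime := ⟨CharP.char_is_prime F p⟩
    haveI := finite_qAutU (F := F)
    obtain ⟨i, hi⟩ := p_odd (F := F) E.two (p := p)
    have hsigns : ∀ C : qAut (Qd F), C ^ p = 1 → par E.two C = 1 ∧ spin E.two C = 1 := fun C hC => by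
      have h1 : par E.two C ^ p = 1 := by rw [← map_pow, hC, map_one]
      have h2 : spin E.two C ^ p = 1 := by rw [← map_pow, hC, map_one]
      rw [hi, pow_succ, pow_mul] at h1 h2
      refine ⟨?_, by rwa [Int.units_sq, one_pow, one_mul] at h2⟩
      have hsq : ∀ z : Multiplicative (ZMod 2), z ^ 2 = 1 := by decide
      rwa [hsq, one_pow, one_mul] at h1
    -- the fixed vector
    obtain ⟨m, hm⟩ : ∃ m : V, m = T (bv 0) (A.1 (bv 0)) + T (bv 1) (A.1 (bv 1)) + T (bv 2) (A.1 (bv 2)) := ⟨_, rfl⟩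
    have hclm : ∀ C : qAut (Qd F), ∀ w, E.cl w ((E.kr (C, A * C * A⁻¹)).1 m) = A.1 w := fun C w => by
      rw [hm, map_add (E.kr (C, A * C * A⁻¹)).1, map_add (E.kr (C, A * C * A⁻¹)).1, E.kr_T, E.kr_T, E.kr_T, map_add,
        map_add, E.cl_T, E.cl_T, E.cl_T, qAut_mul_apply,
        qAut_mul_apply, qAut_mul_apply, qAut_mul_apply, qAut_mul_apply, qAut_mul_apply, qInv_apply_self,
        qInv_apply_self, qInv_apply_self]
      have hco : ∀ j, C.1 (bv j) ⬝ᵥ w = (C⁻¹).1 w j := fun j => by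
        conv_lhs => rw [← qApply_inv_self (Qd F) C w, dot_map E.two, dotProduct_comm, dot_bv]
      rw [hco, hco, hco]
      conv_rhs => rw [← qApply_inv_self (Qd F) C w, U_eq ((C⁻¹).1 w)]
      simp only [map_add, map_smul]
    have hmfix : ∀ C, (E.kr (C, A * C * A⁻¹)).1 m = m := fun C => by
      have h0 : ∀ w, E.cl w ((E.kr (C, A * C * A⁻¹)).1 m) = E.cl w m := fun w => by
        have h1 := hclm 1 w
        rw [mul_one, mul_inv_cancel, show ((1 : qAut (Qd F)), (1 : qAut (Qd F))) = 1 from rfl, map_one] at h1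
        rw [hclm C w]
        exact h1.symm
      rw [E.decomp0 ((E.kr (C, A * C * A⁻¹)).1 m), h0, h0, h0, ← E.decomp0]
    have hm0 : m ≠ 0 := fun h => by
      have h1 := hclm 1 (bv 0)
      rw [h, map_zero, map_zero, eq_comm, LinearEquiv.map_eq_zero_iff] at h1
      exact bv_ne 0 h1
    -- the map to the centraliser of the pure involution
    let P := {C : qAut (Qd F) // C ^ p = 1}
    have himg : ∀ C : P, ∃ B' : P, g⁻¹ * E.kr (C.1, A * C.1 * A⁻¹) * g = E.kr (1, B'.1) := by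
      rintro ⟨C, hC⟩
      obtain ⟨hpC, hsC⟩ := hsigns C hC
      obtain ⟨D, hD⟩ : ∃ D, D = A * C * A⁻¹ := ⟨_, rfl⟩
      rw [← hD]
      have hDp : D ^ p = 1 := by rw [hD, conj_pow, hC, mul_one, mul_inv_cancel]
      obtain ⟨hpD, hsD⟩ := hsigns D hDp
      have hkM : E.kr (C, D) ∈ M := krM E H (by rw [hpC, hpD]) (by rw [hsC, hsD])
      have hcx : (E.swp * E.kr (A, B)) * E.kr (C, D) = E.kr (C, D) * (E.swp * E.kr (A, B)) := by
        rw [← mul_assoc (E.kr (C, D)), show E.kr (C, D) * E.swp = E.swp * E.kr (D, C) from (E.swp_kr D C).symm,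
          mul_assoc E.swp, mul_assoc E.swp, ← map_mul, ← map_mul, Prod.mk_mul_mk, Prod.mk_mul_mk]
        congr 2
        refine Prod.ext (by rw [hD]; group) ?_
        show B * D = C * B
        rw [hD]
        calc B * (A * C * A⁻¹) = (B * A) * C * A⁻¹ := by group
          _ = C * (negU F * A⁻¹) := by rw [hBA, negU_comm, mul_assoc]
          _ = C * B := by rw [← hBA]; group
      obtain ⟨h, hhdef⟩ : ∃ h, h = g⁻¹ * E.kr (C, D) * g := ⟨_, rfl⟩
      have hhM : h ∈ M := hhdef ▸ M.mul_mem (M.mul_mem (M.inv_mem hg) hkM) hg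
      have hht : h * E.tz = E.tz * h := by
        rw [hhdef]
        calc g⁻¹ * E.kr (C, D) * g * E.tz = g⁻¹ * (E.kr (C, D) * (g * E.tz * g⁻¹)) * g := by group
          _ = g⁻¹ * ((g * E.tz * g⁻¹) * E.kr (C, D)) * g := by rw [← hxdef, hcx]
          _ = _ := by group
      have hhp : h ^ p = 1 := by
        rw [hhdef, show g⁻¹ * E.kr (C, D) * g = g⁻¹ * E.kr (C, D) * (g⁻¹)⁻¹ by rw [inv_inv], conj_pow, ← map_pow,
          Prod.pow_mk, hC, hDp, show ((1 : qAut (Qd F)), (1 : qAut (Qd F))) = 1 from rfl, map_one, mul_one,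
          mul_inv_cancel]
      obtain ⟨A', B', he, hA', hB', -⟩ : ∃ A' B', h = E.kr (A', B') ∧ par E.two A' = 1 ∧ par E.two B' = 1 ∧ True := by
        obtain ⟨A₁, B₁, h1 | h1⟩ := cent_t E H hhM hht
        · obtain ⟨A', B', he, h2, h3, -⟩ := kr_even E (h1 ▸ H.sub hhM)
          exact ⟨A', B', h1.trans he, h2, h3, trivial⟩
        · exfalso
          exact swap_comm E (par_rho E.two (Qd_bv 0)) (rho_ne_one E.two _) (h1 ▸ hht)
      rw [he, ← map_pow, Prod.pow_mk] at hhp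
      obtain ⟨hA'p, hB'p⟩ := E.kr_inj (A' := 1) (B' := 1) (by rw [map_pow, hA', one_pow]) (map_one _)
        (hhp.trans (map_one E.kr).symm)
      have hA'1 : A' = 1 := by
        obtain ⟨hc, -⟩ := kr_comm E hA' (par_rho E.two _) (he ▸ hht)
        have hfix : (rho (Qd_bv (F := F) 0)).1 (A'.1 (bv 0)) = A'.1 (bv 0) := by
          rw [← qAut_mul_apply, ← hc, qAut_mul_apply, rho_axis]
        rw [rho_formula E.two, bv_self, div_one, sub_eq_iff_eq_add, ← two_smul F (A'.1 (bv 0)), mul_smul] at hfix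
        obtain ⟨l, hl⟩ : ∃ l, l = A'.1 (bv 0) ⬝ᵥ bv 0 := ⟨_, rfl⟩
        have hl' : A'.1 (bv 0) = l • bv 0 := by
          rw [hl]
          exact (smul_right_injective (U F) E.two hfix).symm
        have hpow : ∀ n : ℕ, (A' ^ n).1 (bv 0) = l ^ n • bv 0 := fun n => by
          induction n with
          | zero => rw [pow_zero, pow_zero, one_smul]; rfl
          | succ n ih => rw [pow_succ, qAut_mul_apply, hl', map_smul, ih, smul_smul, pow_succ']
        have hll : l * l = 1 := by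
          have := dot_map E.two A' (bv 0) (bv 0)
          rw [hl', smul_dotProduct, dotProduct_smul, bv_self, smul_eq_mul, smul_eq_mul, mul_one] at this
          exact this
        have h1 := congrArg (fun z : U F => z ⬝ᵥ bv 0) (hpow p)
        rw [hA'p] at h1
        simp only [show (1 : qAut (Qd F)).1 (bv 0) = bv 0 from rfl, smul_dotProduct, bv_self, smul_eq_mul,
          mul_one] at h1
        rw [hi, pow_succ, pow_mul, sq, hll, one_pow, one_mul] at h1
        exact fix0_pow E.two (by rw [hl', ← h1, one_smul]) hA'p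
      exact ⟨⟨B', hB'p⟩, by rw [← hhdef, he, hA'1]⟩
    choose φ hφ using himg
    have hφi : Function.Injective φ := fun C C' h => by
      have h1 : g⁻¹ * E.kr (C.1, A * C.1 * A⁻¹) * g = g⁻¹ * E.kr (C'.1, A * C'.1 * A⁻¹) * g := by rw [hφ, hφ, h]
      exact Subtype.ext (E.kr_inj (hsigns _ C.2).1 (hsigns _ C'.2).1 (mul_left_cancel (mul_right_cancel h1))).1
    have hfix : ∀ B' : qAut (Qd F), B' ^ p = 1 → (E.kr (1, B')).1 ((g⁻¹).1 m) = (g⁻¹).1 m := fun B' hB' => by
      obtain ⟨C, hC⟩ := Finite.injective_iff_surjective.1 hφi ⟨B', hB'⟩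
      have h := hφ C
      rw [hC] at h
      rw [← h, qAut_mul_apply, qAut_mul_apply, qApply_inv_self, hmfix]
    obtain ⟨v, e, f, S⟩ := exists_frame (F := F) E.two
    obtain ⟨n, hn⟩ : ∃ n, n = (g⁻¹).1 m := ⟨_, rfl⟩
    have hn0 : n = 0 := by
      have hclB : ∀ (B' : qAut (Qd F)) (w : U F) (y : V), E.cl w ((E.kr (1, B')).1 y) = B'.1 (E.cl w y) :=
        fun B' w y => LinearMap.congr_fun (E.ext (L := (E.cl w).comp (E.kr (1, B')).1.toLinearMap)
          (L' := B'.1.toLinearMap.comp (E.cl w)) fun a b => by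
            simp only [LinearMap.comp_apply, LinearEquiv.coe_coe, E.kr_T, E.cl_T, map_smul]
            rfl) y
      have hu : ∀ {v e f : U F}, Fr v e f → ∀ w, (uD v e 1).1 (E.cl w n) = E.cl w n := fun {v e f} S w => by
        rw [← hclB, hn, hfix _ (by rw [uD_pow E.two S, CharP.cast_eq_zero, zero_mul, uD_zero E.two S])]
      rw [E.decomp0 n]
      have hz : ∀ w, E.cl w n = 0 := fun w => by
        obtain ⟨a, ha⟩ := uD_fix E.two S one_ne_zero (hu S w)
        obtain ⟨b, hb⟩ := uD_fix E.two S.swap one_ne_zero (hu S.swap w)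
        have h := congrArg (fun z => z ⬝ᵥ f) (ha.symm.trans hb)
        simp only [smul_dotProduct, S.vf, S.ff, smul_eq_mul, mul_one, mul_zero] at h
        rw [ha, h, zero_smul]
      rw [hz, hz, hz]
      simp
    exact hm0 ((g⁻¹).1.injective (by rw [map_zero, ← hn, hn0]))

/-- The forms of conjugates of the pure involution inside the tensor wreath group. -/
lemma conj_form {g : qAut Q} (hg : g ∈ M) (hx : g * E.tz * g⁻¹ ∈ E.tw) :
    ∃ h l, g * E.tz * g⁻¹ = E.kr (h, l) ∧ par E.two h = 1 ∧ par E.two l = 1 ∧ spin E.two h = 1 ∧ spin E.two l = 1 := by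
  have h0 : ∀ A : qAut (Qd F), par E.two (A * rho (Qd_bv 0) * A⁻¹) = 1 ∧ spin E.two (A * rho (Qd_bv 0) * A⁻¹) = 1 := by
    intro A
    refine ⟨?_, ?_⟩
    · rw [map_mul, map_mul, par_rho, map_inv, mul_one, mul_inv_cancel]
    · rw [map_mul, map_mul, spin_rho, bv_self, Spin.sqSign_one, map_inv, mul_one, mul_inv_cancel]
  obtain ⟨A, B, rfl | rfl⟩ := fusion E H hg hx
  · refine ⟨A * rho (Qd_bv 0) * A⁻¹, 1, ?_, (h0 A).1, map_one _, (h0 A).2, map_one _⟩
    rw [Tens.tz, ← map_inv, ← map_mul, ← map_mul]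
    congr 1
    refine Prod.ext rfl ?_
    show B * 1 * B⁻¹ = 1
    rw [mul_one, mul_inv_cancel]
  · refine ⟨1, A * rho (Qd_bv 0) * A⁻¹, ?_, map_one _, (h0 A).1, map_one _, (h0 A).2⟩
    rw [Tens.tz, mul_inv_rev, show (E.swp)⁻¹ = E.swp from inv_eq_of_mul_eq_one_right E.swp_mul_self, ← map_inv,
      mul_assoc E.swp, ← map_mul, mul_assoc E.swp, ← mul_assoc (E.kr _), ← map_mul, ← mul_assoc, E.swp_kr, mul_assoc,
      E.swp_mul_self, mul_one]
    congr 1
    refine Prod.ext ?_ rfl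
    show B * 1 * B⁻¹ = 1
    rw [mul_one, mul_inv_cancel]

/-- The centraliser of a pure involution in either factor. -/
lemma cent_pure {h l : qAut (Qd F)} (hh : par E.two h = 1) (hl : par E.two l = 1) (sh : spin E.two h = 1)
    (sl : spin E.two l = 1) (hh2 : h * h = 1) (hl2 : l * l = 1) (hone : (h = 1 ∧ l ≠ 1) ∨ (h ≠ 1 ∧ l = 1))
    {g : qAut Q} (hg : g ∈ M) (hc : g * E.kr (h, l) = E.kr (h, l) * g) : g ∈ E.tw := by
  rcases hone with ⟨rfl, hne⟩ | ⟨hne, rfl⟩
  · obtain ⟨d, hd, rfl⟩ := (so_inv E.two hl2 hl).resolve_left hne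
    obtain ⟨x, hxM, hxt, he⟩ := (pure_conj E H hd ((spin_eq_one_iff E.two hd).1 sl)).2
    exact cent_conj E H hxM hxt he hg hc
  · obtain ⟨c, hc', rfl⟩ := (so_inv E.two hh2 hh).resolve_left hne
    obtain ⟨x, hxM, hxt, he⟩ := (pure_conj E H hc' ((spin_eq_one_iff E.two hc').1 sh)).1
    exact cent_conj E H hxM hxt he hg hc

/-- The centraliser of the double involution with square axes. -/
theorem cent_u0 {g : qAut Q} (hg : g ∈ M)
    (hc : g * E.kr (rho (Qd_bv 0), rho (Qd_bv 0)) = E.kr (rho (Qd_bv 0), rho (Qd_bv 0)) * g) : g ∈ E.tw := by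
  classical
  haveI : Finite V := Module.finite_of_finite F
  haveI : Finite (V ≃ₗ[F] V) := Finite.of_injective _ DFunLike.coe_injective
  obtain ⟨r0, hr0⟩ : ∃ r : qAut (Qd F), r = rho (Qd_bv 0) := ⟨_, rfl⟩
  obtain ⟨r1, hr1⟩ : ∃ r : qAut (Qd F), r = rho (Qd_bv 1) := ⟨_, rfl⟩
  obtain ⟨r2, hr2⟩ : ∃ r : qAut (Qd F), r = rho (Qd_bv 2) := ⟨_, rfl⟩
  obtain ⟨u0, hu0⟩ : ∃ u, u = E.kr (r0, r0) := ⟨_, rfl⟩
  rw [← hr0, ← hu0] at hc
  have hb : ∀ {i j : Fin 3}, j ≠ i → (rho (Qd_bv (F := F) i)).1 (bv j) = -bv j := fun h => rho_bv E h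
  have h012 : r0 * r1 = r2 ∧ r1 * r0 = r2 ∧ r1 * r2 = r0 ∧ r2 * r1 = r0 ∧ r0 * r2 = r2 * r0 := by
    refine ⟨?_, ?_, ?_, ?_, ?_⟩ <;> refine ext_bv fun i => ?_ <;> fin_cases i <;>
      simp (config := { decide := true }) [hr0, hr1, hr2, qAut_mul_apply, rho_axis, hb, map_neg]
  have sp : ∀ i, spin E.two (rho (Qd_bv (F := F) i)) = 1 := fun i => by rw [spin_rho, bv_self, Spin.sqSign_one]
  obtain ⟨ub, hub⟩ : ∃ u, u = E.kr (r1, 1) := ⟨_, rfl⟩
  obtain ⟨ud, hud⟩ : ∃ u, u = E.kr (r2, 1) := ⟨_, rfl⟩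
  have hubM : ub ∈ M := hub ▸ krM E H (by rw [hr1, par_rho, map_one]) (by rw [hr1, sp, map_one])
  have hudM : ud ∈ M := hud ▸ krM E H (by rw [hr2, par_rho, map_one]) (by rw [hr2, sp, map_one])
  have hub2 : ub * ub = 1 := by
    rw [hub, hr1, ← map_mul, Prod.mk_mul_mk, rho_mul_self, mul_one]; exact map_one E.kr
  have hud2 : ud * ud = 1 := by
    rw [hud, hr2, ← map_mul, Prod.mk_mul_mk, rho_mul_self, mul_one]; exact map_one E.kr
  have hubu : ub * u0 = u0 * ub := by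
    rw [hub, hu0, ← map_mul, ← map_mul, Prod.mk_mul_mk, Prod.mk_mul_mk, one_mul, mul_one, h012.1, h012.2.1]
  have hudu : ud * u0 = u0 * ud := by
    rw [hud, hu0, ← map_mul, ← map_mul, Prod.mk_mul_mk, Prod.mk_mul_mk, one_mul, mul_one, h012.2.2.2.2]
  have htzu : E.tz * u0 = u0 * E.tz := by
    rw [Tens.tz, hu0, hr0, ← map_mul, ← map_mul, Prod.mk_mul_mk, Prod.mk_mul_mk, one_mul, mul_one]
  have hu00 : u0 * u0 = 1 := by
    rw [hu0, hr0, ← map_mul, Prod.mk_mul_mk, rho_mul_self]; exact map_one E.kr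
  obtain ⟨X, hXdef⟩ : ∃ X, X = g * E.tz * g⁻¹ := ⟨_, rfl⟩
  suffices hXt : X ∈ E.tw from fusion E H hg (hXdef ▸ hXt)
  have hXM : X ∈ M := hXdef ▸ M.mul_mem (M.mul_mem hg (tz_mem E H)) (M.inv_mem hg)
  have hXX : X * X = 1 := by
    rw [hXdef, show g * E.tz * g⁻¹ * (g * E.tz * g⁻¹) = g * (E.tz * E.tz) * g⁻¹ by group, E.tz_sq, mul_one,
      mul_inv_cancel]
  have hcg : Commute g u0 := hc
  have hXu : X * u0 = u0 * X := hXdef ▸ ((hcg.mul_left htzu).mul_left hcg.inv_left).eq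
  -- the two are not conjugate in the centraliser
  obtain ⟨s₀, hs₀⟩ : ∃ s : Fin 3 → Fin 3 → ℤˣ,
      s = fun i j => (if i = 0 then 1 else -1) * (if j = 0 then 1 else -1) := ⟨_, rfl⟩
  have horth : ∀ i j : Fin 3, i ≠ j → (bv i : U F) ⬝ᵥ bv j = 0 := fun i j h => by rw [bv_dot, if_neg h]
  have hone : ∀ i, (bv i : U F) ⬝ᵥ bv i ≠ 0 := fun i => by rw [bv_self]; exact one_ne_zero
  have hrho : ∀ a j : Fin 3, (rho (Qd_bv (F := F) a)).1 (bv j) = (((if j = a then 1 else -1 : ℤˣ) : ℤ) : F) • bv j := by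
    intro a j
    by_cases h : j = a
    · subst h; rw [if_pos rfl, rho_axis]; simp
    · rw [if_neg h, hb h]; simp
  have hz0 : ∀ i j, u0.1 (T (bv i) (bv j)) = ((s₀ i j : ℤ) : F) • T (bv i) (bv j) := fun i j => by
    rw [hu0, hr0, E.kr_T, hrho, hrho, map_smul, map_smul, LinearMap.smul_apply, smul_smul, hs₀]
    push_cast
    rw [mul_comm]
  have hdet : ∀ a : Fin 3, LinearMap.det (onMinus u0 (E.kr (rho (Qd_bv a), 1))) =
      (((∏ p : Fin 3 × Fin 3, if s₀ p.1 p.2 = -1 then (if p.1 = a then 1 else -1) else 1 : ℤˣ) : ℤ) : F) := fun a =>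
    E.det_minus horth hone horth hone (t := fun i j => if i = a then 1 else -1) hz0 fun i j => by
      rw [E.kr_T, hrho, map_smul, LinearMap.smul_apply]; rfl
  have hd0 : LinearMap.det (onMinus u0 E.tz) = 1 := by
    rw [Tens.tz, hdet 0, hs₀]
    have e : (∏ p : Fin 3 × Fin 3, if ((if p.1 = 0 then 1 else -1) * (if p.2 = 0 then 1 else -1) : ℤˣ) = -1 then
        (if p.1 = (0 : Fin 3) then 1 else -1) else 1 : ℤˣ) = 1 := by decide
    rw [e]; simp
  have hd1 : LinearMap.det (onMinus u0 ub) = -1 := by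
    rw [hub, hr1, hdet 1, hs₀]
    have e : (∏ p : Fin 3 × Fin 3, if ((if p.1 = 0 then 1 else -1) * (if p.2 = 0 then 1 else -1) : ℤˣ) = -1 then
        (if p.1 = (1 : Fin 3) then 1 else -1) else 1 : ℤˣ) = -1 := by decide
    rw [e]; simp
  have hconj : ∀ a x, a * u0 = u0 * a → x * u0 = u0 * x →
      LinearMap.det (onMinus u0 (a * x * a⁻¹)) = LinearMap.det (onMinus u0 x) := by
    intro a x ha hx
    have ha' : a⁻¹ * u0 = u0 * a⁻¹ := (Commute.inv_left (show Commute a u0 from ha)).eq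
    have hax : a * x * u0 = u0 * (a * x) := ((show Commute a u0 from ha).mul_left hx).eq
    rw [E.onMinus_mul hu00 hax ha', E.onMinus_mul hu00 ha hx, LinearMap.det_comp, LinearMap.det_comp]
    have h1 : LinearMap.det (onMinus u0 a) * LinearMap.det (onMinus u0 a⁻¹) = 1 := by
      rw [← LinearMap.det_comp, ← E.onMinus_mul hu00 ha ha', mul_inv_cancel]
      have e : onMinus u0 (1 : qAut Q) = LinearMap.id := LinearMap.ext fun x => by
        rw [onMinus_apply, LinearMap.id_apply]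
        show (2⁻¹ : F) • (x - u0.1 x + (x + u0.1 x)) = x
        rw [show x - u0.1 x + (x + u0.1 x) = (2 : F) • x by rw [two_smul]; abel, smul_smul, inv_mul_cancel₀ E.two,
          one_smul]
      rw [e, LinearMap.det_id]
    linear_combination LinearMap.det (onMinus u0 x) * h1
  have hrc : ∀ a ∈ Subgroup.zpowers (ub * X), a * u0 = u0 * a := by
    intro a ha
    obtain ⟨m, rfl⟩ := Subgroup.mem_zpowers_iff.1 ha
    exact (((show Commute ub u0 from hubu).mul_left hXu).zpow_left m).eq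
  have hne : ∀ a ∈ Subgroup.zpowers (ub * X), a * ub * a⁻¹ ≠ X := fun a ha h => by
    have h1 := hconj a ub (hrc a ha) hubu
    rw [h, hd1, hXdef, hconj g E.tz hc htzu, hd0] at h1
    exact E.two (by linear_combination h1)
  obtain ⟨m, z, hz, hz1, hzz, hzb, hzX, hcase⟩ := dihedral hub2 hXX hne
  have hzM : z ∈ M := hz ▸ M.pow_mem (M.mul_mem hubM hXM) m
  have hzu : z * u0 = u0 * z := hz ▸ (((show Commute ub u0 from hubu).mul_left hXu).pow_left m).eq
  have hzt : z ∈ E.tw := by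
    rw [hub, hr1] at hzb
    exact cent_pure E H (par_rho E.two _) (map_one _) (sp 1) (map_one _) (rho_mul_self _) (mul_one 1)
      (Or.inr ⟨rho_ne_one E.two _, rfl⟩) hzM hzb
  -- products of the first kind stay pure
  have htrace : LinearMap.trace F V (ub * z).1.toLinearMap = -3 := by
    have ht1 : LinearMap.trace F V ub.1.toLinearMap = -3 := by
      rw [hub, hr1, E.trace_kr, tr3_rho E.two, tr3_one]; norm_num
    have ht2 : LinearMap.trace F V X.1.toLinearMap = -3 := by rw [hXdef, trace_conj, trace_tz E]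
    rcases hcase with ⟨-, ⟨a, -, ha⟩, -⟩ | ⟨-, ⟨a, -, ha⟩, -⟩
    · rw [← ha, trace_conj, ht1]
    · rw [← ha, trace_conj, ht2]
  rcases inv_forms E hzt (H.sub hzM) hzz with ⟨h, l, rfl, ph, pl, shl, hh, hl⟩ | ⟨A, B, rfl, -, -⟩
  swap
  · exact absurd (swap_comm E (r := r1) (hr1 ▸ par_rho E.two _) (hr1 ▸ rho_ne_one E.two _) (hub ▸ hzb)) id
  have p0 : par E.two r0 = 1 := hr0 ▸ par_rho E.two _
  have p1 : par E.two r1 = 1 := hr1 ▸ par_rho E.two _
  have s0 : spin E.two r0 = 1 := hr0 ▸ sp 0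
  obtain ⟨ch1, -⟩ := kr_comm E ph p1 (hub ▸ hzb)
  obtain ⟨ch0, cl0⟩ := kr_comm E ph p0 (hu0 ▸ hzu)
  by_cases hh1 : h = 1
  · subst hh1
    have hl1 : l ≠ 1 := fun h' => hz1 (by rw [h']; exact map_one E.kr)
    exact cent_pure E H ph pl (map_one _) (by rw [← shl, map_one]) hh hl (Or.inl ⟨rfl, hl1⟩) hXM hzX.symm
  by_cases hl1 : l = 1
  · subst hl1
    exact cent_pure E H ph pl (by rw [shl, map_one]) (map_one _) hh hl (Or.inr ⟨hh1, rfl⟩) hXM hzX.symm
  obtain ⟨c, hc', hhc⟩ := (so_inv E.two hh ph).resolve_left hh1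
  obtain ⟨d, hd', hld⟩ := (so_inv E.two hl pl).resolve_left hl1
  have hprod : E.kr (h, l) * u0 = E.kr (h * r0, l * r0) := by rw [hu0, ← map_mul, Prod.mk_mul_mk]
  have hXz0 : X * (E.kr (h, l) * u0) = E.kr (h, l) * u0 * X :=
    ((show Commute X _ from hzX.symm).mul_right hXu).eq
  rw [hprod] at hXz0
  have hr00 : r0 * r0 = 1 := hr0 ▸ rho_mul_self _
  have inv_prod : ∀ {a : qAut (Qd F)}, a * a = 1 → a * r0 = r0 * a → a * r0 * (a * r0) = 1 := fun {a} ha hcm => by
    calc a * r0 * (a * r0) = a * (r0 * a) * r0 := by group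
      _ = a * a * (r0 * r0) := by rw [← hcm]; group
      _ = 1 := by rw [ha, hr00, one_mul]
  have hbad : r1 * h ≠ 1 → False := fun hne' => four_ne E (by
    rw [← htrace, hub, ← map_mul, Prod.mk_mul_mk, one_mul, E.trace_kr, tr3_inv E.two ?_ ?_ hne',
      tr3_inv E.two hl pl hl1]
    · norm_num
    · calc r1 * h * (r1 * h) = r1 * (h * r1) * h := by group
        _ = (r1 * r1) * (h * h) := by rw [ch1]; group
        _ = 1 := by rw [hr1, rho_mul_self, hh, one_mul]
    · rw [map_mul, p1, ph, one_mul])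
  by_cases hl0 : l = r0
  · by_cases hh0 : h = r0
    · exfalso
      refine hbad fun h' => ?_
      rw [hh0, h012.2.1, hr2] at h'
      exact rho_ne_one E.two _ h'
    · refine cent_pure E H ?_ ?_ ?_ ?_ (inv_prod hh ch0) (inv_prod hl cl0)
        (Or.inr ⟨fun h' => hh0 ?_, by rw [hl0, hr00]⟩) hXM hXz0
      · rw [map_mul, ph, p0, one_mul]
      · rw [map_mul, pl, p0, one_mul]
      · rw [map_mul, shl, hl0, s0, one_mul]
      · rw [map_mul, hl0, s0, one_mul]
      · rw [mul_eq_one_iff_eq_inv.1 h', inv_eq_of_mul_eq_one_right hr00]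
  by_cases hh0 : h = r0
  · refine cent_pure E H ?_ ?_ ?_ ?_ (inv_prod hh ch0) (inv_prod hl cl0)
      (Or.inl ⟨by rw [hh0, hr00], fun h' => hl0 ?_⟩) hXM hXz0
    · rw [map_mul, ph, p0, one_mul]
    · rw [map_mul, pl, p0, one_mul]
    · rw [map_mul, hh0, s0, one_mul]
    · rw [map_mul, ← shl, hh0, s0, one_mul]
    · rw [mul_eq_one_iff_eq_inv.1 h', inv_eq_of_mul_eq_one_right hr00]
  have hd0' : d ⬝ᵥ bv 0 = 0 := by
    rcases rho_comm E.two hd' (Qd_bv 0) (by rw [← hld, ← hr0]; exact cl0) with h' | h'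
    · exact absurd (hld.trans (h'.trans hr0.symm)) hl0
    · exact h'
  have hh1' : h = r1 := by
    by_contra hne'
    refine hbad fun h' => hne' ?_
    rw [mul_eq_one_iff_eq_inv.1 h', inv_eq_of_mul_eq_one_right hh]
  -- operator identities on the minus space
  have hP : ∀ b : U F, b + r0.1 b + l.1 b + r0.1 (l.1 b) = 0 := fun b => by
    have h1 : b + l.1 b = (2 * (b ⬝ᵥ d) / (d ⬝ᵥ d)) • d := by rw [hld, rho_formula E.two hd', add_sub_cancel]
    rw [show b + r0.1 b + l.1 b + r0.1 (l.1 b) = (b + l.1 b) + r0.1 (b + l.1 b) by rw [map_add]; abel, h1, map_smul,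
      hr0, rho_perp _ hd0', smul_neg, add_neg_cancel]
  obtain ⟨w, hw⟩ : ∃ w, w = E.kr (r1, l) := ⟨_, rfl⟩
  rw [hh1', ← hw] at hzX hzu hzb
  have hb0 : ∀ {i : Fin 3}, i ≠ 0 → r0.1 (bv i) = -bv i := fun h => hr0 ▸ hb h
  have hb1 : ∀ {i : Fin 3}, i ≠ 1 → r1.1 (bv i) = -bv i := fun h => hr1 ▸ hb h
  have hb2 : ∀ {i : Fin 3}, i ≠ 2 → r2.1 (bv i) = -bv i := fun h => hr2 ▸ hb h
  have a0 : r0.1 (bv 0) = bv 0 := hr0 ▸ rho_axis _
  have a1 : r1.1 (bv 1) = bv 1 := hr1 ▸ rho_axis _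
  have a2 : r2.1 (bv 2) = bv 2 := hr2 ▸ rho_axis _
  have hidd : ∀ x, u0.1 x = -x → w.1 x = -x → ud.1 x = -x := by
    have hL : ∀ i b, T (bv i) b - u0.1 (T (bv i) b) - w.1 (T (bv i) b) + u0.1 (w.1 (T (bv i) b)) +
        ud.1 (T (bv i) b - u0.1 (T (bv i) b) - w.1 (T (bv i) b) + u0.1 (w.1 (T (bv i) b))) = 0 := by
      intro i b
      have e := congrArg (T (bv i)) (hP b)
      rw [map_add, map_add, map_add, map_zero] at e
      fin_cases i <;>
        simp (config := { decide := true }) [hu0, hw, hud, E.kr_T, map_add, map_sub, map_neg, a0, a1, a2, hb0, hb1,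
          hb2] at e ⊢
      all_goals first
        | (exact (congrArg₂ (· + ·) e e).trans (add_zero 0))
        | abel
    intro x hx0 hxw
    obtain ⟨L, hLdef⟩ : ∃ L : V →ₗ[F] V, ∀ x, L x =
        x - u0.1 x - w.1 x + u0.1 (w.1 x) + ud.1 (x - u0.1 x - w.1 x + u0.1 (w.1 x)) :=
      ⟨(LinearMap.id + ud.1.toLinearMap) ∘ₗ (LinearMap.id - u0.1.toLinearMap - w.1.toLinearMap +
        u0.1.toLinearMap ∘ₗ w.1.toLinearMap), fun x => rfl⟩
    have hL0 : L = 0 := E.basis.ext fun p => by rw [E.basis_apply, hLdef, LinearMap.zero_apply]; exact hL p.1 _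
    have h := LinearMap.congr_fun hL0 x
    rw [hLdef, LinearMap.zero_apply, hxw, map_neg, hx0, neg_neg, sub_neg_eq_add, sub_neg_eq_add] at h
    have h4 : ((2 : F) * 2) • (x + ud.1 x) = 0 := by
      rw [map_add, map_add, map_add] at h
      linear_combination (norm := module) h
    exact eq_neg_of_add_eq_zero_right ((smul_eq_zero.1 h4).resolve_left (mul_ne_zero E.two E.two))
  have hidb : ∀ x, u0.1 x = -x → w.1 x = x → ub.1 x = -x := by
    have hL : ∀ i b, T (bv i) b - u0.1 (T (bv i) b) + w.1 (T (bv i) b) - u0.1 (w.1 (T (bv i) b)) +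
        ub.1 (T (bv i) b - u0.1 (T (bv i) b) + w.1 (T (bv i) b) - u0.1 (w.1 (T (bv i) b))) = 0 := by
      intro i b
      have e := congrArg (T (bv i)) (hP b)
      rw [map_add, map_add, map_add, map_zero] at e
      fin_cases i <;>
        simp (config := { decide := true }) [hu0, hw, hub, E.kr_T, map_add, map_sub, map_neg, a0, a1, a2, hb0, hb1,
          hb2] at e ⊢
      all_goals first
        | (exact (congrArg₂ (· + ·) e e).trans (add_zero 0))
        | abel
    intro x hx0 hxw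
    obtain ⟨L, hLdef⟩ : ∃ L : V →ₗ[F] V, ∀ x, L x =
        x - u0.1 x + w.1 x - u0.1 (w.1 x) + ub.1 (x - u0.1 x + w.1 x - u0.1 (w.1 x)) :=
      ⟨(LinearMap.id + ub.1.toLinearMap) ∘ₗ (LinearMap.id - u0.1.toLinearMap + w.1.toLinearMap -
        u0.1.toLinearMap ∘ₗ w.1.toLinearMap), fun x => rfl⟩
    have hL0 : L = 0 := E.basis.ext fun p => by rw [E.basis_apply, hLdef, LinearMap.zero_apply]; exact hL p.1 _
    have h := LinearMap.congr_fun hL0 x
    rw [hLdef, LinearMap.zero_apply, hxw, hx0, sub_neg_eq_add, sub_neg_eq_add] at h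
    have h4 : ((2 : F) * 2) • (x + ub.1 x) = 0 := by
      rw [map_add, map_add, map_add] at h
      linear_combination (norm := module) h
    exact eq_neg_of_add_eq_zero_right ((smul_eq_zero.1 h4).resolve_left (mul_ne_zero E.two E.two))
  -- the elements trivial on the minus space
  obtain ⟨K, hK⟩ : ∃ K : Subgroup (qAut Q),
      ∀ a, a ∈ K ↔ a ∈ M ∧ a * u0 = u0 * a ∧ ∀ x, u0.1 x = -x → a.1 x = x := by
    refine ⟨{ carrier := {a | a ∈ M ∧ a * u0 = u0 * a ∧ ∀ x, u0.1 x = -x → a.1 x = x}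
              mul_mem' := ?_, one_mem' := ?_, inv_mem' := ?_ }, fun a => Iff.rfl⟩
    · rintro a b ⟨haM, hau, ha⟩ ⟨hbM, hbu, hb'⟩
      exact ⟨M.mul_mem haM hbM, ((show Commute a u0 from hau).mul_left hbu).eq,
        fun x hx => by rw [qAut_mul_apply, hb' x hx, ha x hx]⟩
    · exact ⟨M.one_mem, by rw [one_mul, mul_one], fun x _ => rfl⟩
    · rintro a ⟨haM, hau, ha⟩
      exact ⟨M.inv_mem haM, (Commute.inv_left (show Commute a u0 from hau)).eq,
        fun x hx => a.1.injective (by rw [qApply_inv_self, ha x hx])⟩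
  have hcrit : ∀ a ∈ K, ∀ i : Fin 3, a * E.kr (rho (Qd_bv i), 1) = E.kr (rho (Qd_bv i), 1) * a → a = 1 := by
    intro a ha i hcm
    obtain ⟨haM, -, hax⟩ := (hK a).1 ha
    have hat : a ∈ E.tw := cent_pure E H (par_rho E.two _) (map_one _) (sp i) (map_one _) (rho_mul_self _) (mul_one 1)
      (Or.inr ⟨rho_ne_one E.two _, rfl⟩) haM hcm
    obtain ⟨A, B, rfl | rfl⟩ := hat
    swap
    · exact absurd (swap_comm E (par_rho E.two _) (rho_ne_one E.two (Qd_bv i)) hcm) id
    obtain ⟨h', l', he, ph', pl', -⟩ := kr_even E (H.sub haM)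
    rw [he] at hax ⊢
    have hfix : ∀ p : Fin 3, p ≠ 0 → T (h'.1 (bv 0)) (l'.1 (bv p)) = T (bv 0) (bv p) ∧
        T (h'.1 (bv p)) (l'.1 (bv 0)) = T (bv p) (bv 0) := fun p hp => by
      constructor <;> rw [← E.kr_T] <;> refine hax _ ?_ <;>
        rw [hu0, E.kr_T, a0, hb0 hp, map_neg] <;> rfl
    have hline : ∀ (A B : qAut (Qd F)), (∀ p : Fin 3, p ≠ 0 → T (A.1 (bv 0)) (B.1 (bv p)) = T (bv 0) (bv p)) →
        ∃ s : F, (s = 1 ∨ s = -1) ∧ A.1 (bv 0) = s • bv 0 ∧ ∀ p : Fin 3, p ≠ 0 → B.1 (bv p) = s • bv p := by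
      intro A B hAB
      have h1 : ∀ q p : Fin 3, p ≠ 0 → A.1 (bv 0) q • B.1 (bv p) = (if (0 : Fin 3) = q then (1 : F) else 0) • bv p :=
        fun q p hp => by
          have := congrArg (E.cl (bv q)) (hAB p hp)
          rwa [E.cl_T, E.cl_T, dot_bv, bv_dot] at this
      have hoff : ∀ q : Fin 3, q ≠ 0 → A.1 (bv 0) q = 0 := fun q hq => by
        have := h1 q 1 (by decide)
        rw [if_neg (Ne.symm hq), zero_smul, smul_eq_zero, LinearEquiv.map_eq_zero_iff] at this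
        exact this.resolve_right (bv_ne 1)
      obtain ⟨s, hs⟩ : ∃ s, s = A.1 (bv 0) 0 := ⟨_, rfl⟩
      have hA0 : A.1 (bv 0) = s • bv 0 := by
        conv_lhs => rw [U_eq (A.1 (bv 0)), hoff 1 (by decide), hoff 2 (by decide)]
        rw [hs]; simp
      have hss : s * s = 1 := by
        have := dot_map E.two A (bv 0) (bv 0)
        rw [hA0, smul_dotProduct, dotProduct_smul, bv_self, smul_eq_mul, smul_eq_mul, mul_one] at this
        exact this
      refine ⟨s, mul_self_eq_one_iff.1 hss, hA0, fun p hp => ?_⟩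
      have := h1 0 p hp
      rw [← hs, if_pos rfl, one_smul] at this
      rw [← congrArg (fun z => s • z) this, smul_smul, hss, one_smul]
    obtain ⟨s, hs, hh0', hlp⟩ := hline h' l' fun p hp => (hfix p hp).1
    obtain ⟨t, ht, hl0', hhp⟩ := hline l' h' fun p hp => by
      have h1 := congrArg E.swp.1 (hfix p hp).2
      rwa [E.swp_T, E.swp_T] at h1
    have hq : (qRefl (Qd F) (Qd_bv 0)).1 (bv 0) = -bv 0 := qRefl_self _ _
    have hq' : ∀ p : Fin 3, p ≠ 0 → (qRefl (Qd F) (Qd_bv 0)).1 (bv p) = bv p := fun p hp =>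
      qRefl_perp E.two _ (horth p 0 hp)
    rcases hs with rfl | rfl <;> rcases ht with rfl | rfl <;> simp only [one_smul, neg_one_smul] at hh0' hlp hl0' hhp
    · have e1 : h' = 1 := ext_bv fun p => by
        by_cases hp : p = 0
        · subst hp; exact hh0'
        · exact hhp p hp
      have e2 : l' = 1 := ext_bv fun p => by
        by_cases hp : p = 0
        · subst hp; exact hl0'
        · exact hlp p hp
      rw [e1, e2]; exact map_one E.kr
    · have e1 : l' = qRefl (Qd F) (Qd_bv 0) := ext_bv fun p => by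
        by_cases hp : p = 0
        · subst hp; rw [hl0', hq]
        · rw [hlp p hp, hq' p hp]
      rw [e1, par_refl] at pl'
      exact absurd pl' (by decide)
    · have e1 : h' = qRefl (Qd F) (Qd_bv 0) := ext_bv fun p => by
        by_cases hp : p = 0
        · subst hp; rw [hh0', hq]
        · rw [hhp p hp, hq' p hp]
      rw [e1, par_refl] at ph'
      exact absurd ph' (by decide)
    · have e1 : h' = negU F := ext_bv fun p => by
        by_cases hp : p = 0
        · subst hp; rw [hh0', negU_apply]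
        · rw [hhp p hp, negU_apply]
      rw [e1, par_negU] at ph'
      exact absurd ph' (by decide)
  have hnorm : ∀ v, v ∈ M → v * v = 1 → v * u0 = u0 * v → v ∈ Subgroup.normalizer (K : Set (qAut Q)) := by
    intro v hv hvv hvu
    have key : ∀ a ∈ K, v * a * v⁻¹ ∈ K := by
      intro a ha
      obtain ⟨haM, hau, hax⟩ := (hK a).1 ha
      have hvi : Commute v⁻¹ u0 := Commute.inv_left hvu
      refine (hK _).2 ⟨M.mul_mem (M.mul_mem hv haM) (M.inv_mem hv),
        (((show Commute v u0 from hvu).mul_left hau).mul_left hvi).eq, fun x hx => ?_⟩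
      have hx' : u0.1 ((v⁻¹).1 x) = -((v⁻¹).1 x) := by
        rw [← qAut_mul_apply, ← hvi.eq, qAut_mul_apply, hx, map_neg]
      rw [qAut_mul_apply, qAut_mul_apply, hax _ hx', qApply_inv_self]
    refine Subgroup.mem_normalizer_iff.2 fun a => ⟨key a, fun ha => ?_⟩
    have h' := key _ ha
    rwa [inv_eq_of_mul_eq_one_right hvv, show v * (v * a * v) * v = (v * v) * a * (v * v) by group, hvv, one_mul,
      mul_one] at h'
  have hK1 : ∀ a ∈ K, a = 1 := by
    intro a ha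
    obtain ⟨hib, -⟩ := inverted hub2 (hnorm ub hubM hub2 hubu) fun x hx hcm =>
      hcrit x hx 1 (by rw [hub, hr1] at hcm; exact hcm.symm)
    obtain ⟨hid, -⟩ := inverted hud2 (hnorm ud hudM hud2 hudu) fun x hx hcm =>
      hcrit x hx 2 (by rw [hud, hr2] at hcm; exact hcm.symm)
    refine hcrit a ha 0 ?_
    have h1 := hid a ha
    have h2 := hib a⁻¹ (K.inv_mem ha)
    rw [inv_inv] at h2
    have ht : ub * ud = E.kr (rho (Qd_bv 0), 1) := by
      rw [hub, hud, ← map_mul, Prod.mk_mul_mk, mul_one, h012.2.2.1, hr0]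
    rw [← ht]
    calc a * (ub * ud) = (ub * a⁻¹ * ub⁻¹) * (ub * ud) := by rw [h2]
      _ = ub * a⁻¹ * ud := by group
      _ = ub * (ud * a * ud⁻¹) * ud := by rw [h1]
      _ = ub * ud * a := by group
  -- the conjugate commutes with the other pure involution
  obtain ⟨a, ha⟩ : ∃ a, a = X * ub * X := ⟨_, rfl⟩
  have hau : a * u0 = u0 * a := ha ▸ (((show Commute X u0 from hXu).mul_left hubu).mul_left hXu).eq
  have haM : a ∈ M := ha ▸ M.mul_mem (M.mul_mem hXM hubM) hXM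
  have hwX : ∀ x, w.1 (X.1 x) = X.1 (w.1 x) := fun x => by rw [← qAut_mul_apply, hzX, qAut_mul_apply]
  have hwb : ∀ x, w.1 (ub.1 x) = ub.1 (w.1 x) := fun x => by rw [← qAut_mul_apply, hzb, qAut_mul_apply]
  have hu0X : ∀ x, u0.1 (X.1 x) = X.1 (u0.1 x) := fun x => by rw [← qAut_mul_apply, ← hXu, qAut_mul_apply]
  have hu0a : ∀ x, u0.1 (a.1 x) = a.1 (u0.1 x) := fun x => by rw [← qAut_mul_apply, ← hau, qAut_mul_apply]
  have hu0d : ∀ x, u0.1 (ud.1 x) = ud.1 (u0.1 x) := fun x => by rw [← qAut_mul_apply, ← hudu, qAut_mul_apply]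
  have hwd : ∀ x, w.1 (ud.1 x) = ud.1 (w.1 x) := fun x => by
    rw [← qAut_mul_apply, ← qAut_mul_apply, hw, hud, ← map_mul, ← map_mul, Prod.mk_mul_mk, Prod.mk_mul_mk,
      h012.2.2.1, h012.2.2.2.1, one_mul, mul_one]
  have hwa : ∀ x, w.1 (a.1 x) = a.1 (w.1 x) := fun x => by
    rw [ha, qAut_mul_apply, qAut_mul_apply, hwX, hwb, hwX, qAut_mul_apply, qAut_mul_apply]
  have hadj : ∀ x, u0.1 x = -x → (a * ud).1 x = (ud * a).1 x := by
    intro x hx
    obtain ⟨p, hp⟩ : ∃ p, p = x + w.1 x := ⟨_, rfl⟩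
    obtain ⟨q, hq⟩ : ∃ q, q = x - w.1 x := ⟨_, rfl⟩
    have hu0w : u0.1 (w.1 x) = -(w.1 x) := by rw [← qAut_mul_apply, ← hzu, qAut_mul_apply, hx, map_neg]
    have hww : w.1 (w.1 x) = x := by
      rw [← qAut_mul_apply, hw, ← map_mul, Prod.mk_mul_mk, hr1, rho_mul_self, hl,
        show ((1 : qAut (Qd F)), (1 : qAut (Qd F))) = 1 from rfl, map_one]
      rfl
    have hpw : u0.1 p = -p ∧ w.1 p = p := by
      rw [hp]; refine ⟨by rw [map_add, hx, hu0w, neg_add], by rw [map_add, hww, add_comm]⟩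
    have hqw : u0.1 q = -q ∧ w.1 q = -q := by
      rw [hq]
      exact ⟨by rw [map_sub, hx, hu0w]; abel, by rw [map_sub, hww, neg_sub]⟩
    have hXp : a.1 p = -p := by
      rw [ha, qAut_mul_apply, qAut_mul_apply, hidb (X.1 p) (by rw [hu0X, hpw.1, map_neg]) (by rw [hwX, hpw.2]),
        map_neg, ← qAut_mul_apply, hXX]
      rfl
    have e1 : (a * ud).1 p = (ud * a).1 p := by
      have hdp : a.1 (ud.1 p) = -(ud.1 p) := by
        rw [ha, qAut_mul_apply, qAut_mul_apply, hidb (X.1 (ud.1 p)) (by rw [hu0X, hu0d, hpw.1, map_neg, map_neg])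
          (by rw [hwX, hwd, hpw.2]), map_neg, ← qAut_mul_apply, hXX]
        rfl
      rw [qAut_mul_apply, qAut_mul_apply, hdp, hXp, map_neg]
    have e2 : (a * ud).1 q = (ud * a).1 q := by
      rw [qAut_mul_apply, qAut_mul_apply, hidd q hqw.1 hqw.2, map_neg,
        hidd (a.1 q) (by rw [hu0a, hqw.1, map_neg]) (by rw [hwa, hqw.2, map_neg])]
    have hxpq : x = (2⁻¹ : F) • (p + q) := by
      rw [hp, hq, show x + w.1 x + (x - w.1 x) = (2 : F) • x by rw [two_smul]; abel, smul_smul, inv_mul_cancel₀ E.two,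
        one_smul]
    rw [hxpq, map_smul, map_smul, map_add, map_add, e1, e2]
  have hcom : a * ud = ud * a := by
    have hcK : (a * ud) * (ud * a)⁻¹ ∈ K := by
      have hda : ud * a * u0 = u0 * (ud * a) := ((show Commute ud u0 from hudu).mul_left hau).eq
      refine (hK _).2 ⟨M.mul_mem (M.mul_mem haM hudM) (M.inv_mem (M.mul_mem hudM haM)),
        (((show Commute a u0 from hau).mul_left hudu).mul_left (Commute.inv_left hda)).eq, fun x hx => ?_⟩
      have hx' : u0.1 (((ud * a)⁻¹).1 x) = -(((ud * a)⁻¹).1 x) := by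
        rw [← qAut_mul_apply, ← (Commute.inv_left (show Commute (ud * a) u0 from hda)).eq, qAut_mul_apply, hx, map_neg]
      rw [qAut_mul_apply, hadj _ hx', qApply_inv_self]
    exact mul_inv_eq_one.1 (hK1 _ hcK)
  have hat : a ∈ E.tw := by
    rw [hud, hr2] at hcom
    exact cent_pure E H (par_rho E.two _) (map_one _) (sp 2) (map_one _) (rho_mul_self _) (mul_one 1)
      (Or.inr ⟨rho_ne_one E.two _, rfl⟩) haM hcom
  obtain ⟨h₁, h₁M, h₁t, he⟩ := (pure_conj E H (Qd_bv 1) (by rw [bv_self]; exact IsSquare.one)).1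
  have hXh := fusion E H (M.mul_mem hXM h₁M) (by
    rw [show X * h₁ * E.tz * (X * h₁)⁻¹ = X * (h₁ * E.tz * h₁⁻¹) * X⁻¹ by group, he, ← hr1, ← hub,
      inv_eq_of_mul_eq_one_right hXX, ← ha]
    exact hat)
  have h' := E.tw.mul_mem hXh (E.tw.inv_mem h₁t)
  rwa [mul_inv_cancel_right] at h'

end CfsgLib.Classical22.WrThree
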