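/-
An intermediate group lies in the tensor wreath group.
-/
import Cfsg.Agent.Lib.Classical22.OrthWreathThree.Fusion

set_option autoImplicit false
set_option linter.all false
set_option maxHeartbeats 1000000

namespace CfsgLib.Classical22.WrThree

open CfsgLib.Classical

universe u

variable {F : Type u} [Field F] [Fintype F]
variable {V : Type u} [AddCommGroup V] [Module F V] [FiniteDimensional F V]
variable {Q : QuadraticForm F V} {T : U F →ₗ[F] U F →ₗ[F] V} {k : F} (E : Tens Q T k)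
variable {M : Subgroup (qAut Q)} (H : Hyp E M)
include E H

omit H in
/-- Even-square representatives are unchanged by products. -/
lemma inv_data {A B : qAut (Qd F)} (hA : par E.two A = 1) (h : E.kr (A, B) * E.kr (A, B) = 1) :
    A * A = 1 ∧ B * B = 1 := by
  rw [← map_mul, Prod.mk_mul_mk] at h
  exact E.kr_inj (B' := 1) (by rw [map_mul, hA, one_mul]) (map_one _) (h.trans (map_one E.kr).symm)

/-- The centraliser of an involution with square axes. -/
theorem cent_good {h l : qAut (Qd F)} (ph : par E.two h = 1) (pl : par E.two l = 1) (sh : spin E.two h = 1)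
    (sl : spin E.two l = 1) (hzz : E.kr (h, l) * E.kr (h, l) = 1) (hne : E.kr (h, l) ≠ 1) {g : qAut Q} (hg : g ∈ M)
    (hc : g * E.kr (h, l) = E.kr (h, l) * g) : g ∈ E.tw := by
  obtain ⟨hh, hl⟩ := inv_data E ph hzz
  by_cases h1 : h = 1
  · refine cent_pure E H ph pl sh sl hh hl (Or.inl ⟨h1, fun h2 => hne ?_⟩) hg hc
    rw [h1, h2]; exact map_one E.kr
  by_cases l1 : l = 1
  · exact cent_pure E H ph pl sh sl hh hl (Or.inr ⟨h1, l1⟩) hg hc
  obtain ⟨c, hc', rfl⟩ := (so_inv E.two hh ph).resolve_left h1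
  obtain ⟨d, hd', rfl⟩ := (so_inv E.two hl pl).resolve_left l1
  -- move both axes to the first basis vector
  have hmove : ∀ {c : U F} (hc : Qd F c ≠ 0), spin E.two (rho hc) = 1 →
      ∃ A : qAut (Qd F), A * rho hc * A⁻¹ = rho (Qd_bv 0) := by
    intro c hc hs
    obtain ⟨s, hs0, hs1⟩ := sq_root hc ((spin_eq_one_iff E.two hc).1 hs)
    obtain ⟨A, -, hA⟩ := exists_move (F := F) E.two (z := 0) (c := s⁻¹ • c) (d := bv 0) (zero_dotProduct _)
      (zero_dotProduct _) (by rw [hs1, bv_self]) (by rw [hs1]; exact one_ne_zero)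
    have hsc : Qd F (s⁻¹ • c) ≠ 0 := by rw [Qd_apply, hs1]; exact one_ne_zero
    have hd : Qd F (A.1 (s⁻¹ • c)) ≠ 0 := by rw [hA]; exact Qd_bv 0
    exact ⟨A, by rw [← rho_smul E.two hc hsc, rho_conj A hsc hd, rho_congr hA hd (Qd_bv 0)]⟩
  obtain ⟨A, hA⟩ := hmove hc' sh
  obtain ⟨B, hB⟩ := hmove hd' sl
  obtain ⟨C, hC0, hCp, hCs⟩ := exists_signs E.two (B * A⁻¹)
  have hA' : C * A * rho hc' * (C * A)⁻¹ = rho (Qd_bv 0) := by
    have hd : Qd F (C.1 (bv 0)) ≠ 0 := by rw [hC0]; exact Qd_bv 0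
    rw [show C * A * rho hc' * (C * A)⁻¹ = C * (A * rho hc' * A⁻¹) * C⁻¹ by group, hA, rho_conj C (Qd_bv 0) hd,
      rho_congr hC0 hd (Qd_bv 0)]
  have hkM : E.kr (C * A, B) ∈ M := krM E H (by rw [map_mul, hCp, map_mul, map_inv, inv_mul_cancel_right])
    (by rw [map_mul, hCs, map_mul, map_inv, inv_mul_cancel_right])
  have he : E.kr (C * A, B) * E.kr (rho hc', rho hd') * (E.kr (C * A, B))⁻¹ =
      E.kr (rho (Qd_bv 0), rho (Qd_bv 0)) := by
    rw [← map_inv, ← map_mul, ← map_mul, Prod.inv_mk, Prod.mk_mul_mk, Prod.mk_mul_mk, hA', hB]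
  obtain ⟨g', hg'⟩ : ∃ g', g' = E.kr (C * A, B) * g * (E.kr (C * A, B))⁻¹ := ⟨_, rfl⟩
  have h' : g' ∈ E.tw := cent_u0 E H (hg' ▸ M.mul_mem (M.mul_mem hkM hg) (M.inv_mem hkM)) (by
    rw [← he, hg']
    generalize E.kr (C * A, B) = x
    generalize E.kr (rho hc', rho hd') = y at hc
    calc x * g * x⁻¹ * (x * y * x⁻¹) = x * (g * y) * x⁻¹ := by group
      _ = x * (y * g) * x⁻¹ := by rw [hc]
      _ = _ := by group)
  rw [show g = (E.kr (C * A, B))⁻¹ * g' * E.kr (C * A, B) by rw [hg']; group]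
  exact E.tw.mul_mem (E.tw.mul_mem (E.tw.inv_mem (E.kr_tw _ _)) h') (E.kr_tw _ _)

/-- Elements centralising an involution with nonsquare axes. -/
theorem cent_n {n : U F} (hn : Qd F n ≠ 0) (hn0 : n ⬝ᵥ bv 0 = 0) (hns : spin E.two (rho hn) = -1) {g : qAut Q}
    (hg : g ∈ M) (hc : g * E.kr (rho hn, rho hn) = E.kr (rho hn, rho hn) * g) : g * E.tz * g⁻¹ ∈ E.tw := by
  classical
  haveI : Finite V := Module.finite_of_finite F
  haveI : Finite (V ≃ₗ[F] V) := Finite.of_injective _ DFunLike.coe_injective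
  obtain ⟨r0, hr0⟩ : ∃ r : qAut (Qd F), r = rho (Qd_bv 0) := ⟨_, rfl⟩
  obtain ⟨rn, hrn⟩ : ∃ r : qAut (Qd F), r = rho hn := ⟨_, rfl⟩
  rw [← hrn] at hns hc
  obtain ⟨fr, hfr⟩ : ∃ fr : Fin 3 → U F, fr = ![bv 0, n, crossProduct (bv 0) n] := ⟨_, rfl⟩
  have h0n : (bv 0 : U F) ⬝ᵥ n = 0 := by rw [dotProduct_comm, hn0]
  have hmm : crossProduct (bv 0 : U F) n ⬝ᵥ crossProduct (bv 0) n ≠ 0 := by
    rw [cross_dot_cross, h0n, bv_self, one_mul, zero_mul, sub_zero]
    exact hn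
  have horth : ∀ i j : Fin 3, i ≠ j → fr i ⬝ᵥ fr j = 0 := by
    have e1 := dot_self_cross (bv 0 : U F) n
    have e2 := dot_cross_self (bv 0 : U F) n
    intro i j hij
    rw [hfr]
    fin_cases i <;> fin_cases j <;> simp at hij ⊢ <;>
      first | assumption | (rw [dotProduct_comm]; assumption)
  have hone : ∀ i, fr i ⬝ᵥ fr i ≠ 0 := by
    intro i
    rw [hfr]
    fin_cases i
    · show (bv 0 : U F) ⬝ᵥ bv 0 ≠ 0
      rw [bv_self]; exact one_ne_zero
    · exact hn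
    · exact hmm
  have hQ : ∀ i, Qd F (fr i) ≠ 0 := fun i => hone i
  have hrho : ∀ a j : Fin 3, (rho (hQ a)).1 (fr j) = (((if j = a then 1 else -1 : ℤˣ) : ℤ) : F) • fr j := by
    intro a j
    by_cases h : j = a
    · subst h; rw [if_pos rfl, rho_axis]; simp
    · rw [if_neg h, rho_perp (hQ a) (horth j a h)]; simp
  have f0 : rho (hQ 0) = r0 := by rw [hr0]; exact rho_congr (by rw [hfr]; rfl) _ _
  have f1 : rho (hQ 1) = rn := by rw [hrn]; exact rho_congr (by rw [hfr]; rfl) _ _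
  obtain ⟨rm, hrm⟩ : ∃ r : qAut (Qd F), r = rho (hQ 2) := ⟨_, rfl⟩
  have hprodm : rm * rn = r0 := by
    rw [← f0, ← f1, hrm]
    refine ext_orth E.two (a := fr 0) (b := fr 1) (c := fr 2) (horth 0 1 (by decide)) (horth 0 2 (by decide))
      (horth 1 2 (by decide)) (hone 0) (hone 1) (hone 2) ?_ ?_ ?_ <;>
      (rw [qAut_mul_apply, hrho, map_smul, hrho, hrho, smul_smul]; simp (config := { decide := true }))
  have p0 : par E.two r0 = 1 := hr0 ▸ par_rho E.two _
  have pn : par E.two rn = 1 := hrn ▸ par_rho E.two _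
  have s0 : spin E.two r0 = 1 := by rw [hr0, spin_rho, bv_self, Spin.sqSign_one]
  obtain ⟨z₀, hz₀⟩ : ∃ z, z = E.kr (rn, rn) := ⟨_, rfl⟩
  obtain ⟨u0, hu0⟩ : ∃ z, z = E.kr (r0, r0) := ⟨_, rfl⟩
  rw [← hz₀] at hc
  have hr0n : r0 * rn = rn * r0 := by
    rw [← f0, ← f1]
    refine ext_orth E.two (a := fr 0) (b := fr 1) (c := fr 2) (horth 0 1 (by decide)) (horth 0 2 (by decide))
      (horth 1 2 (by decide)) (hone 0) (hone 1) (hone 2) ?_ ?_ ?_ <;>
      (rw [qAut_mul_apply, qAut_mul_apply, hrho, hrho, map_smul, map_smul, hrho, hrho, smul_smul, smul_smul, mul_comm])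
  have hu0z : u0 * z₀ = z₀ * u0 := by
    rw [hu0, hz₀, ← map_mul, ← map_mul, Prod.mk_mul_mk, Prod.mk_mul_mk, hr0n]
  have hu00 : u0 * u0 = 1 := by
    rw [hu0, hr0, ← map_mul, Prod.mk_mul_mk, rho_mul_self]; exact map_one E.kr
  have hz00 : z₀ * z₀ = 1 := by
    rw [hz₀, hrn, ← map_mul, Prod.mk_mul_mk, rho_mul_self]; exact map_one E.kr
  have hu0M : u0 ∈ M := hu0 ▸ krM E H rfl rfl
  have htzz : E.tz * z₀ = z₀ * E.tz := by
    rw [Tens.tz, hz₀, ← hr0, ← map_mul, ← map_mul, Prod.mk_mul_mk, Prod.mk_mul_mk, hr0n, one_mul, mul_one]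
  obtain ⟨X, hXdef⟩ : ∃ X, X = g * E.tz * g⁻¹ := ⟨_, rfl⟩
  rw [← hXdef]
  have hXM : X ∈ M := hXdef ▸ M.mul_mem (M.mul_mem hg (tz_mem E H)) (M.inv_mem hg)
  have hXX : X * X = 1 := by
    rw [hXdef, show g * E.tz * g⁻¹ * (g * E.tz * g⁻¹) = g * (E.tz * E.tz) * g⁻¹ by group, E.tz_sq, mul_one,
      mul_inv_cancel]
  have hcg : Commute g z₀ := hc
  have hXz : X * z₀ = z₀ * X := hXdef ▸ ((hcg.mul_left htzz).mul_left hcg.inv_left).eq
  have hfinish : X * u0 = u0 * X → X ∈ E.tw := fun h => cent_u0 E H hXM (by rw [← hr0, ← hu0]; exact h)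
  -- determinants on the minus space
  obtain ⟨s₀, hs₀⟩ : ∃ s : Fin 3 → Fin 3 → ℤˣ,
      s = fun i j => (if i = 1 then 1 else -1) * (if j = 1 then 1 else -1) := ⟨_, rfl⟩
  have hz0 : ∀ i j, z₀.1 (T (fr i) (fr j)) = ((s₀ i j : ℤ) : F) • T (fr i) (fr j) := fun i j => by
    rw [hz₀, ← f1, E.kr_T, hrho, hrho, map_smul, map_smul, LinearMap.smul_apply, smul_smul, hs₀]
    push_cast
    rw [mul_comm]
  have hdet : ∀ a b : Fin 3, LinearMap.det (onMinus z₀ (E.kr (rho (hQ a), rho (hQ b)))) =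
      (((∏ p : Fin 3 × Fin 3, if s₀ p.1 p.2 = -1 then
        (if p.1 = a then 1 else -1) * (if p.2 = b then 1 else -1) else 1 : ℤˣ) : ℤ) : F) := fun a b =>
    E.det_minus horth hone horth hone (t := fun i j => (if i = a then 1 else -1) * (if j = b then 1 else -1)) hz0
      fun i j => by
        rw [E.kr_T, hrho, hrho, map_smul, map_smul, LinearMap.smul_apply, smul_smul]
        push_cast
        rw [mul_comm]
  have hd0 : LinearMap.det (onMinus z₀ u0) = 1 := by
    rw [hu0, ← f0, hdet 0 0, hs₀]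
    have e : (∏ p : Fin 3 × Fin 3, if ((if p.1 = 1 then 1 else -1) * (if p.2 = 1 then 1 else -1) : ℤˣ) = -1 then
        (if p.1 = (0 : Fin 3) then 1 else -1) * (if p.2 = (0 : Fin 3) then 1 else -1) else 1 : ℤˣ) = 1 := by decide
    rw [e]; simp
  have hdnm : LinearMap.det (onMinus z₀ (E.kr (rn, rm))) = -1 := by
    rw [← f1, hrm, hdet 1 2, hs₀]
    have e : (∏ p : Fin 3 × Fin 3, if ((if p.1 = 1 then 1 else -1) * (if p.2 = 1 then 1 else -1) : ℤˣ) = -1 then
        (if p.1 = (1 : Fin 3) then 1 else -1) * (if p.2 = (2 : Fin 3) then 1 else -1) else 1 : ℤˣ) = -1 := by decide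
    rw [e]; simp
  have hdmn : LinearMap.det (onMinus z₀ (E.kr (rm, rn))) = -1 := by
    rw [← f1, hrm, hdet 2 1, hs₀]
    have e : (∏ p : Fin 3 × Fin 3, if ((if p.1 = 1 then 1 else -1) * (if p.2 = 1 then 1 else -1) : ℤˣ) = -1 then
        (if p.1 = (2 : Fin 3) then 1 else -1) * (if p.2 = (1 : Fin 3) then 1 else -1) else 1 : ℤˣ) = -1 := by decide
    rw [e]; simp
  have hdt : LinearMap.det (onMinus z₀ E.tz) = -1 := by
    rw [E.det_minus horth hone horth hone (t := fun i j => if i = 0 then 1 else -1) hz0 fun i j => by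
      rw [Tens.tz, ← hr0, ← f0, E.kr_T, hrho, map_smul, LinearMap.smul_apply]; rfl, hs₀]
    have e : (∏ p : Fin 3 × Fin 3, if ((if p.1 = 1 then 1 else -1) * (if p.2 = 1 then 1 else -1) : ℤˣ) = -1 then
        (if p.1 = (0 : Fin 3) then 1 else -1) else 1 : ℤˣ) = -1 := by decide
    rw [e]; simp
  have hdz : LinearMap.det z₀.1.toLinearMap = 1 := by
    rw [E.det_diag horth hone horth hone (c := fun i j => ((s₀ i j : ℤ) : F)) hz0, hs₀]
    have e : (∏ p : Fin 3 × Fin 3, ((if p.1 = 1 then 1 else -1) * (if p.2 = 1 then 1 else -1) : ℤˣ)) = 1 := by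
      decide
    have e' := congrArg (fun u : ℤˣ => ((u : ℤ) : F)) e
    simp only [Units.coe_prod, Int.cast_prod, Units.val_one, Int.cast_one] at e'
    exact e'
  have hdone : LinearMap.det (onMinus z₀ (1 : qAut Q)) = 1 := by
    have e : onMinus z₀ (1 : qAut Q) = LinearMap.id := LinearMap.ext fun x => by
      rw [onMinus_apply, LinearMap.id_apply]
      show (2⁻¹ : F) • (x - z₀.1 x + (x + z₀.1 x)) = x
      rw [show x - z₀.1 x + (x + z₀.1 x) = (2 : F) • x by rw [two_smul]; abel, smul_smul, inv_mul_cancel₀ E.two,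
        one_smul]
    rw [e, LinearMap.det_id]
  have hconj : ∀ a x, a * z₀ = z₀ * a → x * z₀ = z₀ * x →
      LinearMap.det (onMinus z₀ (a * x * a⁻¹)) = LinearMap.det (onMinus z₀ x) := by
    intro a x ha hx
    have ha' : a⁻¹ * z₀ = z₀ * a⁻¹ := (Commute.inv_left (show Commute a z₀ from ha)).eq
    have hax : a * x * z₀ = z₀ * (a * x) := ((show Commute a z₀ from ha).mul_left hx).eq
    rw [E.onMinus_mul hz00 hax ha', E.onMinus_mul hz00 ha hx, LinearMap.det_comp, LinearMap.det_comp]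
    have h1 : LinearMap.det (onMinus z₀ a) * LinearMap.det (onMinus z₀ a⁻¹) = 1 := by
      rw [← LinearMap.det_comp, ← E.onMinus_mul hz00 ha ha', mul_inv_cancel, hdone]
    linear_combination LinearMap.det (onMinus z₀ x) * h1
  have hdX : LinearMap.det (onMinus z₀ X) = -1 := by rw [hXdef, hconj g E.tz hc htzz, hdt]
  have hrc : Commute (u0 * X) z₀ := (show Commute u0 z₀ from hu0z).mul_left hXz
  have hne : ∀ a ∈ Subgroup.zpowers (u0 * X), a * u0 * a⁻¹ ≠ X := fun a ha h => by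
    obtain ⟨m, rfl⟩ := Subgroup.mem_zpowers_iff.1 ha
    have h1 := hconj _ u0 (hrc.zpow_left m).eq hu0z
    rw [h, hd0, hdX] at h1
    exact E.two (by linear_combination -h1)
  obtain ⟨m, z, hz, hz1, hzz, hzu, hzX, hcase⟩ := dihedral hu00 hXX hne
  have hzM : z ∈ M := hz ▸ M.pow_mem (M.mul_mem hu0M hXM) m
  have hzz₀ : z * z₀ = z₀ * z := hz ▸ (hrc.pow_left m).eq
  have hzt : z ∈ E.tw := cent_u0 E H hzM (by rw [← hr0, ← hu0]; exact hzu)
  have hdpow : ∀ i : ℕ, LinearMap.det (onMinus z₀ ((u0 * X) ^ i)) = (-1) ^ i := fun i => by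
    induction i with
    | zero => rw [pow_zero, hdone, pow_zero]
    | succ i ih =>
      rw [pow_succ, E.onMinus_mul hz00 (hrc.pow_left i).eq hrc.eq, LinearMap.det_comp, ih,
        E.onMinus_mul hz00 hu0z hXz, LinearMap.det_comp, hd0, hdX, pow_succ, one_mul]
  rcases hcase with ⟨hme, ⟨a, -, ha⟩, -⟩ | ⟨-, ⟨a, haz, ha⟩, -⟩
  · -- even: the classes are kept
    have hdz' : LinearMap.det (onMinus z₀ z) = 1 := by rw [hz, hdpow, hme.neg_one_pow]
    rcases inv_forms E hzt (H.sub hzM) hzz with ⟨h, l, rfl, ph, pl, shl, hh, hl⟩ | ⟨A, B, rfl, hAB, hBA⟩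
    · rcases Int.units_eq_one_or (spin E.two h) with hs | hs
      · exact cent_good E H ph pl hs (shl ▸ hs) hzz hz1 hXM hzX.symm
      obtain ⟨chn, cln⟩ := kr_comm E ph pn (hz₀ ▸ hzz₀)
      obtain ⟨ch0, cl0⟩ := kr_comm E ph p0 (hu0 ▸ hzu)
      have hclass : ∀ x : qAut (Qd F), x * x = 1 → par E.two x = 1 → spin E.two x = -1 → x * r0 = r0 * x →
          x * rn = rn * x → x = rn ∨ x = rm := by
        intro x hxx hxp hxs hx0 hxn
        obtain ⟨c, hc', rfl⟩ := (so_inv E.two hxx hxp).resolve_left fun h => by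
          rw [h, map_one] at hxs; exact absurd hxs (by decide)
        rcases rho_comm E.two hc' (Qd_bv 0) (by rw [← hr0]; exact hx0) with h' | h'
        · rw [h', ← hr0, s0] at hxs; exact absurd hxs (by decide)
        rcases rho_comm E.two hc' hn (by rw [← hrn]; exact hxn) with h'' | h''
        · exact Or.inl (h''.trans hrn.symm)
        right
        have hq : fr 2 ⬝ᵥ fr 2 ≠ 0 := hone 2
        obtain ⟨s, hs'⟩ : ∃ s, s = c ⬝ᵥ fr 2 / (fr 2 ⬝ᵥ fr 2) := ⟨_, rfl⟩
        have e : c = s • fr 2 := sub_eq_zero.1 (dot_zero E.two (horth 0 1 (by decide)) (horth 0 2 (by decide))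
          (horth 1 2 (by decide)) (hone 0) (hone 1) (hone 2)
          (by rw [sub_dotProduct, smul_dotProduct, horth 2 0 (by decide), smul_zero, sub_zero, hfr]; exact h')
          (by rw [sub_dotProduct, smul_dotProduct, horth 2 1 (by decide), smul_zero, sub_zero, hfr]; exact h'')
          (by rw [sub_dotProduct, smul_dotProduct, hs', smul_eq_mul, div_mul_cancel₀ _ hq, sub_self]))
        have hsQ : Qd F (s • fr 2) ≠ 0 := e ▸ hc'
        rw [rho_congr e hc' hsQ, rho_smul E.two (hQ 2) hsQ, hrm]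
      rcases hclass h hh ph hs ch0 chn with rfl | rfl <;>
        rcases hclass l hl pl (shl ▸ hs) cl0 cln with rfl | rfl
      · exfalso
        rw [← hz₀] at hz
        obtain ⟨x, hx0, hxz, hxr⟩ := E.exists_fix hz00 hrc.eq hdz (by
          rw [E.onMinus_mul hz00 hu0z hXz, LinearMap.det_comp, hd0, hdX, one_mul])
        have hxp : ∀ i : ℕ, ((u0 * X) ^ i).1 x = x := fun i => by
          induction i with
          | zero => rfl
          | succ i ih => rw [pow_succ, qAut_mul_apply, hxr, ih]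
        rw [hz, hxp] at hxz
        have h2x : (2 : F) • x = 0 := by rw [two_smul]; nth_rewrite 1 [hxz]; exact neg_add_cancel x
        exact hx0 ((smul_eq_zero.1 h2x).resolve_left E.two)
      · rw [hdnm] at hdz'
        exact absurd hdz' fun h => E.two (by linear_combination -h)
      · rw [hdmn] at hdz'
        exact absurd hdz' fun h => E.two (by linear_combination -h)
      · refine hfinish ?_
        have e : E.kr (l, l) * z₀ = u0 := by rw [hz₀, ← map_mul, Prod.mk_mul_mk, hprodm, hu0]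
        rw [← e]
        exact ((show Commute X _ from hzX.symm).mul_right hXz).eq
    · exfalso
      have hy : u0 * (E.swp * E.kr (A, B)) = E.swp * E.kr (r0 * A, r0 * B) := by
        rw [hu0, ← mul_assoc, show E.kr (r0, r0) * E.swp = E.swp * E.kr (r0, r0) from (E.swp_kr r0 r0).symm,
          mul_assoc, ← map_mul, Prod.mk_mul_mk]
      have hcA : B * r0 = r0 * B := by
        have h1 : E.kr (A, B) * E.kr (r0, r0) = E.kr (r0, r0) * E.kr (A, B) := by
          refine mul_left_cancel (a := E.swp) ?_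
          rw [hu0, ← mul_assoc (E.kr (r0, r0)), show E.kr (r0, r0) * E.swp = E.swp * E.kr (r0, r0) from
            (E.swp_kr r0 r0).symm, mul_assoc, mul_assoc] at hzu
          exact hzu
        have h2 : E.kr (A * r0 * A⁻¹, B * r0 * B⁻¹) = E.kr (r0, r0) := by
          rw [show (A * r0 * A⁻¹, B * r0 * B⁻¹) = (A, B) * (r0, r0) * (A, B)⁻¹ from rfl, map_mul, map_mul, map_inv, h1,
            mul_inv_cancel_right]
        exact mul_inv_eq_iff_eq_mul.1 (E.kr_inj (by
          rw [map_mul, map_mul, p0, map_inv, mul_one, mul_inv_cancel]) p0 h2).2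
      have h1 := trace_conj (g := a) (h := u0)
      rw [ha, hy, E.trace_swp, hu0, E.trace_kr, hr0, tr3_rho E.two, ← hr0] at h1
      rw [show r0 * B * (r0 * A) = r0 * (B * r0) * A by group, hcA, show r0 * (r0 * B) * A = (r0 * r0) * (B * A) by
        group, hBA, hr0, rho_mul_self, one_mul, tr3_negU] at h1
      exact four_ne E (by linear_combination -h1)
  · -- odd: a product of a conjugate with the double involution
    have haM : a ∈ M := (Subgroup.zpowers_le.2 (M.mul_mem hu0M hXM)) haz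
    have hform : (a * g) * E.tz * (a * g)⁻¹ = u0 * z := by
      rw [← ha, hXdef]; group
    obtain ⟨h, l, he, ph, pl, sh, sl⟩ := conj_form E H (M.mul_mem haM hg) (by
      rw [hform]
      exact E.tw.mul_mem (hu0 ▸ E.kr_tw _ _) hzt)
    have hze : z = E.kr (r0 * h, r0 * l) := by
      rw [show z = u0 * (u0 * z) by rw [← mul_assoc, hu00, one_mul], ← hform, he, hu0, ← map_mul, Prod.mk_mul_mk]
    subst hze
    exact cent_good E H (by rw [map_mul, p0, ph, one_mul]) (by rw [map_mul, p0, pl, one_mul])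
      (by rw [map_mul, s0, sh, one_mul]) (by rw [map_mul, s0, sl, one_mul]) hzz hz1 hXM hzX.symm

/-- Every conjugate of the double involution lies in the tensor wreath group. -/
theorem conj_u0 {g : qAut Q} (hg : g ∈ M) :
    g * E.kr (rho (Qd_bv 0), rho (Qd_bv 0)) * g⁻¹ ∈ E.tw := by
  classical
  haveI : Finite V := Module.finite_of_finite F
  haveI : Finite (V ≃ₗ[F] V) := Finite.of_injective _ DFunLike.coe_injective
  obtain ⟨r0, hr0⟩ : ∃ r : qAut (Qd F), r = rho (Qd_bv 0) := ⟨_, rfl⟩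
  obtain ⟨u0, hu0⟩ : ∃ z, z = E.kr (r0, r0) := ⟨_, rfl⟩
  rw [← hr0, ← hu0]
  have htz : E.tz = E.kr (r0, 1) := by rw [hr0]; rfl
  have p0 : par E.two r0 = 1 := hr0 ▸ par_rho E.two _
  have s0 : spin E.two r0 = 1 := by rw [hr0, spin_rho, bv_self, Spin.sqSign_one]
  have hne0 : r0 ≠ 1 := hr0 ▸ rho_ne_one E.two _
  obtain ⟨X, hX⟩ : ∃ X, X = g * u0 * g⁻¹ := ⟨_, rfl⟩
  rw [← hX]
  have hu0M : u0 ∈ M := hu0 ▸ krM E H rfl rfl
  have hXM : X ∈ M := hX ▸ M.mul_mem (M.mul_mem hg hu0M) (M.inv_mem hg)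
  have hXX : X * X = 1 := by
    rw [hX, show g * u0 * g⁻¹ * (g * u0 * g⁻¹) = g * (u0 * u0) * g⁻¹ by group, hu0, hr0, ← map_mul, Prod.mk_mul_mk,
      rho_mul_self, show ((1 : qAut (Qd F)), (1 : qAut (Qd F))) = 1 from rfl, map_one, mul_one, mul_inv_cancel]
  have hXtr : LinearMap.trace F V X.1.toLinearMap = 1 := by
    rw [hX, trace_conj, hu0, E.trace_kr, hr0, tr3_rho E.two]; norm_num
  have hne : ∀ a ∈ Subgroup.zpowers (E.tz * X), a * E.tz * a⁻¹ ≠ X := fun a _ h => four_ne E (by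
    rw [← hXtr, ← h, trace_conj, trace_tz E])
  obtain ⟨m, z, hz, hz1, hzz, hzt0, hzX, hcase⟩ := dihedral E.tz_sq hXX hne
  have hzM : z ∈ M := hz ▸ M.pow_mem (M.mul_mem (tz_mem E H) hXM) m
  have hzt : z ∈ E.tw := cent_t E H hzM hzt0
  rcases inv_forms E hzt (H.sub hzM) hzz with ⟨h, l, rfl, ph, pl, shl, hh, hl⟩ | ⟨A, B, rfl, -, -⟩
  swap
  · exact absurd (swap_comm E p0 hne0 (htz ▸ hzt0)) id
  rcases Int.units_eq_one_or (spin E.two h) with hs | hs
  · exact cent_good E H ph pl hs (shl ▸ hs) hzz hz1 hXM hzX.symm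
  obtain ⟨ch0, -⟩ := kr_comm E ph p0 (htz ▸ hzt0)
  have hh1 : h ≠ 1 := fun h' => by rw [h', map_one] at hs; exact absurd hs (by decide)
  have hl1 : l ≠ 1 := fun h' => by rw [shl, h', map_one] at hs; exact absurd hs (by decide)
  rcases hcase with ⟨-, ⟨a, -, ha⟩, -⟩ | ⟨-, -, ⟨a, haz, ha⟩⟩
  · exfalso
    have h1 := trace_conj (g := a) (h := E.tz)
    rw [ha, trace_tz E, htz, ← map_mul, Prod.mk_mul_mk, one_mul, E.trace_kr,
      tr3_inv E.two (A := r0 * h) ?_ ?_ ?_, tr3_inv E.two hl pl hl1] at h1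
    · exact four_ne E (by linear_combination h1)
    · calc r0 * h * (r0 * h) = r0 * (h * r0) * h := by group
        _ = (r0 * r0) * (h * h) := by rw [ch0]; group
        _ = 1 := by rw [hr0, rho_mul_self, hh, one_mul]
    · rw [map_mul, p0, ph, one_mul]
    · intro h'
      have h'' : h = r0⁻¹ := eq_inv_of_mul_eq_one_right h'
      rw [h'', map_inv, s0, inv_one] at hs
      exact absurd hs (by decide)
  · obtain ⟨c, hc, rfl⟩ := (so_inv E.two hh ph).resolve_left hh1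
    obtain ⟨d, hd, rfl⟩ := (so_inv E.two hl pl).resolve_left hl1
    have hc0 : c ⬝ᵥ bv 0 = 0 := by
      rcases rho_comm E.two hc (Qd_bv 0) (by rw [← hr0]; exact ch0) with h' | h'
      · rw [h', ← hr0, s0] at hs; exact absurd hs (by decide)
      · exact h'
    -- align the right axis with the left one
    obtain ⟨B, hBp, hBs, hB⟩ : ∃ B : qAut (Qd F), par E.two B = 1 ∧ spin E.two B = 1 ∧ B * rho hd * B⁻¹ = rho hc := by
      have hcc : c ⬝ᵥ c ≠ 0 := hc
      have hdd : d ⬝ᵥ d ≠ 0 := hd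
      obtain ⟨r, hr⟩ : IsSquare ((c ⬝ᵥ c) * (d ⬝ᵥ d)) := Spin.sqSign_eq_one.1 (by
        rw [Spin.sqSign_mul hcc hdd, ← spin_rho E.two hc, ← spin_rho E.two hd, ← shl, Int.units_mul_self])
      obtain ⟨B₁, -, hB₁⟩ := exists_move (F := F) E.two (z := 0) (c := (r / (d ⬝ᵥ d)) • d) (d := c) (zero_dotProduct _)
        (zero_dotProduct _) (by
          rw [smul_dotProduct, dotProduct_smul, smul_eq_mul, smul_eq_mul]
          field_simp
          linear_combination -hr) (by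
          rw [smul_dotProduct, dotProduct_smul, smul_eq_mul, smul_eq_mul]
          have hr0' : r ≠ 0 := fun h => mul_ne_zero hcc hdd (by rw [hr, h, mul_zero])
          exact mul_ne_zero (div_ne_zero hr0' hdd) (mul_ne_zero (div_ne_zero hr0' hdd) hdd))
      have hsd : Qd F ((r / (d ⬝ᵥ d)) • d) ≠ 0 := fun h => by
        have h2 := dot_map E.two B₁ ((r / (d ⬝ᵥ d)) • d) ((r / (d ⬝ᵥ d)) • d)
        rw [hB₁] at h2
        exact hcc (h2.trans h)
      have hB₁' : B₁ * rho hd * B₁⁻¹ = rho hc := by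
        rw [← rho_smul E.two hd hsd, rho_conj B₁ hsd (by rw [hB₁]; exact hc), rho_congr hB₁ _ hc]
      have hz' : ∀ z : Multiplicative (ZMod 2), z = 1 ∨ z = Multiplicative.ofAdd 1 := by decide
      obtain ⟨B₂, hB₂p, hB₂⟩ : ∃ B : qAut (Qd F), par E.two B = 1 ∧ B * rho hd * B⁻¹ = rho hc := by
        rcases hz' (par E.two B₁) with h' | h'
        · exact ⟨B₁, h', hB₁'⟩
        · refine ⟨negU F * B₁, by rw [map_mul, par_negU, h']; rfl, ?_⟩
          rw [show negU F * B₁ * rho hd * (negU F * B₁)⁻¹ = negU F * (B₁ * rho hd * B₁⁻¹) * (negU F)⁻¹ by group,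
            hB₁', negU_comm, mul_inv_cancel_right]
      rcases Int.units_eq_one_or (spin E.two B₂) with h' | h'
      · exact ⟨B₂, hB₂p, h', hB₂⟩
      · refine ⟨rho hc * B₂, by rw [map_mul, par_rho, hB₂p, one_mul], by rw [map_mul, hs, h']; rfl, ?_⟩
        rw [show rho hc * B₂ * rho hd * (rho hc * B₂)⁻¹ = rho hc * (B₂ * rho hd * B₂⁻¹) * (rho hc)⁻¹ by group,
          hB₂, mul_inv_cancel_right]
    obtain ⟨x, hx⟩ : ∃ x, x = E.kr (1, B) := ⟨_, rfl⟩
    have hxM : x ∈ M := hx ▸ krM E H (by rw [map_one, hBp]) (by rw [map_one, hBs])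
    have hxz : x * E.kr (rho hc, rho hd) * x⁻¹ = E.kr (rho hc, rho hc) := by
      rw [hx, ← map_inv, ← map_mul, ← map_mul, Prod.inv_mk, Prod.mk_mul_mk, Prod.mk_mul_mk, hB, inv_one, one_mul,
        mul_one]
    have hxt : x * E.tz * x⁻¹ = E.tz := by
      rw [hx, htz, ← map_inv, ← map_mul, ← map_mul, Prod.inv_mk, Prod.mk_mul_mk, Prod.mk_mul_mk, inv_one, one_mul,
        mul_one, mul_one, mul_inv_cancel]
    have haM : a ∈ M := (Subgroup.zpowers_le.2 (M.mul_mem (tz_mem E H) hXM)) haz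
    have hacomm : a * E.kr (rho hc, rho hd) = E.kr (rho hc, rho hd) * a := by
      obtain ⟨i, rfl⟩ := Subgroup.mem_zpowers_iff.1 haz
      exact (((show Commute E.tz _ from hzt0.symm).mul_left hzX.symm).zpow_left i).eq
    have hat : (x * a * x⁻¹) * E.tz * (x * a * x⁻¹)⁻¹ ∈ E.tw := by
      refine cent_n E H hc hc0 hs (M.mul_mem (M.mul_mem hxM haM) (M.inv_mem hxM)) ?_
      rw [← hxz]
      generalize E.kr (rho hc, rho hd) = y at hacomm
      calc x * a * x⁻¹ * (x * y * x⁻¹) = x * (a * y) * x⁻¹ := by group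
        _ = x * (y * a) * x⁻¹ := by rw [hacomm]
        _ = _ := by group
    have e : (x * a * x⁻¹) * E.tz * (x * a * x⁻¹)⁻¹ = x * (a * (x⁻¹ * E.tz * x) * a⁻¹) * x⁻¹ := by group
    have e' : x⁻¹ * E.tz * x = E.tz := by
      conv_lhs => rw [← hxt]
      group
    rw [e, e', ha] at hat
    have hxtw : x ∈ E.tw := hx ▸ E.kr_tw _ _
    have h1 := E.tw.mul_mem (E.tw.mul_mem (E.tw.inv_mem hxtw) hat) hxtw
    rw [show x⁻¹ * (x * (X * E.kr (rho hc, rho hd)) * x⁻¹) * x = X * E.kr (rho hc, rho hd) by group] at h1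
    have h2 := E.tw.mul_mem h1 (E.tw.inv_mem hzt)
    rwa [mul_inv_cancel_right] at h2

/-- An intermediate group lies in the tensor wreath group. -/
theorem le_tw : M ≤ E.tw := by
  intro g hg
  have hb : ∀ {i j : Fin 3}, j ≠ i → (rho (Qd_bv (F := F) i)).1 (bv j) = -bv j := fun h => rho_bv E h
  have sp : ∀ i, spin E.two (rho (Qd_bv (F := F) i)) = 1 := fun i => by rw [spin_rho, bv_self, Spin.sqSign_one]
  have h01 : rho (Qd_bv (F := F) 0) * rho (Qd_bv 1) = rho (Qd_bv 2) := ext_bv fun i => by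
    fin_cases i <;> simp (config := { decide := true }) [qAut_mul_apply, rho_axis, hb, map_neg]
  obtain ⟨A, -, hA⟩ := exists_move (F := F) E.two (z := 0) (c := bv 0) (d := bv 1) (zero_dotProduct _)
    (zero_dotProduct _) (by rw [bv_self, bv_self]) (by rw [bv_self]; exact one_ne_zero)
  have hA1 : A * rho (Qd_bv 0) * A⁻¹ = rho (Qd_bv 1) := by
    have hd : Qd F (A.1 (bv 0)) ≠ 0 := by rw [hA]; exact Qd_bv 1
    rw [rho_conj A (Qd_bv 0) hd, rho_congr hA hd (Qd_bv 1)]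
  obtain ⟨C, hC0, hCp, hCs⟩ := exists_signs E.two A
  have hC1 : C * rho (Qd_bv 0) * C⁻¹ = rho (Qd_bv 0) := by
    have hd : Qd F (C.1 (bv 0)) ≠ 0 := by rw [hC0]; exact Qd_bv 0
    rw [rho_conj C (Qd_bv 0) hd, rho_congr hC0 hd (Qd_bv 0)]
  obtain ⟨x, hx⟩ : ∃ x, x = E.kr (A, C) := ⟨_, rfl⟩
  have hxM : x ∈ M := hx ▸ krM E H hCp.symm hCs.symm
  have hx1 : x * E.kr (rho (Qd_bv 0), rho (Qd_bv 0)) * x⁻¹ = E.kr (rho (Qd_bv 1), rho (Qd_bv 0)) := by
    rw [hx, ← map_inv, ← map_mul, ← map_mul, Prod.inv_mk, Prod.mk_mul_mk, Prod.mk_mul_mk, hA1, hC1]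
  have h1 := E.tw.mul_mem (conj_u0 E H hg) (conj_u0 E H (M.mul_mem hg hxM))
  rw [show g * E.kr (rho (Qd_bv 0), rho (Qd_bv 0)) * g⁻¹ *
      (g * x * E.kr (rho (Qd_bv 0), rho (Qd_bv 0)) * (g * x)⁻¹) =
    g * (E.kr (rho (Qd_bv 0), rho (Qd_bv 0)) * (x * E.kr (rho (Qd_bv 0), rho (Qd_bv 0)) * x⁻¹)) * g⁻¹ by group,
    hx1, ← map_mul, Prod.mk_mul_mk, h01, rho_mul_self] at h1
  obtain ⟨h, hM, ht, he⟩ := (pure_conj E H (Qd_bv 2) (by rw [bv_self]; exact IsSquare.one)).1
  have h2 := fusion E H (M.mul_mem hg hM) (by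
    rw [show g * h * E.tz * (g * h)⁻¹ = g * (h * E.tz * h⁻¹) * g⁻¹ by group, he]
    exact h1)
  have h3 := E.tw.mul_mem h2 (E.tw.inv_mem ht)
  rwa [mul_inv_cancel_right] at h3

end CfsgLib.Classical22.WrThree
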