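/-
The tensor wreath stabiliser of a nine-dimensional orthogonal space is maximal in Omega.
-/
import Cfsg.Agent.Lib.Classical22.OrthWreathThree.Final
import Cfsg.Agent.Lib.Classical22.OrthMaxMatrix
import Cfsg.Agent.Lib.Classical22.TensorWreathMax.Base

set_option autoImplicit false
set_option linter.all false

namespace CfsgLib.Classical22.WrThree

open CfsgLib.Classical
open scoped Matrix MatrixGroups

universe u

variable {F : Type u} [Field F] [Fintype F]

/-- A plane vector of any non-zero value. -/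
lemma exists_pair (h2 : (2 : F) ≠ 0) {a b : F} (ha : a ≠ 0) (hb : b ≠ 0) (c : F) :
    ∃ x y : F, a * (x * x) + b * (y * y) = c := by
  have hchar : Fintype.card F % 2 = 1 := FiniteField.odd_card_of_char_ne_two fun h => h2 (by
    obtain ⟨p, hp⟩ := CharP.exists F
    rw [ringChar.eq F p] at h
    subst h
    exact CharTwo.two_eq_zero)
  obtain ⟨x, y, hxy⟩ := FiniteField.exists_root_sum_quadratic (R := F) (f := Polynomial.C a * Polynomial.X ^ 2)
    (g := Polynomial.C b * Polynomial.X ^ 2 - Polynomial.C c) (Polynomial.degree_C_mul_X_pow 2 ha) (by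
      rw [Polynomial.degree_sub_eq_left_of_degree_lt] <;> rw [Polynomial.degree_C_mul_X_pow 2 hb]
      · rfl
      · exact lt_of_le_of_lt Polynomial.degree_C_le (by norm_num)) hchar
  simp only [Polynomial.eval_mul, Polynomial.eval_C, Polynomial.eval_pow, Polynomial.eval_X, Polynomial.eval_sub] at hxy
  exact ⟨x, y, by linear_combination hxy⟩

/-- A symmetric non-degenerate form on three-space is similar to the dot product. -/
lemma exists_scalar_basis (h2 : (2 : F) ≠ 0) {f : U F → U F → F} (hf : Cfsg.Geo.IsSymmetricForm f) :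
    ∃ (d : F) (R : GL (Fin 3) F), d ≠ 0 ∧
      ∀ x y, f ((R : Matrix (Fin 3) (Fin 3) F) *ᵥ x) ((R : Matrix (Fin 3) (Fin 3) F) *ᵥ y) = d * (x ⬝ᵥ y) := by
  classical
  haveI : Invertible (2 : F) := invertibleOfNonzero h2
  obtain ⟨B, hB⟩ : ∃ B : LinearMap.BilinForm F (U F), ∀ x y, B x y = f x y :=
    ⟨LinearMap.mk₂ F f (fun a b c => hf.bilinear.add_left a b c)
      (fun r a c => by rw [hf.bilinear.smul_left, smul_eq_mul]) (fun a b c => hf.bilinear.add_right a b c)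
      fun r a c => by rw [hf.bilinear.smul_right, smul_eq_mul], fun _ _ => rfl⟩
  have hS : LinearMap.IsSymm B := ⟨fun x y => by rw [hB, hB]; exact hf.symm x y⟩
  obtain ⟨w₀, hw₀⟩ := LinearMap.BilinForm.exists_orthogonal_basis hS
  obtain ⟨w, hw⟩ : ∃ w : Module.Basis (Fin 3) F (U F), B.iIsOrtho w :=
    ⟨w₀.reindex (finCongr (by simp)), fun i j hij => by
      simp only [Function.onFun, Module.Basis.reindex_apply]
      exact hw₀ fun h => hij ((finCongr (show Module.finrank F (U F) = 3 by simp)).symm.injective h)⟩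
  have ho : ∀ i j : Fin 3, i ≠ j → f (w i) (w j) = 0 := fun i j h => by rw [← hB]; exact hw h
  have hne : ∀ i, f (w i) (w i) ≠ 0 := fun i h0 => by
    obtain ⟨x, hx⟩ := (hf.nondegenerate (w i) (w.ne_zero i)).2
    apply hx
    rw [← hB, ← w.sum_repr x, map_sum]
    refine Finset.sum_eq_zero fun j _ => ?_
    rw [map_smul, hB]
    by_cases h : i = j
    · subst h; rw [h0, smul_zero]
    · rw [ho i j h, smul_zero]
  obtain ⟨a, ha⟩ : ∃ a, a = f (w 0) (w 0) := ⟨_, rfl⟩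
  obtain ⟨b, hb⟩ : ∃ b, b = f (w 1) (w 1) := ⟨_, rfl⟩
  obtain ⟨c, hc⟩ : ∃ c, c = f (w 2) (w 2) := ⟨_, rfl⟩
  have ha0 : a ≠ 0 := ha ▸ hne 0
  have hb0 : b ≠ 0 := hb ▸ hne 1
  have hc0 : c ≠ 0 := hc ▸ hne 2
  obtain ⟨x, y, hxy⟩ := exists_pair h2 ha0 hb0 c
  obtain ⟨x', y', hxy'⟩ := exists_pair h2 hc0 hc0 (a * b * c)
  obtain ⟨u₁, hu₁⟩ : ∃ u, u = x • w 0 + y • w 1 := ⟨_, rfl⟩
  obtain ⟨u, hu⟩ : ∃ u : Fin 3 → U F,
      u = ![x' • u₁ + y' • w 2, (-(b * y)) • w 0 + (a * x) • w 1, (-y') • u₁ + x' • w 2] := ⟨_, rfl⟩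
  have hexp : ∀ a₁ a₂ a₃ b₁ b₂ b₃ : F,
      f (a₁ • w 0 + a₂ • w 1 + a₃ • w 2) (b₁ • w 0 + b₂ • w 1 + b₃ • w 2) = a₁ * b₁ * a + a₂ * b₂ * b + a₃ * b₃ * c :=
    fun a₁ a₂ a₃ b₁ b₂ b₃ => by
      simp only [← hB, map_add, map_smul, LinearMap.add_apply, LinearMap.smul_apply, smul_eq_mul]
      simp only [hB, ho 0 1 (by decide), ho 0 2 (by decide), ho 1 0 (by decide), ho 1 2 (by decide),
        ho 2 0 (by decide), ho 2 1 (by decide), ← ha, ← hb, ← hc]
      ring
  obtain ⟨cf, hcf⟩ : ∃ cf : Fin 3 → Fin 3 → F,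
      cf = ![![x' * x, x' * y, y'], ![-(b * y), a * x, 0], ![-y' * x, -y' * y, x']] := ⟨_, rfl⟩
  have hu' : ∀ i, u i = cf i 0 • w 0 + cf i 1 • w 1 + cf i 2 • w 2 := fun i => by
    rw [hu, hcf]
    fin_cases i <;> simp [hu₁] <;> module
  have hgram : ∀ i j, f (u i) (u j) = if i = j then a * b * c else 0 := by
    intro i j
    rw [hu' i, hu' j, hexp, hcf]
    fin_cases i <;> fin_cases j <;> simp <;>
      first
        | ring1
        | linear_combination x' * x' * hxy + hxy'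
        | linear_combination a * b * hxy
        | linear_combination y' * y' * hxy + hxy'
        | linear_combination -(x' * y') * hxy
  obtain ⟨d, hd⟩ : ∃ d, d = a * b * c := ⟨_, rfl⟩
  have hd0 : d ≠ 0 := hd ▸ mul_ne_zero (mul_ne_zero ha0 hb0) hc0
  obtain ⟨R₀, hR₀⟩ : ∃ R : Matrix (Fin 3) (Fin 3) F, R = Matrix.of fun i j => u j i := ⟨_, rfl⟩
  have hmv : ∀ z, R₀ *ᵥ z = ∑ i, z i • u i := fun z => by
    funext l
    simp [hR₀, Matrix.mulVec, dotProduct, Finset.sum_apply, mul_comm]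
  have hf' : ∀ z z', f (R₀ *ᵥ z) (R₀ *ᵥ z') = d * (z ⬝ᵥ z') := fun z z' => by
    rw [← hB, hmv, hmv]
    simp only [map_sum, map_smul, LinearMap.sum_apply, LinearMap.smul_apply, hB, hgram, ← hd, smul_eq_mul,
      mul_ite, mul_zero, Finset.sum_ite_eq, Finset.sum_ite_eq', Finset.mem_univ, if_true, dotProduct, Finset.mul_sum]
    refine Finset.sum_congr rfl fun i _ => ?_
    ring
  have hinj : Function.Injective R₀.mulVec := fun z z' h => by
    funext i
    have h1 := hf' z (bv i)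
    rw [h, hf', dot_bv, dot_bv] at h1
    exact (mul_left_cancel₀ hd0 h1).symm
  obtain ⟨R, hR⟩ := (Matrix.mulVec_injective_iff_isUnit.1 hinj)
  exact ⟨d, R, hd0, fun z z' => by rw [hR]; exact hf' z z'⟩

/-- A pair of linear maps preserving a product of dot products is orthogonal up to reciprocal scalars. -/
lemma exists_orth_pair (h2 : (2 : F) ≠ 0) {A B : U F →ₗ[F] U F}
    (h : ∀ a b c d, (A a ⬝ᵥ A c) * (B b ⬝ᵥ B d) = (a ⬝ᵥ c) * (b ⬝ᵥ d)) :
    ∃ (A' B' : qAut (Qd F)) (s : F), s ≠ 0 ∧ (∀ a, A a = s • A'.1 a) ∧ ∀ b, B b = s⁻¹ • B'.1 b := by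
  obtain ⟨ν, hν⟩ : ∃ ν, ν = B (bv 0) ⬝ᵥ B (bv 0) := ⟨_, rfl⟩
  obtain ⟨μ, hμ⟩ : ∃ μ, μ = A (bv 0) ⬝ᵥ A (bv 0) := ⟨_, rfl⟩
  have hμν : μ * ν = 1 := by rw [hμ, hν, h, bv_self, one_mul]
  have hμ0 : μ ≠ 0 := left_ne_zero_of_mul_eq_one hμν
  have hν0 : ν ≠ 0 := right_ne_zero_of_mul_eq_one hμν
  have hA : ∀ a c, A a ⬝ᵥ A c = μ * (a ⬝ᵥ c) := fun a c => mul_right_cancel₀ hν0 (by
    rw [mul_comm μ, mul_assoc, hμν, mul_one, hν, h, bv_self, mul_one])
  have hB : ∀ b d, B b ⬝ᵥ B d = ν * (b ⬝ᵥ d) := fun b d => mul_left_cancel₀ hμ0 (by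
    rw [← mul_assoc μ ν, hμν, one_mul, hμ, h, bv_self, one_mul])
  -- the multiplier is a square
  obtain ⟨N, hN⟩ : ∃ N, N = LinearMap.toMatrix' A := ⟨_, rfl⟩
  have hNN : Nᵀ * N = μ • (1 : Matrix (Fin 3) (Fin 3) F) := by
    ext i j
    have h1 := hA (bv i) (bv j)
    rw [bv_dot] at h1
    rw [hN, Matrix.smul_apply, Matrix.one_apply, smul_eq_mul, ← h1]
    simp [Matrix.mul_apply, dotProduct, LinearMap.toMatrix'_apply, bv]
  have hdet : N.det * N.det = μ * μ * μ := by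
    have h1 := congrArg Matrix.det hNN
    rw [Matrix.det_mul, Matrix.det_transpose, Matrix.det_smul, Matrix.det_one, mul_one, Fintype.card_fin] at h1
    rw [h1]; ring
  obtain ⟨s, hs⟩ : ∃ s, s = N.det / μ := ⟨_, rfl⟩
  have hss : s * s = μ := by
    rw [hs]
    field_simp
    linear_combination hdet
  have hs0 : s ≠ 0 := fun h0 => hμ0 (by rw [← hss, h0, mul_zero])
  have hsν : s * s * ν = 1 := by rw [hss, hμν]
  have hmk : ∀ (L : U F →ₗ[F] U F) (r : F), (∀ a c, (r • L) a ⬝ᵥ (r • L) c = a ⬝ᵥ c) →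
      ∃ g : qAut (Qd F), ∀ a, g.1 a = r • L a := fun L r hL => by
    have hinj : Function.Injective (r • L) := (injective_iff_map_eq_zero (r • L)).2 fun a ha => funext fun i => by
      have := hL a (bv i)
      rw [ha, zero_dotProduct, dot_bv] at this
      exact this.symm
    exact ⟨⟨LinearEquiv.ofInjectiveEndo (r • L) hinj, fun a => by
      show Qd F ((r • L) a) = Qd F a
      rw [Qd_apply, Qd_apply, hL]⟩, fun a => rfl⟩
  obtain ⟨A', hA'⟩ := hmk A s⁻¹ fun a c => by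
    rw [LinearMap.smul_apply, LinearMap.smul_apply, smul_dotProduct, dotProduct_smul, hA, ← hss, smul_eq_mul,
      smul_eq_mul]
    field_simp
  obtain ⟨B', hB'⟩ := hmk B s fun a c => by
    rw [LinearMap.smul_apply, LinearMap.smul_apply, smul_dotProduct, dotProduct_smul, hB, smul_eq_mul, smul_eq_mul]
    linear_combination (a ⬝ᵥ c) * hsν
  exact ⟨A', B', s, hs0, fun a => by rw [hA', smul_smul, mul_inv_cancel₀ hs0, one_smul],
    fun b => by rw [hB', smul_smul, inv_mul_cancel₀ hs0, one_smul]⟩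

section

variable {V : Type u} [AddCommGroup V] [Module F V] [FiniteDimensional F V]
variable {Q : QuadraticForm F V} {T : U F →ₗ[F] U F →ₗ[F] V} {k : F} (E : Tens Q T k)
include E

/-- An element of Omega outside the tensor wreath group. -/
lemma not_le_tw : ¬ eichGroup Q ≤ E.tw := by
  intro hle
  obtain ⟨v, e, f, S⟩ := exists_frame (F := F) E.two
  have hQv : Q (T v v) = 0 := by rw [E.quad, S.vv]; ring
  have hp : QuadraticMap.polar Q (T v v) (T v e) = 0 := by rw [E.polar, S.vv]; ring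
  have hq : Q (T v e) = 0 := by rw [E.quad, S.vv]; ring
  obtain ⟨g, hg⟩ : ∃ g, g = eich Q (T v v) (T v e) := ⟨_, rfl⟩
  have hga : ∀ y z, g.1 (T y z) = T y z + (k * ((y ⬝ᵥ v) * (z ⬝ᵥ v))) • T v e -
      (k * ((y ⬝ᵥ v) * (z ⬝ᵥ e))) • T v v := fun y z => by
    rw [hg, eich_apply Q hQv hp, hq, zero_mul, add_zero, E.polar, E.polar]
  obtain ⟨A, B, h | h⟩ := hle (hg ▸ eich_mem Q hQv hp : g ∈ eichGroup Q)
  · -- no exchange
    have hl : ∀ z, (A.1 v ⬝ᵥ f) • B.1 z = z := fun z => by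
      have h1 := hga v z
      rw [h, E.kr_T, S.vv] at h1
      have h1' := congrArg (E.cl f) h1
      simp only [zero_mul, mul_zero, zero_smul, add_zero, sub_zero, E.cl_T, S.vf, one_smul] at h1'
      exact h1'
    have hl0 : A.1 v ⬝ᵥ f ≠ 0 := fun h0 => S.v0 (by
      have := hl v
      rwa [h0, zero_smul, eq_comm] at this)
    have hB : ∀ z, B.1 z = (A.1 v ⬝ᵥ f)⁻¹ • z := fun z => by
      conv_rhs => rw [← hl z, smul_smul, inv_mul_cancel₀ hl0, one_smul]
    have h1 := congrArg (E.cl f) (hga f f)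
    rw [h, E.kr_T, hB f, map_sub, map_add, map_smul (E.cl f), map_smul (E.cl f), E.cl_T, E.cl_T, E.cl_T, E.cl_T, S.ff,
      S.fv, S.fe, zero_smul, mul_zero, mul_zero, zero_smul, sub_zero, mul_one, mul_one, S.vf, one_smul, zero_add,
      smul_smul] at h1
    have h2 := congrArg (fun x => x ⬝ᵥ e) h1
    simp only [smul_dotProduct, S.fe, S.ee, smul_eq_mul, mul_zero] at h2
    exact E.k0 (by linear_combination h2)
  · -- exchange
    have h1 : ∀ z, (B.1 z ⬝ᵥ f) • A.1 v = z := fun z => by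
      have h1 := hga v z
      rw [h, qAut_mul_apply, E.kr_T, E.swp_T, S.vv] at h1
      have h1' := congrArg (E.cl f) h1
      simp only [zero_mul, mul_zero, zero_smul, add_zero, sub_zero, E.cl_T, S.vf, one_smul] at h1'
      exact h1'
    have hv := h1 v
    have he := h1 e
    have hb : B.1 v ⬝ᵥ f ≠ 0 := fun h0 => S.v0 (by rw [← hv, h0, zero_smul])
    have h3 : e = (B.1 e ⬝ᵥ f / (B.1 v ⬝ᵥ f)) • v := by
      calc e = (B.1 e ⬝ᵥ f) • A.1 v := he.symm
        _ = (B.1 e ⬝ᵥ f / (B.1 v ⬝ᵥ f)) • ((B.1 v ⬝ᵥ f) • A.1 v) := by rw [smul_smul, div_mul_cancel₀ _ hb]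
        _ = (B.1 e ⬝ᵥ f / (B.1 v ⬝ᵥ f)) • v := congrArg _ hv
    have h4 := congrArg (fun x => x ⬝ᵥ e) h3
    simp only [smul_dotProduct, S.ve, S.ee, smul_zero] at h4
    exact neg_ne_zero.2 (one_ne_zero (α := F)) h4

end

variable {ι : Type} [Fintype ι] [DecidableEq ι]

open CfsgLib.Classical22.TWMax in
/-- The tensor wreath stabiliser of a nine-dimensional orthogonal space. -/
theorem isMaximalIn_orthWreathThree (h2 : (2 : F) ≠ 0) (h5 : 5 ≤ Fintype.card F) (Q₀ : (ι → F) → F)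
    (hQ₀ : Cfsg.Geo.IsNondegenerateQuadraticForm Q₀) (e : ι ≃ (Fin 2 → Fin 3)) (P : GL ι F)
    (f₁ : (Fin 3 → F) → (Fin 3 → F) → F) (hf : Cfsg.Geo.IsSymmetricForm f₁)
    (hP : Cfsg.Geo.IsTensorPowerFormStructure id (QuadraticMap.polar Q₀) f₁ e P) :
    Cfsg.Geo.IsMaximalIn (Cfsg.Geo.omegaGL Q₀) (Cfsg.Geo.tensorWreathSubgroup 3 2 e P ⊓ Cfsg.Geo.omegaGL Q₀) := by
  obtain ⟨q, hq, hQ⟩ := exists_quadraticForm hQ₀
  subst hq
  classical
  obtain ⟨c, hc0, hc⟩ := hP
  obtain ⟨d, R, hd0, hR⟩ := exists_scalar_basis h2 hf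
  have hgram : ∀ x y : U F, ∑ i, ∑ j, x i * Cfsg.Geo.gramMatrix f₁ i j * y j = f₁ x y := by
    intro x y
    obtain ⟨B, hB⟩ : ∃ B : LinearMap.BilinForm F (U F), ∀ x y, B x y = f₁ x y :=
      ⟨LinearMap.mk₂ F f₁ (fun a b c => hf.bilinear.add_left a b c)
        (fun r a c => by rw [hf.bilinear.smul_left, smul_eq_mul]) (fun a b c => hf.bilinear.add_right a b c)
        fun r a c => by rw [hf.bilinear.smul_right, smul_eq_mul], fun _ _ => rfl⟩
    have hsum : ∀ z : U F, ∑ i, z i • (Pi.single i (1 : F) : U F) = z := fun z => by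
      funext l; simp [Finset.sum_apply, Pi.single_apply]
    conv_rhs => rw [← hB, ← hsum x, ← hsum y]
    simp only [map_sum, map_smul, LinearMap.sum_apply, LinearMap.smul_apply, hB, smul_eq_mul, Finset.mul_sum]
    rw [Finset.sum_comm]
    refine Finset.sum_congr rfl fun i _ => Finset.sum_congr rfl fun j _ => ?_
    show _ * f₁ _ _ * _ = _
    ring
  -- pure vectors
  obtain ⟨Φ, hΦ⟩ : ∃ Φ : ((Fin 2 → Fin 3) → F) →ₗ[F] (ι → F), ∀ x, Φ x = (P : Matrix ι ι F) *ᵥ (x ∘ e) :=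
    ⟨(Matrix.toLin' (P : Matrix ι ι F)).comp (LinearMap.funLeft F F e), fun x => by
      rw [LinearMap.comp_apply, Matrix.toLin'_apply]; rfl⟩
  let T : U F →ₗ[F] U F →ₗ[F] (ι → F) :=
    LinearMap.mk₂ F (fun a b => Φ (pv ![(R : Matrix (Fin 3) (Fin 3) F) *ᵥ a, (R : Matrix (Fin 3) (Fin 3) F) *ᵥ b]))
      (fun a a' b => by
        rw [← map_add]; congr 1; funext x
        simp [pv, Fin.prod_univ_two, Matrix.mulVec_add, add_mul])
      (fun r a b => by
        rw [← map_smul]; congr 1; funext x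
        simp [pv, Fin.prod_univ_two, Matrix.mulVec_smul, mul_assoc])
      (fun a b b' => by
        rw [← map_add]; congr 1; funext x
        simp [pv, Fin.prod_univ_two, Matrix.mulVec_add, mul_add])
      (fun r a b => by
        rw [← map_smul]; congr 1; funext x
        simp [pv, Fin.prod_univ_two, Matrix.mulVec_smul, mul_left_comm])
  have hT : ∀ a b, T a b = Φ (pv ![(R : Matrix (Fin 3) (Fin 3) F) *ᵥ a, (R : Matrix (Fin 3) (Fin 3) F) *ᵥ b]) :=
    fun a b => rfl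
  have hcard : Fintype.card ι = 9 := by rw [Fintype.card_congr e]; simp
  have E : Tens q T (c * (d * d)) := by
    refine ⟨mul_ne_zero hc0 (mul_ne_zero hd0 hd0), h2, fun a b a' b' => ?_, by
      rw [Module.finrank_fintype_fun_eq_card, hcard]⟩
    rw [hT, hT, hΦ, hΦ, hc]
    have key : ∀ X Y : Fin 2 → U F, ∑ x, ∑ y, pv X x * (∏ i, Cfsg.Geo.gramMatrix f₁ (x i) (y i)) * id (pv Y y) =
        ∏ i, f₁ (X i) (Y i) := fun X Y => by
      simp only [pv, id, ← Finset.prod_mul_distrib, ← hgram]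
      rw [Fintype.prod_sum]
      exact Finset.sum_congr rfl fun x _ =>
        (Fintype.prod_sum fun i j => X i (x i) * Cfsg.Geo.gramMatrix f₁ (x i) j * Y i j).symm
    rw [key, Fin.prod_univ_two]
    simp only [Matrix.cons_val_zero, Matrix.cons_val_one, hR]
    ring
  -- the stabiliser
  have hrm : ∀ (z : GL (Fin 2 → Fin 3) F) (x : (Fin 2 → Fin 3) → F),
      ((MulAut.conj P (Cfsg.Geo.glReindex e.symm z) : GL ι F) : Matrix ι ι F) *ᵥ Φ x =
        Φ ((z : Matrix (Fin 2 → Fin 3) (Fin 2 → Fin 3) F) *ᵥ x) := fun z x => by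
    rw [hΦ, hΦ, MulAut.conj_apply, Units.val_mul, Units.val_mul, ← Matrix.mulVec_mulVec, ← Matrix.mulVec_mulVec,
      Matrix.mulVec_mulVec (x ∘ e) ((P⁻¹ : GL ι F) : Matrix ι ι F), Units.inv_mul, Matrix.one_mulVec]
    congr 1
    show (Matrix.reindex e.symm e.symm (z : Matrix (Fin 2 → Fin 3) (Fin 2 → Fin 3) F)) *ᵥ (x ∘ e) = _
    rw [Matrix.reindex_apply, Matrix.submatrix_mulVec_equiv]
    simp only [Equiv.symm_symm, Function.comp_assoc, Equiv.self_comp_symm, Function.comp_id]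
  obtain ⟨Ri, hRi⟩ : ∃ Ri : Matrix (Fin 3) (Fin 3) F, Ri = ((R⁻¹ : GL (Fin 3) F) : Matrix (Fin 3) (Fin 3) F) :=
    ⟨_, rfl⟩
  have hRRi : ∀ x, (R : Matrix (Fin 3) (Fin 3) F) *ᵥ (Ri *ᵥ x) = x := fun x => by
    rw [hRi, Matrix.mulVec_mulVec, Units.mul_inv, Matrix.one_mulVec]
  have hS : (Cfsg.Geo.tensorWreathSubgroup 3 2 e P).comap (qHom q) = E.tw := by
    ext g
    rw [Subgroup.mem_comap]
    constructor
    · rintro ⟨_, ⟨z, hz, rfl⟩, hzg⟩
      obtain ⟨σ, gs, hgs⟩ := (mem_standard_iff z).1 hz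
      obtain ⟨L, hL⟩ : ∃ L : Fin 2 → (U F →ₗ[F] U F), ∀ i a,
          L i a = Ri *ᵥ ((gs i : Matrix (Fin 3) (Fin 3) F) *ᵥ ((R : Matrix (Fin 3) (Fin 3) F) *ᵥ a)) :=
        ⟨fun i => Matrix.toLin' (Ri * (gs i : Matrix (Fin 3) (Fin 3) F) * (R : Matrix (Fin 3) (Fin 3) F)),
          fun i a => by rw [Matrix.toLin'_apply, Matrix.mulVec_mulVec, Matrix.mulVec_mulVec, Matrix.mul_assoc]⟩
      have hact : ∀ a b, g.1 (T a b) = T (L 0 (![a, b] (σ 0))) (L 1 (![a, b] (σ 1))) := by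
        intro a b
        rw [← qHom_mulVec, ← hzg, hT, hT]
        refine (hrm z _).trans ?_
        rw [hgs]
        congr 2
        funext i
        have hv : ∀ j : Fin 2, ![(R : Matrix (Fin 3) (Fin 3) F) *ᵥ a, (R : Matrix (Fin 3) (Fin 3) F) *ᵥ b] j =
            (R : Matrix (Fin 3) (Fin 3) F) *ᵥ (![a, b] j) := fun j => by fin_cases j <;> rfl
        rw [hv]
        fin_cases i <;> simp [hL, hRRi, -Matrix.mulVec_mulVec]
      rcases (show ∀ σ : Equiv.Perm (Fin 2), σ = 1 ∨ σ = Equiv.swap 0 1 by decide) σ with rfl | rfl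
      · have h1 : ∀ a b, g.1 (T a b) = T (L 0 a) (L 1 b) := fun a b => by rw [hact]; rfl
        obtain ⟨A, B, s, hs, hA, hB⟩ := exists_orth_pair h2 (A := L 0) (B := L 1) fun a b a' b' => by
          have h := qAut_polar g (T a b) (T a' b')
          rw [h1, h1, E.polar, E.polar] at h
          exact mul_left_cancel₀ E.k0 h
        refine ⟨A, B, Or.inl (E.ext_aut fun a b => ?_)⟩
        rw [h1, E.kr_T, hA, hB, map_smul, map_smul, LinearMap.smul_apply, smul_smul, inv_mul_cancel₀ hs, one_smul]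
      · have h1 : ∀ a b, g.1 (T a b) = T (L 0 b) (L 1 a) := fun a b => by rw [hact]; rfl
        obtain ⟨A, B, s, hs, hA, hB⟩ := exists_orth_pair h2 (A := L 1) (B := L 0) fun a b a' b' => by
          have h := qAut_polar g (T a b) (T a' b')
          rw [h1, h1, E.polar, E.polar] at h
          rw [mul_comm (L 1 a ⬝ᵥ L 1 a')]
          exact mul_left_cancel₀ E.k0 h
        refine ⟨A, B, Or.inr (E.ext_aut fun a b => ?_)⟩
        rw [h1, qAut_mul_apply, E.kr_T, E.swp_T, hA, hB, map_smul, map_smul, LinearMap.smul_apply, smul_smul,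
          mul_inv_cancel₀ hs, one_smul]
    · intro hg
      have hmk : ∀ (x : qAut q) (σ : Equiv.Perm (Fin 2)) (gs : Fin 2 → GL (Fin 3) F),
          (∀ a b, x.1 (T a b) = Φ (pv fun i => (gs i : Matrix (Fin 3) (Fin 3) F) *ᵥ
            ((R : Matrix (Fin 3) (Fin 3) F) *ᵥ (![a, b] (σ i))))) →
          qHom q x ∈ Cfsg.Geo.tensorWreathSubgroup 3 2 e P := by
        intro x σ gs hx
        refine ⟨Cfsg.Geo.glReindex e.symm (tGL gs * permGL σ.symm), ⟨_, (mem_standard_iff _).2 ⟨σ, gs, fun xs => ?_⟩,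
          rfl⟩, ?_⟩
        · rw [CfsgLib.Transvec.mul_mulVec, permGL_apply, tGL_apply]
          simp
        refine Units.ext (Matrix.toLin'.injective (E.ext fun a b => ?_))
        rw [Matrix.toLin'_apply, Matrix.toLin'_apply, qHom_mulVec, hx, hT]
        refine (hrm _ _).trans ?_
        rw [CfsgLib.Transvec.mul_mulVec, permGL_apply, tGL_apply]
        congr 2
        funext i
        rw [Equiv.symm_symm]
        generalize σ i = j
        fin_cases j <;> rfl
      have hconj : ∀ A : qAut (Qd F), ∃ G : GL (Fin 3) F, ∀ a,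
          (G : Matrix (Fin 3) (Fin 3) F) *ᵥ ((R : Matrix (Fin 3) (Fin 3) F) *ᵥ a) =
            (R : Matrix (Fin 3) (Fin 3) F) *ᵥ A.1 a := fun A => by
        refine ⟨R * qHom (Qd F) A * R⁻¹, fun a => ?_⟩
        rw [Units.val_mul, Units.val_mul, ← Matrix.mulVec_mulVec, ← Matrix.mulVec_mulVec,
          Matrix.mulVec_mulVec a ((R⁻¹ : GL (Fin 3) F) : Matrix (Fin 3) (Fin 3) F), Units.inv_mul, Matrix.one_mulVec,
          qHom_mulVec]
      obtain ⟨A, B, rfl | rfl⟩ := hg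
      · obtain ⟨GA, hGA⟩ := hconj A
        obtain ⟨GB, hGB⟩ := hconj B
        refine hmk _ 1 ![GA, GB] fun a b => ?_
        rw [E.kr_T, hT]
        congr 2
        funext i
        fin_cases i
        · exact (hGA a).symm
        · exact (hGB b).symm
      · obtain ⟨GA, hGA⟩ := hconj A
        obtain ⟨GB, hGB⟩ := hconj B
        refine hmk _ (Equiv.swap 0 1) ![GB, GA] fun a b => ?_
        rw [qAut_mul_apply, E.kr_T, E.swp_T, hT]
        congr 2
        funext i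
        fin_cases i
        · exact (hGB b).symm
        · exact (hGA a).symm
  refine isMaximalIn_omegaGL q hQ (by omega) hS (not_le_tw E) fun M hle hsub hnot => ?_
  by_contra hproper
  exact hnot (le_tw E ⟨hle, hsub, hproper, h5⟩)

end CfsgLib.Classical22.WrThree
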